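-- Ported by helper29 from Groth/Agent/Lib/helper12/Diag.lean (MonoidAlgebra -> AddMonoidAlgebra).
import Groth.Agent.Lib.helper12.Comod
import Mathlib.RingTheory.Coalgebra.MonoidAlgebra
import Mathlib.RingTheory.Bialgebra.MonoidAlgebra
import Mathlib.Tactic

/-!
Weight decomposition of comodules over a monoid algebra `k[M]`, over any commutative ring (helper12).
-/

set_option autoImplicit false
set_option linter.unusedSectionVars false
universe u v w

open TensorProduct

namespace Groth.Agent.H29AddDiag

open Groth.Agent.H12Comod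

variable {k : Type u} [CommRing k] {M : Type v}
variable {V : Type w} [AddCommGroup V] [Module k V] [HopfRep.Comod k (AddMonoidAlgebra k M) V]

/-- the coordinate functional at `m` -/
noncomputable def coord (k : Type u) [CommRing k] {M : Type v} (m : M) : AddMonoidAlgebra k M →ₗ[k] k :=
  (AddMonoidAlgebra.basis M k).coord m

lemma coord_single [DecidableEq M] (m n : M) (r : k) :
    coord k m (AddMonoidAlgebra.single n r) = if n = m then r else 0 := by
  simp only [coord, Module.Basis.coord_apply]
  show (AddMonoidAlgebra.single n r).coeff m = _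
  rw [AddMonoidAlgebra.coeff_single, Finsupp.single_apply]

variable (k) in
/-- the projection onto the weight space of `m` -/
noncomputable def p (m : M) : V →ₗ[k] V :=
  T V (coord k m) ∘ₗ HopfRep.Comod.coact (k := k) (A := AddMonoidAlgebra k M) (V := V)

lemma comul_single_one (n : M) (r : k) :
    CoalgebraStruct.comul (R := k) (AddMonoidAlgebra.single n r) =
      AddMonoidAlgebra.single n r ⊗ₜ[k] AddMonoidAlgebra.single n (1 : k) := by
  rw [AddMonoidAlgebra.comul_single]
  simp only [CommSemiring.comul_apply, TensorProduct.map_tmul, AddMonoidAlgebra.lsingle_apply]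
  have : AddMonoidAlgebra.single n r = r • AddMonoidAlgebra.single n (1 : k) := by simp
  rw [this, TensorProduct.tmul_smul, TensorProduct.smul_tmul']

lemma S_coord (m : M) : S (coord k m) = AddMonoidAlgebra.lsingle (R := k) m ∘ₗ coord k m := by
  classical
  apply AddMonoidAlgebra.lhom_ext'
  intro n
  apply LinearMap.ext_ring
  show S (coord k m) (AddMonoidAlgebra.single n (1 : k)) =
    AddMonoidAlgebra.single m (coord k m (AddMonoidAlgebra.single n (1 : k)))
  rw [S, LinearMap.comp_apply, comul_single_one, T_tmul, coord_single]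
  split_ifs with h
  · subst h; simp
  · simp

lemma lTensor_lsingle_coord (m : M) (t : V ⊗[k] AddMonoidAlgebra k M) :
    (AddMonoidAlgebra.lsingle (R := k) m ∘ₗ coord k m).lTensor V t =
      T V (coord k m) t ⊗ₜ[k] AddMonoidAlgebra.single m (1 : k) := by
  induction t using TensorProduct.induction_on with
  | zero => simp
  | tmul x c =>
    simp only [LinearMap.lTensor_tmul, LinearMap.comp_apply, AddMonoidAlgebra.lsingle_apply, T_tmul]
    rw [TensorProduct.smul_tmul]
    congr 1
    simp
  | add x y hx hy => simp only [map_add, TensorProduct.add_tmul, hx, hy]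

theorem coact_p (m : M) (v : V) :
    HopfRep.Comod.coact (k := k) (A := AddMonoidAlgebra k M) (p k m v) =
      p k m v ⊗ₜ[k] AddMonoidAlgebra.single m (1 : k) := by
  rw [p, LinearMap.comp_apply, coact_T_coact, S_coord, lTensor_lsingle_coord]

theorem p_p [DecidableEq M] (m n : M) (v : V) :
    p k m (p k n v) = if n = m then p k n v else 0 := by
  rw [p, LinearMap.comp_apply, coact_p, T_tmul, coord_single]
  split_ifs <;> simp

/-- the basis expansion of the coaction -/
noncomputable def ex [DecidableEq M] (v : V) : M →₀ V :=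
  TensorProduct.equivFinsuppOfBasisRight (M := V) (AddMonoidAlgebra.basis M k)
    (HopfRep.Comod.coact (k := k) (A := AddMonoidAlgebra k M) v)

lemma ex_apply [DecidableEq M] (v : V) (m : M) : ex (k := k) v m = p k m v := by
  rw [ex, TensorProduct.equivFinsuppOfBasisRight_apply]
  rfl

lemma coact_eq_sum [DecidableEq M] (v : V) :
    HopfRep.Comod.coact (k := k) (A := AddMonoidAlgebra k M) v =
      ∑ m ∈ (ex (k := k) v).support, p k m v ⊗ₜ[k] AddMonoidAlgebra.single m (1 : k) := by
  have h := (TensorProduct.equivFinsuppOfBasisRight (M := V) (AddMonoidAlgebra.basis M k)).symm_apply_apply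
    (HopfRep.Comod.coact (k := k) (A := AddMonoidAlgebra k M) v)
  rw [TensorProduct.equivFinsuppOfBasisRight_symm_apply] at h
  rw [← h, Finsupp.sum]
  refine Finset.sum_congr rfl fun m _ => ?_
  rw [AddMonoidAlgebra.basis_apply]
  congr 1
  exact ex_apply v m

theorem sum_p [DecidableEq M] (v : V) : v = ∑ m ∈ (ex (k := k) (M := M) v).support, p k m v := by
  have hcu := LinearMap.congr_fun
    (HopfRep.Comod.counit_comp (k := k) (A := AddMonoidAlgebra k M) (V := V)) v
  simp only [LinearMap.comp_apply, LinearMap.flip_apply, TensorProduct.mk_apply] at hcu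
  have hv : v = T V (CoalgebraStruct.counit (R := k) (A := AddMonoidAlgebra k M))
      (HopfRep.Comod.coact (k := k) (A := AddMonoidAlgebra k M) v) := by
    simp only [T, LinearMap.comp_apply, LinearEquiv.coe_coe]
    rw [hcu]; simp
  conv_lhs => rw [hv, coact_eq_sum, map_sum]
  refine Finset.sum_congr rfl fun m _ => ?_
  rw [T_tmul, AddMonoidAlgebra.counit_single]
  simp

theorem p_mem_of_isSubcomod {W : Submodule k V}
    (hW : HopfRep.IsSubcomod (k := k) (A := AddMonoidAlgebra k M) W) (m : M) {w : V} (hw : w ∈ W) :
    p k m w ∈ W := by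
  obtain ⟨y, hy⟩ := hW w hw
  rw [p, LinearMap.comp_apply, ← hy]
  have key : ∀ y : W ⊗[k] AddMonoidAlgebra k M,
      T V (coord k m) (W.subtype.rTensor (AddMonoidAlgebra k M) y) ∈ W := by
    intro y
    induction y using TensorProduct.induction_on with
    | zero => simp
    | tmul x c => simpa using W.smul_mem _ x.2
    | add a b ha hb => rw [map_add, map_add]; exact W.add_mem ha hb
  exact key y

theorem isSubcomod_of_p_mem (X : Submodule k V) (h : ∀ m : M, ∀ x ∈ X, p k m x ∈ X) :
    HopfRep.IsSubcomod (k := k) (A := AddMonoidAlgebra k M) X := by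
  classical
  intro x hx
  rw [coact_eq_sum]
  refine Submodule.sum_mem _ fun m _ => ?_
  exact ⟨(⟨p k m x, h m x hx⟩ : X) ⊗ₜ[k] AddMonoidAlgebra.single m (1 : k), by simp⟩

end Groth.Agent.H29AddDiag
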