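import Groth.Agent.Lib.helper29.ArtinOpen
import Groth.Agent.S5342
import Mathlib
set_option autoImplicit false
universe u
open CategoryTheory CategoryTheory.Limits AlgebraicGeometry TopologicalSpace

namespace Groth.Agent.Lib.helper29.ArtinConn
open Groth.Agent.Lib.helper29.ArtinOpen

lemma connectedSpace_of_closedImm_surj {X Y : Scheme.{u}} (j : X ⟶ Y) [IsClosedImmersion j]
    [Surjective j] [ConnectedSpace Y] : ConnectedSpace X := by
  have hinj : Function.Injective j.base := j.isClosedEmbedding.injective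
  let e : X ≃ₜ Y := (Equiv.ofBijective j.base ⟨hinj, j.surjective⟩).toHomeomorphOfContinuousOpen
    j.continuous (isOpenMap_of_closedImm_surj j)
  exact e.connectedSpace_iff.2 inferInstance

lemma residue_factor (A : Type u) [CommRing A] [IsArtinianRing A] [IsLocalRing A]
    (K : Type u) [Field K] (φ : A →+* K) :
    ∃ ψ : IsLocalRing.ResidueField A →+* K, ψ.comp (IsLocalRing.residue A) = φ := by
  have hnil : IsNilpotent (IsLocalRing.maximalIdeal A) :=
    (isArtinianRing_iff_isNilpotent_maximalIdeal A).1 inferInstance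
  obtain ⟨n, hn⟩ := hnil
  have hker : ∀ a ∈ IsLocalRing.maximalIdeal A, φ a = 0 := by
    intro a ha
    have h1 : a ^ n ∈ (IsLocalRing.maximalIdeal A) ^ n := Ideal.pow_mem_pow ha n
    rw [hn] at h1
    have h2 : a ^ n = 0 := h1
    have h3 : φ a ^ n = 0 := by rw [← map_pow, h2, map_zero]
    exact pow_eq_zero_iff (n := n) (by
      rintro rfl
      simp at h3) |>.1 h3
  exact ⟨Ideal.Quotient.lift (IsLocalRing.maximalIdeal A) φ hker, by
    ext a; exact Ideal.Quotient.lift_mk (IsLocalRing.maximalIdeal A) φ hker⟩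

theorem geomConn_artin (A : Type u) [CommRing A] [IsArtinianRing A] [IsLocalRing A]
    {X : Scheme.{u}} (f : X ⟶ Spec (CommRingCat.of A)) [ConnectedSpace X]
    (x : Spec (CommRingCat.of A) ⟶ X) (hx : x ≫ f = 𝟙 _) : GeometricallyConnected f := by
  let k := IsLocalRing.ResidueField A
  let ik : Spec (CommRingCat.of k) ⟶ Spec (CommRingCat.of A) :=
    Spec.map (CommRingCat.ofHom (IsLocalRing.residue A))
  have hcl : IsClosedImmersion ik :=
    IsClosedImmersion.spec_of_surjective _ Ideal.Quotient.mk_surjective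
  have hsurj : Surjective ik :=
    ⟨fun y => ⟨IsLocalRing.closedPoint k, Subsingleton.elim _ _⟩⟩
  have hXk : ConnectedSpace ↥(pullback f ik) := connectedSpace_of_closedImm_surj (pullback.fst f ik)
  let xk : Spec (CommRingCat.of k) ⟶ pullback f ik :=
    pullback.lift (ik ≫ x) (𝟙 _) (by rw [Category.assoc, hx, Category.comp_id, Category.id_comp])
  have hxk : xk ≫ pullback.snd f ik = 𝟙 _ := pullback.lift_snd _ _ _
  have h1 : GeometricallyConnected (xk ≫ pullback.snd f ik) := by
    rw [hxk]; exact Groth.Agent.S5342.geomConn_of_isIso _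
  have hgk : GeometricallyConnected (pullback.snd f ik) :=
    Groth.Agent.S2502.result xk (pullback.snd f ik)
  refine ⟨fun K _ y Z fst snd h => ?_⟩
  obtain ⟨φ, rfl⟩ := Spec.map_surjective y
  obtain ⟨ψ, hψ⟩ := residue_factor A K φ.hom
  let y' : Spec (CommRingCat.of K) ⟶ Spec (CommRingCat.of k) := Spec.map (CommRingCat.ofHom ψ)
  have hy : y' ≫ ik = Spec.map φ := by
    rw [← Spec.map_comp]
    congr 1
    ext a
    exact congrArg (fun t => t a) hψ
  rw [← hy] at h
  have hw : fst ≫ f = (snd ≫ y') ≫ ik := by rw [Category.assoc]; exact h.w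
  have hpb : IsPullback (pullback.lift fst (snd ≫ y') hw) snd (pullback.snd f ik) y' := by
    have e : pullback.lift fst (snd ≫ y') hw ≫ pullback.fst f ik = fst := pullback.lift_fst _ _ _
    refine IsPullback.of_right (t := (IsPullback.of_hasPullback f ik)) ?_ (pullback.lift_snd _ _ _)
    rw [e]
    exact h
  exact hgk.geometrically_connectedSpace y' _ snd hpb

end Groth.Agent.Lib.helper29.ArtinConn
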