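import Mathlib
set_option autoImplicit false
universe u
open CategoryTheory CategoryTheory.Limits AlgebraicGeometry

namespace Groth.Agent.Lib.helper29.ArtinOpen

instance subsingleton_spec_artin (A : Type u) [CommRing A] [IsArtinianRing A] [IsLocalRing A] :
    Subsingleton (Spec (CommRingCat.of A)) := by
  refine ⟨fun p q => ?_⟩
  have := p.isPrime
  have := q.isPrime
  have hp : p.asIdeal = IsLocalRing.maximalIdeal A :=
    IsLocalRing.eq_maximalIdeal (IsArtinianRing.isMaximal_of_isPrime p.asIdeal)
  have hq : q.asIdeal = IsLocalRing.maximalIdeal A :=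
    IsLocalRing.eq_maximalIdeal (IsArtinianRing.isMaximal_of_isPrime q.asIdeal)
  exact PrimeSpectrum.ext (hp.trans hq.symm)

lemma isOpenMap_of_closedImm_surj {X Y : Scheme.{u}} (j : X ⟶ Y) [IsClosedImmersion j]
    [Surjective j] : IsOpenMap j.base := by
  have h1 : Topology.IsEmbedding j.base := j.isClosedEmbedding.isEmbedding
  have h2 : Set.range j.base = Set.univ := Set.range_eq_univ.2 j.surjective
  exact (Topology.IsOpenEmbedding.mk h1 (by rw [h2]; exact isOpen_univ)).isOpenMap

/-- base change along a morphism factoring through `g` -/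
lemma of_factor {P : MorphismProperty Scheme.{u}} [P.IsStableUnderBaseChange]
    {X S S' T Y : Scheme.{u}} (f : X ⟶ S) (g : S' ⟶ S) (hP : P (pullback.snd f g)) (a : T ⟶ S')
    {p₁ : Y ⟶ X} {p₂ : Y ⟶ T} (sq : IsPullback p₁ p₂ f (a ≫ g)) : P p₂ := by
  have hw : p₁ ≫ f = (p₂ ≫ a) ≫ g := by rw [Category.assoc]; exact sq.w
  have h1 : IsPullback (pullback.lift p₁ (p₂ ≫ a) hw) p₂ (pullback.snd f g) a := by
    have e : pullback.lift p₁ (p₂ ≫ a) hw ≫ pullback.fst f g = p₁ := pullback.lift_fst _ _ _
    refine IsPullback.of_right (t := (IsPullback.of_hasPullback f g)) ?_ (pullback.lift_snd _ _ _)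
    rw [e]
    exact sq
  exact P.of_isPullback h1 hP

theorem univOpen_artin (A : Type u) [CommRing A] [IsArtinianRing A] [IsLocalRing A]
    {X : Scheme.{u}} (f : X ⟶ Spec (CommRingCat.of A)) : UniversallyOpen f := by
  let k := IsLocalRing.ResidueField A
  let ik : Spec (CommRingCat.of k) ⟶ Spec (CommRingCat.of A) :=
    Spec.map (CommRingCat.ofHom (IsLocalRing.residue A))
  have hcl : IsClosedImmersion ik :=
    IsClosedImmersion.spec_of_surjective _ Ideal.Quotient.mk_surjective
  have hsurj : Surjective ik :=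
    ⟨fun y => ⟨IsLocalRing.closedPoint k, Subsingleton.elim _ _⟩⟩
  have hfk : UniversallyOpen (pullback.snd f ik) := inferInstance
  refine ⟨?_⟩
  intro X' T i₁ g f' sq
  -- base change to the residue field
  let jT := pullback.fst g ik
  let jX := pullback.fst f' jT
  let fk' := pullback.snd f' jT
  have hjT : IsOpenMap jT.base := isOpenMap_of_closedImm_surj jT
  have sq2 : IsPullback (jX ≫ i₁) fk' f (pullback.snd g ik ≫ ik) := by
    have h1 := (IsPullback.of_hasPullback f' jT).paste_horiz sq.flip
    have : jT ≫ g = pullback.snd g ik ≫ ik := pullback.condition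
    rw [this] at h1
    exact h1
  have hfk' : UniversallyOpen fk' := of_factor f ik hfk (pullback.snd g ik) sq2
  have hopen : IsOpenMap fk'.base := fk'.isOpenMap
  have hjXs : Function.Surjective jX.base := jX.surjective
  intro U hU
  have : f'.base '' U = jT.base '' (fk'.base '' (jX.base ⁻¹' U)) := by
    ext t
    constructor
    · rintro ⟨x, hx, rfl⟩
      obtain ⟨x', rfl⟩ := hjXs x
      refine ⟨fk'.base x', ⟨x', hx, rfl⟩, ?_⟩
      rw [← Scheme.Hom.comp_apply, ← Scheme.Hom.comp_apply]
      have hc : jX ≫ f' = fk' ≫ jT := pullback.condition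
      rw [hc]
    · rintro ⟨_, ⟨x', hx', rfl⟩, rfl⟩
      refine ⟨jX.base x', hx', ?_⟩
      rw [← Scheme.Hom.comp_apply, ← Scheme.Hom.comp_apply]
      have hc : jX ≫ f' = fk' ≫ jT := pullback.condition
      rw [hc]
  rw [this]
  exact hjT _ (hopen _ (hU.preimage jX.continuous))

end Groth.Agent.Lib.helper29.ArtinOpen
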