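import Mathlib.RingTheory.TensorProduct.Free
import Mathlib.LinearAlgebra.Charpoly.ToMatrix
import Mathlib.LinearAlgebra.Matrix.Charpoly.Coeff
import Mathlib.LinearAlgebra.Matrix.ToLin
import Mathlib.Tactic

/-!
Characteristic polynomial of multiplication by an element of `S ⊗ A` over `S`, for `A` a finite free
`k`-algebra: base change, Cayley–Hamilton and invariance under `S`-algebra automorphisms (helper29).
-/

set_option autoImplicit false
set_option linter.unusedSectionVars false
universe u v w w'

open TensorProduct

namespace Groth.Agent.Lib.helper29.CharpolyBC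

variable {k : Type u} [CommRing k] {A : Type v} [CommRing A] [Algebra k A]
variable {ι : Type} [Fintype ι] [DecidableEq ι] (b : Module.Basis ι k A)

/-- the matrix of multiplication by `y` on `S ⊗ A` over `S` -/
noncomputable def Mat (S : Type w) [CommRing S] [Algebra k S] (y : S ⊗[k] A) : Matrix ι ι S :=
  Algebra.leftMulMatrix (Algebra.TensorProduct.basis S b) y

variable {S : Type w} [CommRing S] [Algebra k S] {S' : Type w'} [CommRing S'] [Algebra k S']

theorem repr_map (σ : S →ₐ[k] S') (z : S ⊗[k] A) (i : ι) :
    (Algebra.TensorProduct.basis S' b).repr (Algebra.TensorProduct.map σ (AlgHom.id k A) z) i =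
      σ ((Algebra.TensorProduct.basis S b).repr z i) := by
  induction z using TensorProduct.induction_on with
  | zero => simp
  | tmul s a =>
    rw [Algebra.TensorProduct.map_tmul, Algebra.TensorProduct.basis_repr_tmul,
      Algebra.TensorProduct.basis_repr_tmul]
    simp
  | add x y hx hy =>
    rw [map_add, map_add, map_add, Finsupp.add_apply, Finsupp.add_apply, map_add, hx, hy]

theorem Mat_map (σ : S →ₐ[k] S') (y : S ⊗[k] A) :
    (Mat b S y).map σ = Mat b S' (Algebra.TensorProduct.map σ (AlgHom.id k A) y) := by
  ext i j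
  rw [Matrix.map_apply, Mat, Mat, Algebra.leftMulMatrix_eq_repr_mul,
    Algebra.leftMulMatrix_eq_repr_mul, ← repr_map b σ, map_mul]
  congr 3
  rw [Algebra.TensorProduct.basis_apply, Algebra.TensorProduct.basis_apply,
    Algebra.TensorProduct.map_tmul, map_one]
  rfl

theorem aeval_charpoly (y : S ⊗[k] A) : Polynomial.aeval y (Mat b S y).charpoly = 0 := by
  have h := Matrix.aeval_self_charpoly (Mat b S y)
  have h2 : Polynomial.aeval (Mat b S y) (Mat b S y).charpoly =
      Algebra.leftMulMatrix (Algebra.TensorProduct.basis S b)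
        (Polynomial.aeval y (Mat b S y).charpoly) := by
    rw [Mat, ← Polynomial.aeval_algHom_apply]
  rw [h2] at h
  exact Algebra.leftMulMatrix_injective (Algebra.TensorProduct.basis S b) (by rw [h, map_zero])

theorem charpoly_algEquiv (Ψ : S ⊗[k] A ≃ₐ[S] S ⊗[k] A) (y : S ⊗[k] A) :
    (Mat b S (Ψ y)).charpoly = (Mat b S y).charpoly := by
  haveI : Module.Free S (S ⊗[k] A) := Module.Free.of_basis (Algebra.TensorProduct.basis S b)
  haveI : Module.Finite S (S ⊗[k] A) := Module.Finite.of_basis (Algebra.TensorProduct.basis S b)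
  rw [Mat, Mat, Algebra.leftMulMatrix_apply, Algebra.leftMulMatrix_apply,
    LinearMap.charpoly_toMatrix, LinearMap.charpoly_toMatrix]
  have : Algebra.lmul S (S ⊗[k] A) (Ψ y) =
      Ψ.toLinearEquiv.conj (Algebra.lmul S (S ⊗[k] A) y) := by
    apply LinearMap.ext
    intro z
    rw [LinearEquiv.conj_apply]
    simp only [LinearMap.comp_apply, LinearEquiv.coe_coe, Algebra.lmul_algebraMap,
      AlgEquiv.toLinearEquiv_apply, AlgEquiv.toLinearEquiv_symm]
    simp
  rw [this, LinearEquiv.charpoly_conj]

end Groth.Agent.Lib.helper29.CharpolyBC
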