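import Mathlib

/-!
# Coinvariant ideals of tame families of endomorphisms of a local algebra
`J ⊓ 𝔪² ≤ 𝔪 J` for the ideal generated by `a - τ a`.
-/

set_option autoImplicit false
universe u

namespace Groth.Agent.H29.CoinvIdeal

variable {k : Type*} [Field k] {A : Type*} [CommRing A] [Algebra k A] [IsLocalRing A]

local notation "𝔪" => IsLocalRing.maximalIdeal A

theorem decomp (hres : Function.Surjective (algebraMap k (IsLocalRing.ResidueField A))) (a : A) :
    ∃ c : k, a - algebraMap k A c ∈ 𝔪 := by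
  obtain ⟨c, hc⟩ := hres (IsLocalRing.residue A a)
  refine ⟨c, ?_⟩
  rw [← Ideal.Quotient.eq_zero_iff_mem, map_sub, sub_eq_zero]
  exact hc.symm

variable {ι : Type*} (τ : ι → A →ₐ[k] A) (S : Set A)

include τ in
theorem sub_apply_mem (hτm : ∀ i, ∀ x ∈ 𝔪, τ i x ∈ 𝔪)
    (hJ : ∀ i y, y - τ i y ∈ Ideal.span S) (i : ι) {x : A} (hx : x ∈ 𝔪 ^ 2) :
    x - τ i x ∈ 𝔪 * Ideal.span S := by
  rw [pow_two] at hx
  induction hx using Submodule.mul_induction_on' with
  | mem_mul_mem a ha b hb =>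
    have h1 : a * b - τ i (a * b) = b * (a - τ i a) + (τ i a) * (b - τ i b) := by
      rw [map_mul]; ring
    rw [h1]
    exact Ideal.add_mem _ (Ideal.mul_mem_mul hb (hJ i a))
      (Ideal.mul_mem_mul (hτm i a ha) (hJ i b))
  | add x _ y _ hx hy =>
    have : x + y - τ i (x + y) = (x - τ i x) + (y - τ i y) := by rw [map_add]; ring
    rw [this]
    exact Ideal.add_mem _ hx hy

theorem exists_span_sub_mem (hres : Function.Surjective (algebraMap k (IsLocalRing.ResidueField A)))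
    {x : A} (hx : x ∈ Ideal.span S) :
    ∃ y ∈ Submodule.span k S, x - y ∈ 𝔪 * Ideal.span S := by
  induction hx using Submodule.span_induction with
  | mem x hx => exact ⟨x, Submodule.subset_span hx, by simp⟩
  | zero => exact ⟨0, Submodule.zero_mem _, by simp⟩
  | add x y _ _ hx hy =>
    obtain ⟨y1, h1, h1'⟩ := hx
    obtain ⟨y2, h2, h2'⟩ := hy
    refine ⟨y1 + y2, Submodule.add_mem _ h1 h2, ?_⟩
    have : x + y - (y1 + y2) = (x - y1) + (y - y2) := by ring
    rw [this]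
    exact Ideal.add_mem _ h1' h2'
  | smul a x hx ih =>
    obtain ⟨y, hy, hy'⟩ := ih
    obtain ⟨c, hc⟩ := decomp hres a
    refine ⟨c • y, Submodule.smul_mem _ _ hy, ?_⟩
    have : a • x - c • y = algebraMap k A c * (x - y) + (a - algebraMap k A c) * x := by
      rw [smul_eq_mul, Algebra.smul_def]; ring
    rw [this]
    exact Ideal.add_mem _ (Ideal.mul_mem_left _ _ hy') (Ideal.mul_mem_mul hc hx)

variable [Fintype ι]

include τ in
theorem mem_of_mem_span_of_mem_sq (hcard : (Fintype.card ι : k) ≠ 0)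
    (hτm : ∀ i, ∀ x ∈ 𝔪, τ i x ∈ 𝔪) (hS : ∀ s ∈ S, ∑ i, τ i s = 0)
    (hJ : ∀ i y, y - τ i y ∈ Ideal.span S) {y : A}
    (hy : y ∈ Submodule.span k S) (hy2 : y ∈ 𝔪 ^ 2) :
    y ∈ 𝔪 * Ideal.span S := by
  let tr : A →ₗ[k] A := ∑ i, (τ i).toLinearMap
  have htr : ∀ a, tr a = ∑ i, τ i a := fun a => by simp [tr, LinearMap.sum_apply]
  have hker : Submodule.span k S ≤ LinearMap.ker tr := by
    rw [Submodule.span_le]
    intro s hs
    rw [SetLike.mem_coe, LinearMap.mem_ker, htr]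
    exact hS s hs
  have h0 : tr y = 0 := hker hy
  have h1 : ∑ i, (y - τ i y) ∈ 𝔪 * Ideal.span S :=
    Ideal.sum_mem _ (fun i _ => sub_apply_mem τ S hτm hJ i hy2)
  rw [Finset.sum_sub_distrib, ← htr, h0, sub_zero, Finset.sum_const, Finset.card_univ,
    nsmul_eq_mul] at h1
  have hu : IsUnit ((Fintype.card ι : ℕ) : A) := by
    have : ((Fintype.card ι : ℕ) : A) = algebraMap k A (Fintype.card ι : k) := by rw [map_natCast]
    rw [this]
    exact (isUnit_iff_ne_zero.mpr hcard).map _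
  obtain ⟨u, hu⟩ := hu
  have := Ideal.mul_mem_left (𝔪 * Ideal.span S) (↑u⁻¹ : A) h1
  rwa [← mul_assoc, ← hu, Units.inv_mul, one_mul] at this

include τ in
/-- The key inequality `J ⊓ 𝔪² ≤ 𝔪 J` for `J = Ideal.span S`. -/
theorem inf_sq_le (hres : Function.Surjective (algebraMap k (IsLocalRing.ResidueField A)))
    (hcard : (Fintype.card ι : k) ≠ 0)
    (hτm : ∀ i, ∀ x ∈ 𝔪, τ i x ∈ 𝔪) (hS : ∀ s ∈ S, ∑ i, τ i s = 0)
    (hJ : ∀ i y, y - τ i y ∈ Ideal.span S) (hJm : Ideal.span S ≤ 𝔪) :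
    Ideal.span S ⊓ 𝔪 ^ 2 ≤ 𝔪 * Ideal.span S := by
  rintro x ⟨hxJ, hx2⟩
  obtain ⟨y, hy, hz⟩ := exists_span_sub_mem S hres hxJ
  have hle : 𝔪 * Ideal.span S ≤ 𝔪 ^ 2 := by
    rw [pow_two]; exact Ideal.mul_mono_right hJm
  have hy2 : y ∈ 𝔪 ^ 2 := by
    have : y = x - (x - y) := by ring
    rw [this]
    exact Ideal.sub_mem _ hx2 (hle hz)
  have := mem_of_mem_span_of_mem_sq τ S hcard hτm hS hJ hy hy2
  have hx : x = y + (x - y) := by ring
  rw [hx]
  exact Ideal.add_mem _ this hz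

end Groth.Agent.H29.CoinvIdeal
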