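import Mathlib
import Groth.Prelude.Def_W4c3irrattreebunCvg

set_option autoImplicit false
universe u
namespace Groth.Agent.H29.Cvg
open W4c3irrattreebun

theorem sInf_eq_of {P Q : ℕ → Prop} (h1 : ∀ e, Q e → P e) (h2 : ∀ e, P e → ∃ e' ≤ e, Q e') :
    sInf {e | P e} = sInf {e | Q e} := by
  by_cases hne : {e | P e}.Nonempty
  · have hm : P (sInf {e | P e}) := Nat.sInf_mem hne
    obtain ⟨e', he', hQ⟩ := h2 _ hm
    have h3 : sInf {e | P e} ≤ e' := Nat.sInf_le (h1 _ hQ)
    have h4 : e' = sInf {e | P e} := le_antisymm he' h3
    rw [h4] at hQ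
    apply le_antisymm
    · have hQne : {e | Q e}.Nonempty := ⟨_, hQ⟩
      exact Nat.sInf_le (h1 _ (Nat.sInf_mem hQne))
    · exact Nat.sInf_le hQ
  · have hP : {e | P e} = ∅ := Set.not_nonempty_iff_eq_empty.mp hne
    have hQ : {e | Q e} = ∅ := by
      ext e
      simp only [Set.mem_setOf_eq, Set.mem_empty_iff_false, iff_false]
      intro hq
      exact hne ⟨e, h1 e hq⟩
    rw [hP, hQ]

theorem down (k K : Type u) [Field k] [Field K] [Algebra k K] (e : ℕ)
    (D' : CovDiag.{u} (algebraicClosure k K) K e) :
    ∃ D : CovDiag.{u} k K e, (Algebra.IsSeparable K D'.KC → Algebra.IsSeparable K D.KC) := by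
  let algkC : Algebra k D'.KC := ((algebraMap K D'.KC).comp (algebraMap k K)).toAlgebra
  let algkB : Algebra k D'.KB :=
    ((@algebraMap (algebraicClosure k K) D'.KB _ _ D'.algkB).comp
      (algebraMap k (algebraicClosure k K))).toAlgebra
  have e1 := @IsScalarTower.algebraMap_apply (algebraicClosure k K) D'.KB D'.KC _ _ _
    D'.algkB D'.algBC D'.algkC D'.towerB
  have e2 := @IsScalarTower.algebraMap_apply (algebraicClosure k K) K D'.KC _ _ _
    _ D'.algKC D'.algkC D'.towerK
  exact ⟨{ KC := D'.KC, KB := D'.KB, t := D'.t, transc := D'.transc, finrank_eq := D'.finrank_eq,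
           algkC := algkC, algkB := algkB
           towerK := @IsScalarTower.of_algebraMap_eq k K D'.KC _ _ _ _ D'.algKC algkC
             (fun x => rfl)
           towerB := @IsScalarTower.of_algebraMap_eq k D'.KB D'.KC _ _ _ algkB D'.algBC algkC
             (fun x => by
               change algebraMap K D'.KC (algebraMap k K x) =
                 algebraMap D'.KB D'.KC (@algebraMap (algebraicClosure k K) D'.KB _ _ D'.algkB
                  (algebraMap k (algebraicClosure k K) x))
               rw [← e1, e2]
               rfl) }, fun h => h⟩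

theorem adjoin_sub {KB KC : Type*} [Field KB] [Field KC] [Algebra KB KC]
    (F : IntermediateField KB KC) (t : KC) :
    ∀ x ∈ IntermediateField.adjoin KB ({t} : Set KC),
      x ∈ IntermediateField.adjoin F ({t} : Set KC) := by
  have : IntermediateField.adjoin KB ({t} : Set KC) ≤
      (IntermediateField.adjoin F ({t} : Set KC)).restrictScalars KB := by
    apply IntermediateField.adjoin_le_iff.mpr
    intro y hy
    rw [Set.mem_singleton_iff] at hy
    subst hy
    rw [SetLike.mem_coe, IntermediateField.mem_restrictScalars]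
    exact IntermediateField.subset_adjoin _ _ (Set.mem_singleton _)
  intro x hx
  have h2 := this hx
  rwa [IntermediateField.mem_restrictScalars] at h2

theorem finite_and_finrank_le {KB KC : Type*} [Field KB] [Field KC] [Algebra KB KC]
    (F : IntermediateField KB KC) (E : IntermediateField KB KC) (E' : IntermediateField F KC)
    (h : ∀ x ∈ E, x ∈ E') [Module.Finite E KC] :
    Module.Finite E' KC ∧ Module.finrank E' KC ≤ Module.finrank E KC := by
  letI algEE' : Algebra E E' :=
    (RingHom.codRestrict (algebraMap E KC) E' (fun x => h x.1 x.2)).toAlgebra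
  haveI : IsScalarTower E E' KC := IsScalarTower.of_algebraMap_eq (fun x => rfl)
  haveI : FaithfulSMul E E' :=
    (faithfulSMul_iff_algebraMap_injective E E').mpr (RingHom.injective _)
  exact ⟨Module.Finite.of_restrictScalars_finite E E' KC,
    Module.finrank_top_le_finrank_of_isScalarTower E E' KC⟩

theorem transc_of_algebraic {KB KC : Type*} [Field KB] [Field KC] [Algebra KB KC]
    (F : IntermediateField KB KC) [Algebra.IsAlgebraic KB F] (t : KC) (ht : Transcendental KB t) :
    Transcendental F t := fun h => ht (h.restrictScalars KB)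

theorem up (k K : Type u) [Field k] [Field K] [Algebra k K] (e : ℕ) (D : CovDiag.{u} k K e) :
    ∃ e' ≤ e, ∃ D' : CovDiag.{u} (algebraicClosure k K) K e',
      (Algebra.IsSeparable K D.KC → Algebra.IsSeparable K D'.KC) := by
  classical
  let φ : (algebraicClosure k K) →+* D.KC := algebraMap (algebraicClosure k K) D.KC
  let F : IntermediateField D.KB D.KC := IntermediateField.adjoin D.KB (Set.range φ)
  have hφF : ∀ x, φ x ∈ F := fun x => IntermediateField.subset_adjoin _ _ ⟨x, rfl⟩
  let algkB : Algebra (algebraicClosure k K) F := (φ.codRestrict F hφF).toAlgebra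
  haveI halg : Algebra.IsAlgebraic D.KB F := by
    apply IntermediateField.isAlgebraic_adjoin
    rintro _ ⟨x, rfl⟩
    have hx : IsAlgebraic k (x : K) := mem_algebraicClosure_iff.mp x.2
    have h1 : IsAlgebraic k (algebraMap K D.KC x) := hx.algebraMap
    have h2 : IsAlgebraic D.KB (algebraMap K D.KC x) := h1.tower_top _
    exact h2.isIntegral
  have transc : Transcendental F D.t := transc_of_algebraic F D.t D.transc
  obtain ⟨finiteT, hle⟩ := finite_and_finrank_le F (IntermediateField.adjoin D.KB ({D.t} : Set D.KC))
    (IntermediateField.adjoin F ({D.t} : Set D.KC)) (adjoin_sub F D.t)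
  rw [D.finrank_eq] at hle
  exact ⟨_, hle,
    ⟨{ KC := D.KC, KB := F, t := D.t, transc := transc, finrank_eq := rfl,
       algkC := inferInstance, towerK := inferInstance, algkB := algkB,
       towerB := @IsScalarTower.of_algebraMap_eq (algebraicClosure k K) F D.KC _ _ _ algkB _ _
         (fun x => rfl)
       finiteT := finiteT }, fun h => h⟩⟩

end Groth.Agent.H29.Cvg
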