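import Mathlib

/-! Cyc1 (helper29): cyclotomic polynomials over a ring in which `m` is invertible:
pairwise comaximality, and two evaluation lemmas. -/

set_option autoImplicit false

namespace Groth.Agent.H29.Cyc

open Polynomial

variable {Λ : Type*} [CommRing Λ]

lemma cyc_coprime (m : ℕ) (hm : IsUnit (m : Λ)) {d d' : ℕ} (hd : d ∣ m) (hd' : d' ∣ m)
    (h : d ≠ d') : IsCoprime (cyclotomic d Λ) (cyclotomic d' Λ) := by
  classical
  rcases subsingleton_or_nontrivial Λ with hs | hs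
  · exact ⟨0, 0, Subsingleton.elim _ _⟩
  have hm0 : m ≠ 0 := by
    rintro rfl
    simp at hm
  have hsep : (X ^ m - C ((1 : Λˣ) : Λ)).Separable := separable_X_pow_sub_C_unit 1 hm
  rw [Units.val_one, C_1, ← prod_cyclotomic_eq_X_pow_sub_one (Nat.pos_of_ne_zero hm0) Λ] at hsep
  have hdm : d ∈ m.divisors := Nat.mem_divisors.mpr ⟨hd, hm0⟩
  have hd'm : d' ∈ (m.divisors).erase d :=
    Finset.mem_erase.mpr ⟨h.symm, Nat.mem_divisors.mpr ⟨hd', hm0⟩⟩
  have hdvd : cyclotomic d Λ * cyclotomic d' Λ ∣ ∏ i ∈ m.divisors, cyclotomic i Λ := by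
    rw [← Finset.mul_prod_erase _ _ hdm]
    exact mul_dvd_mul_left _ (Finset.dvd_prod_of_mem _ hd'm)
  exact (hsep.of_dvd hdvd).isCoprime

lemma coprime_cyc_X_pow_sub_one (m : ℕ) (hm : IsUnit (m : Λ)) {n : ℕ} (hn : n ∣ m)
    (hnm : n ≠ m) (hn0 : 0 < n) : IsCoprime (cyclotomic m Λ) (X ^ n - 1) := by
  rw [← prod_cyclotomic_eq_X_pow_sub_one hn0 Λ]
  refine IsCoprime.prod_right fun d hd => ?_
  have hdn : d ∣ n := (Nat.mem_divisors.mp hd).1
  refine cyc_coprime m hm dvd_rfl (hdn.trans hn) ?_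
  intro h
  apply hnm
  exact Nat.dvd_antisymm hn (h ▸ hdn)

/-- if `(t^n - 1) y = 0` for a proper divisor `n` of `m`, then `y` is a multiple of `Φ_m(t)` -/
lemma mem_span_cyc {R : Type*} [CommRing R] [Algebra Λ R] (m : ℕ) (hm : IsUnit (m : Λ))
    {n : ℕ} (hn : n ∣ m) (hnm : n ≠ m) (hn0 : 0 < n) (t y : R) (hy : (t ^ n - 1) * y = 0) :
    y ∈ Ideal.span {aeval t (cyclotomic m Λ)} := by
  obtain ⟨a, b, hab⟩ := coprime_cyc_X_pow_sub_one (Λ := Λ) m hm hn hnm hn0
  have h1 := congrArg (aeval t) hab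
  simp only [map_add, map_mul, map_sub, map_pow, aeval_X, map_one] at h1
  rw [Ideal.mem_span_singleton]
  refine ⟨aeval t a * y, ?_⟩
  calc y = (aeval t a * aeval t (cyclotomic m Λ) + aeval t b * (t ^ n - 1)) * y := by
        rw [h1, one_mul]
    _ = aeval t (cyclotomic m Λ) * (aeval t a * y) + aeval t b * ((t ^ n - 1) * y) := by ring
    _ = aeval t (cyclotomic m Λ) * (aeval t a * y) := by rw [hy, mul_zero, add_zero]

/-- the product over prime divisors `q` of `m` of `1 - q⁻¹ ∑_{i<q} t^{i m/q}` kills `Φ_m(t)` -/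
lemma prod_mul_cyc_eq_zero {R : Type*} [CommRing R] [Algebra Λ R] (m : ℕ) (m' : Λ)
    (hm : (m : Λ) * m' = 1) (t : R) (ht : t ^ m = 1) :
    (∏ q ∈ m.primeFactors, (1 - algebraMap Λ R (((m / q : ℕ) : Λ) * m') *
      ∑ i ∈ Finset.range q, t ^ (i * (m / q)))) * aeval t (cyclotomic m Λ) = 0 := by
  classical
  rcases subsingleton_or_nontrivial Λ with hs | hs
  · have : (1 : R) = 0 := by
      rw [← map_one (algebraMap Λ R), ← map_zero (algebraMap Λ R)]
      exact congrArg _ (Subsingleton.elim _ _)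
    calc _ = (1 : R) * _ := (one_mul _).symm
      _ = 0 := by rw [this, zero_mul]
  have hmu : IsUnit (m : Λ) := IsUnit.of_mul_eq_one _ hm
  have hm0 : m ≠ 0 := by
    rintro rfl
    simp at hmu
  have hmpos : 0 < m := Nat.pos_of_ne_zero hm0
  let F : Λ[X] := (∏ q ∈ m.primeFactors, (1 - C (((m / q : ℕ) : Λ) * m') *
      ∑ i ∈ Finset.range q, X ^ (i * (m / q)))) * cyclotomic m Λ
  have hF : aeval t F = (∏ q ∈ m.primeFactors, (1 - algebraMap Λ R (((m / q : ℕ) : Λ) * m') *
      ∑ i ∈ Finset.range q, t ^ (i * (m / q)))) * aeval t (cyclotomic m Λ) := by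
    simp only [F, map_mul, map_prod, map_sub, map_one, aeval_C, map_sum, map_pow, aeval_X]
  rw [← hF]
  have hdvd : X ^ m - 1 ∣ F := by
    rw [← prod_cyclotomic_eq_X_pow_sub_one hmpos Λ]
    apply Finset.prod_dvd_of_coprime
    · intro d hd d' hd' hdd'
      exact cyc_coprime m hmu (Nat.mem_divisors.mp hd).1 (Nat.mem_divisors.mp hd').1 hdd'
    · intro d hd
      have hdm : d ∣ m := (Nat.mem_divisors.mp hd).1
      by_cases hdeq : d = m
      · subst hdeq
        exact dvd_mul_left _ _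
      · -- a prime q dividing m / d
        obtain ⟨r, hr⟩ := hdm
        have hr1 : r ≠ 1 := by
          rintro rfl
          exact hdeq (by rw [hr, mul_one])
        obtain ⟨q, hq, hqr⟩ := Nat.exists_prime_and_dvd hr1
        obtain ⟨s, hs⟩ := hqr
        have hqm : q ∣ m := ⟨d * s, by rw [hr, hs]; ring⟩
        have hmq : m / q = d * s := by
          rw [hr, hs]
          rw [show d * (q * s) = q * (d * s) by ring, Nat.mul_div_cancel_left _ hq.pos]
        have hqmem : q ∈ m.primeFactors := Nat.mem_primeFactors.mpr ⟨hq, hqm, hm0⟩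
        refine Dvd.dvd.mul_right ?_ _
        refine dvd_trans ?_ (Finset.dvd_prod_of_mem _ hqmem)
        -- Φ_d ∣ X^(m/q) - 1 ∣ factor
        have h1 : cyclotomic d Λ ∣ X ^ (m / q) - 1 := by
          rw [hmq]
          exact (cyclotomic.dvd_X_pow_sub_one d Λ).trans (pow_one_sub_dvd_pow_mul_sub_one X d s)
        refine h1.trans ?_
        have hqinv : (q : Λ) * (((m / q : ℕ) : Λ) * m') = 1 := by
          rw [← mul_assoc, ← Nat.cast_mul, Nat.mul_div_cancel' hqm, hm]
        have h2 : (1 : Λ[X]) - C (((m / q : ℕ) : Λ) * m') * ∑ i ∈ Finset.range q, X ^ (i * (m / q)) =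
            C (((m / q : ℕ) : Λ) * m') * ∑ i ∈ Finset.range q, (1 - (X ^ (m / q)) ^ i) := by
          rw [Finset.sum_sub_distrib, Finset.sum_const, Finset.card_range, mul_sub]
          have : C (((m / q : ℕ) : Λ) * m') * (q • (1 : Λ[X])) = 1 := by
            rw [nsmul_eq_mul, mul_one, ← C_eq_natCast, ← C_mul, mul_comm, hqinv, C_1]
          rw [this]
          congr 2
          refine Finset.sum_congr rfl fun i _ => ?_
          rw [← pow_mul, mul_comm]
        rw [h2]
        refine Dvd.dvd.mul_left (Finset.dvd_sum fun i _ => ?_) _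
        have h3 : (X ^ (m / q) - 1 : Λ[X]) ∣ 1 - X ^ (m / q) := ⟨-1, by ring⟩
        exact h3.trans (one_sub_dvd_one_sub_pow _ i)
  obtain ⟨G, hG⟩ := hdvd
  rw [hG, map_mul, map_sub, map_pow, aeval_X, map_one, ht, sub_self, zero_mul]

end Groth.Agent.H29.Cyc
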