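import Mathlib
import Groth.Prelude.Def_W4c6equivkfinstabCyc
import Groth.Agent.Lib.helper29.Cyc1

/-! Cyc2 (helper29): elements of group rings of commutative groups: orbit sums. -/

set_option autoImplicit false

namespace Groth.Agent.H29.Cyc

open AddMonoidAlgebra

variable (Λ : Type*) [CommRing Λ] {A : Type*} [AddCommGroup A]

/-- the group-ring element of a group element -/
noncomputable def sg (a : A) : AddMonoidAlgebra Λ A := single a 1

lemma sg_zero : sg Λ (0 : A) = 1 := rfl

lemma sg_add (a b : A) : sg Λ (a + b) = sg Λ a * sg Λ b := by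
  simp [sg]

lemma sg_nsmul (n : ℕ) (a : A) : sg Λ (n • a) = sg Λ a ^ n := by
  simp [sg]

lemma single_eq_smul (a : A) (r : Λ) : (single a r : AddMonoidAlgebra Λ A) = r • sg Λ a := by
  rw [sg, smul_single, smul_eq_mul, mul_one]

/-- the sum of the first `q` multiples of `w` -/
noncomputable def Np (q : ℕ) (w : A) : AddMonoidAlgebra Λ A := ∑ i ∈ Finset.range q, sg Λ (i • w)

lemma sg_mul_Np (q : ℕ) (w : A) (hq : q • w = 0) : sg Λ w * Np Λ q w = Np Λ q w := by
  have h1 : sg Λ w * Np Λ q w = ∑ i ∈ Finset.range q, sg Λ ((i + 1) • w) := by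
    rw [Np, Finset.mul_sum]
    refine Finset.sum_congr rfl fun i _ => ?_
    rw [← sg_add, add_comm, succ_nsmul]
  rw [h1]
  have h2 := Finset.sum_range_succ' (fun i => sg Λ (i • w)) q
  have h3 := Finset.sum_range_succ (fun i => sg Λ (i • w)) q
  simp only [hq, zero_nsmul] at h2 h3
  rw [h3] at h2
  exact (add_right_cancel h2).symm

lemma sg_zsmul_mul_Np (q : ℕ) (w : A) (hq : q • w = 0) (k : ℤ) :
    sg Λ (k • w) * Np Λ q w = Np Λ q w := by
  have hnat : ∀ n : ℕ, sg Λ (n • w) * Np Λ q w = Np Λ q w := by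
    intro n
    induction n with
    | zero => rw [zero_nsmul, sg_zero, one_mul]
    | succ n ih => rw [succ_nsmul, sg_add, mul_assoc, sg_mul_Np Λ q w hq, ih]
  obtain ⟨n, rfl | rfl⟩ := k.eq_nat_or_neg
  · rw [natCast_zsmul]; exact hnat n
  · conv_lhs => rw [← hnat n, ← mul_assoc, ← sg_add]
    rw [neg_smul, natCast_zsmul, neg_add_cancel, sg_zero, one_mul]

lemma Np_mul_sg_of_mem (q : ℕ) (w : A) (hq : q • w = 0) (a a' : A)
    (h : a - a' ∈ AddSubgroup.zmultiples w) : Np Λ q w * sg Λ a = Np Λ q w * sg Λ a' := by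
  obtain ⟨k, hk⟩ := AddSubgroup.mem_zmultiples_iff.mp h
  have ha : a = k • w + a' := by rw [hk]; abel
  rw [ha, sg_add, ← mul_assoc, mul_comm (Np Λ q w), sg_zsmul_mul_Np Λ q w hq]

variable {C : Type*} [AddCommGroup C]

/-- the map of group rings induced by a group homomorphism -/
noncomputable def dom (π : A →+ C) : AddMonoidAlgebra Λ A →+* AddMonoidAlgebra Λ C :=
  mapDomainRingHom Λ π

lemma dom_single (π : A →+ C) (a : A) (r : Λ) : dom Λ π (single a r) = single (π a) r := by
  simp [dom]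

lemma dom_sg (π : A →+ C) (a : A) : dom Λ π (sg Λ a) = sg Λ (π a) := dom_single Λ π a 1

lemma dom_comp {C' : Type*} [AddCommGroup C'] (π : A →+ C) (ρ : C →+ C') (x : AddMonoidAlgebra Λ A) :
    dom Λ (ρ.comp π) x = dom Λ ρ (dom Λ π x) := by
  simp only [dom, mapDomainRingHom_comp, RingHom.comp_apply]

lemma dom_id (x : AddMonoidAlgebra Λ A) : dom Λ (AddMonoidHom.id A) x = x := by
  simp [dom]

lemma dom_surjective (π : A →+ C) (hπ : Function.Surjective π) :
    Function.Surjective (dom Λ π) := by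
  intro y
  induction y using AddMonoidAlgebra.induction_linear with
  | zero => exact ⟨0, map_zero _⟩
  | add x y hx hy =>
    obtain ⟨x', rfl⟩ := hx
    obtain ⟨y', rfl⟩ := hy
    exact ⟨x' + y', map_add _ _ _⟩
  | single c r =>
    obtain ⟨a, rfl⟩ := hπ c
    exact ⟨single a r, dom_single Λ π a r⟩

theorem Np_mul_eq_zero_of_dom (q : ℕ) (w : A) (hq : q • w = 0) (x : AddMonoidAlgebra Λ A)
    (hx : dom Λ (QuotientAddGroup.mk' (AddSubgroup.zmultiples w)) x = 0) : Np Λ q w * x = 0 := by
  classical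
  let D := AddSubgroup.zmultiples w
  let Ψ : AddMonoidAlgebra Λ (A ⧸ D) → AddMonoidAlgebra Λ A := fun y =>
    y.coeff.sum fun c r => r • (Np Λ q w * sg Λ (Quotient.out c))
  have hΨadd : ∀ y y', Ψ (y + y') = Ψ y + Ψ y' := by
    intro y y'
    simp only [Ψ, coeff_add]
    rw [Finsupp.sum_add_index']
    · intro c; rw [zero_smul]
    · intro c r r'; rw [add_smul]
  have hΨ0 : Ψ 0 = 0 := by simp [Ψ]
  have hΨs : ∀ c r, Ψ (single c r) = r • (Np Λ q w * sg Λ (Quotient.out c)) := by
    intro c r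
    simp only [Ψ, coeff_single]
    rw [Finsupp.sum_single_index]
    rw [zero_smul]
  have key : ∀ x : AddMonoidAlgebra Λ A, Np Λ q w * x = Ψ (dom Λ (QuotientAddGroup.mk' D) x) := by
    intro x
    induction x using AddMonoidAlgebra.induction_linear with
    | zero => rw [mul_zero, map_zero, hΨ0]
    | add x y hx hy => rw [mul_add, map_add, hΨadd, hx, hy]
    | single a r =>
      rw [dom_single, hΨs, single_eq_smul, mul_smul_comm]
      congr 1
      apply Np_mul_sg_of_mem Λ q w hq
      have : (QuotientAddGroup.mk' D) (Quotient.out ((QuotientAddGroup.mk' D) a)) =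
          (QuotientAddGroup.mk' D) a := Quotient.out_eq _
      have h2 : (QuotientAddGroup.mk' D) (a - Quotient.out ((QuotientAddGroup.mk' D) a)) = 0 := by
        rw [map_sub, this, sub_self]
      exact (QuotientAddGroup.eq_zero_iff _).mp h2
  rw [key, hx, hΨ0]

end Groth.Agent.H29.Cyc
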