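import Mathlib
import Groth.Prelude.Def_W4c6equivkfinstabCyc
import Groth.Agent.Lib.helper29.Cyc2

/-! Cyc3 (helper29): the cyclotomic ideal of the group ring of a finite cyclic group. -/

set_option autoImplicit false

namespace Groth.Agent.H29.Cyc

open AddMonoidAlgebra W4c6equivkfinstab Polynomial

variable (Λ : Type*) [CommRing Λ]

section defs

variable {A C : Type*} [AddCommGroup A] [AddCommGroup C]

/-- the composite to the cyclotomic quotient -/
noncomputable def cq (π : A →+ C) : AddMonoidAlgebra Λ A →+* CycQuot Λ C :=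
  (Ideal.Quotient.mk (cycIdeal Λ C)).comp (dom Λ π)

lemma cycQuotMap_eq (B : AddSubgroup A) : cycQuotMap Λ A B = cq Λ (QuotientAddGroup.mk' B) := rfl

lemma cq_eq_zero_iff (π : A →+ C) (x : AddMonoidAlgebra Λ A) :
    cq Λ π x = 0 ↔ dom Λ π x ∈ cycIdeal Λ C := Ideal.Quotient.eq_zero_iff_mem

lemma cq_eq_one_iff (π : A →+ C) (x : AddMonoidAlgebra Λ A) :
    cq Λ π x = 1 ↔ dom Λ π x - 1 ∈ cycIdeal Λ C := by
  rw [← Ideal.Quotient.eq_zero_iff_mem, map_sub, map_one, sub_eq_zero]
  rfl

lemma cq_surjective (π : A →+ C) (hπ : Function.Surjective π) : Function.Surjective (cq Λ π) :=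
  Ideal.Quotient.mk_surjective.comp (dom_surjective Λ π hπ)

lemma dom_aeval (π : A →+ C) (a : A) (p : Polynomial Λ) :
    dom Λ π (aeval (sg Λ a) p) = aeval (sg Λ (π a)) p := by
  have h1 : dom Λ π (aeval (sg Λ a) p) = mapDomainAlgHom Λ Λ π (aeval (sg Λ a) p) := rfl
  have h2 : mapDomainAlgHom Λ Λ π (sg Λ a) = sg Λ (π a) := dom_sg Λ π a
  rw [h1, ← aeval_algHom_apply, h2]

lemma gen_mem_cycIdeal (g : C) (hg : ∀ x, x ∈ AddSubgroup.zmultiples g) :
    aeval (sg Λ g) (cyclotomic (Nat.card C) Λ) ∈ cycIdeal Λ C :=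
  Ideal.subset_span ⟨g, (AddSubgroup.eq_top_iff' _).mpr hg, rfl⟩

variable {C' : Type*} [AddCommGroup C']

lemma mem_cycIdeal_of_equiv (φ : C ≃+ C') (y : AddMonoidAlgebra Λ C) (hy : y ∈ cycIdeal Λ C) :
    dom Λ φ.toAddMonoidHom y ∈ cycIdeal Λ C' := by
  have hle : (cycIdeal Λ C).map (dom Λ φ.toAddMonoidHom) ≤ cycIdeal Λ C' := by
    rw [cycIdeal, Ideal.map_span, Ideal.span_le]
    rintro _ ⟨_, ⟨g, hg, rfl⟩, rfl⟩
    have h3 := dom_aeval Λ φ.toAddMonoidHom g (cyclotomic (Nat.card C) Λ)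
    rw [Nat.card_congr φ.toEquiv] at h3
    show dom Λ φ.toAddMonoidHom (aeval (sg Λ g) (cyclotomic (Nat.card C) Λ)) ∈ _
    rw [Nat.card_congr φ.toEquiv, h3]
    apply gen_mem_cycIdeal
    intro x'
    have hx : φ.symm x' ∈ AddSubgroup.zmultiples g := by rw [hg]; trivial
    obtain ⟨k, hk⟩ := AddSubgroup.mem_zmultiples_iff.mp hx
    refine AddSubgroup.mem_zmultiples_iff.mpr ⟨k, ?_⟩
    have : φ (k • g) = x' := by rw [hk]; simp
    rw [← this, map_zsmul]
    rfl
  exact hle (Ideal.mem_map_of_mem _ hy)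

lemma cq_comp_equiv (π : A →+ C) (φ : C ≃+ C') (x : AddMonoidAlgebra Λ A) (h : cq Λ π x = 0) :
    cq Λ (φ.toAddMonoidHom.comp π) x = 0 := by
  rw [cq_eq_zero_iff] at h ⊢
  rw [dom_comp]
  exact mem_cycIdeal_of_equiv Λ φ _ h

end defs

/-- an element of the group ring of a finite cyclic group fixed by a nontrivial translation lies
in the cyclotomic ideal -/
theorem mem_cycIdeal_of_fixed {C : Type*} [AddCommGroup C] [Finite C] [IsAddCyclic C]
    (hC : IsUnit ((Nat.card C : ℕ) : Λ)) (y : AddMonoidAlgebra Λ C) (w : C) (hw : w ≠ 0)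
    (hy : sg Λ w * y = y) : y ∈ cycIdeal Λ C := by
  classical
  haveI : Fintype C := Fintype.ofFinite C
  set m := Nat.card C with hm
  -- reduce to an element of prime order
  have ho1 : addOrderOf w ≠ 1 := fun h => hw (AddMonoid.addOrderOf_eq_one_iff.mp h)
  obtain ⟨q, hq, hqo⟩ := Nat.exists_prime_and_dvd ho1
  have hopos : 0 < addOrderOf w := addOrderOf_pos w
  set w' := (addOrderOf w / q) • w with hw'
  have hqw' : q • w' = 0 := by
    rw [hw', ← mul_nsmul, Nat.div_mul_cancel hqo, addOrderOf_nsmul_eq_zero]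
  have hw'0 : w' ≠ 0 := by
    intro h
    have h1 : addOrderOf w ∣ addOrderOf w / q := addOrderOf_dvd_of_nsmul_eq_zero h
    have h2 : addOrderOf w / q < addOrderOf w := Nat.div_lt_self hopos hq.one_lt
    have h3 : 0 < addOrderOf w / q := Nat.div_pos (Nat.le_of_dvd hopos hqo) hq.pos
    exact absurd (Nat.le_of_dvd h3 h1) (not_le.mpr h2)
  have hyw' : ∀ i : ℕ, sg Λ (i • w') * y = y := by
    intro i
    have hpow : ∀ n : ℕ, sg Λ w ^ n * y = y := by
      intro n
      induction n with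
      | zero => rw [pow_zero, one_mul]
      | succ n ih => rw [pow_succ, mul_assoc, hy, ih]
    rw [hw', ← mul_nsmul, sg_nsmul]
    exact hpow _
  haveI : Fact q.Prime := ⟨hq⟩
  have hord : addOrderOf w' = q := addOrderOf_eq_prime hqw' hw'0
  have hqm : q ∣ m := by
    rw [← hord, hm]; exact addOrderOf_dvd_natCard w'
  -- generator
  obtain ⟨g, hg⟩ := IsAddCyclic.exists_generator (α := C)
  have hgord : addOrderOf g = m := by
    rw [hm]; exact addOrderOf_eq_card_of_forall_mem_zmultiples hg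
  set g' := (m / q) • g with hg'
  have hqg' : q • g' = 0 := by
    rw [hg', ← mul_nsmul, Nat.div_mul_cancel hqm, ← hgord, addOrderOf_nsmul_eq_zero]
  -- the q-torsion is the set of multiples of w'
  let S : Finset C := (Finset.range q).image fun i => i • w'
  let T : Finset C := Finset.univ.filter fun a => q • a = 0
  have hST : S ⊆ T := by
    intro a ha
    obtain ⟨i, _, rfl⟩ := Finset.mem_image.mp ha
    simp only [T, Finset.mem_filter, Finset.mem_univ, true_and]
    rw [← mul_nsmul, mul_comm, mul_nsmul, hqw', nsmul_zero]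
  have hScard : S.card = q := by
    rw [Finset.card_image_of_injOn, Finset.card_range]
    intro i hi j hj hij
    apply nsmul_injOn_Iio_addOrderOf (x := w')
    · simpa [hord] using hi
    · simpa [hord] using hj
    · exact hij
  have hTcard : T.card ≤ q := IsAddCyclic.card_nsmul_eq_zero_le hq.pos
  have hSeq : S = T := Finset.eq_of_subset_of_card_le hST (by rw [hScard]; exact hTcard)
  have hg'S : g' ∈ S := by
    rw [hSeq]
    simp only [T, Finset.mem_filter, Finset.mem_univ, true_and]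
    exact hqg'
  obtain ⟨i, _, hi⟩ := Finset.mem_image.mp hg'S
  have hyg' : sg Λ g' * y = y := by rw [← hi]; exact hyw' i
  have hmpos : 0 < m := by rw [hm]; exact Nat.card_pos
  have hkey : (sg Λ g ^ (m / q) - 1) * y = 0 := by
    rw [sub_mul, one_mul, ← sg_nsmul, hyg', sub_self]
  have hmem := mem_span_cyc (Λ := Λ) m hC (Nat.div_dvd_of_dvd hqm)
    (by
      intro h
      have : m / q < m := Nat.div_lt_self hmpos hq.one_lt
      omega)
    (Nat.div_pos (Nat.le_of_dvd hmpos hqm) hq.pos) (sg Λ g) y hkey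
  refine (Ideal.span_le.mpr ?_) hmem
  intro z hz
  rw [Set.mem_singleton_iff] at hz
  rw [hz]
  exact gen_mem_cycIdeal Λ g hg

end Groth.Agent.H29.Cyc
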