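import Mathlib
import Groth.Prelude.Def_W4c6equivkfinstabCyc
import Groth.Agent.Lib.helper29.Cyc3

/-! Cyc4 (helper29): separating elements of group rings. -/

set_option autoImplicit false

namespace Groth.Agent.H29.Cyc

open AddMonoidAlgebra W4c6equivkfinstab Polynomial

variable (Λ : Type*) [CommRing Λ]

section sep

variable {A C : Type*} [AddCommGroup A] [AddCommGroup C]

lemma dom_smul (π : A →+ C) (r : Λ) (x : AddMonoidAlgebra Λ A) :
    dom Λ π (r • x) = r • dom Λ π x :=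
  map_smul (mapDomainAlgHom Λ Λ π) r x

lemma dom_Np (π : A →+ C) (q : ℕ) (w : A) : dom Λ π (Np Λ q w) = Np Λ q (π w) := by
  rw [Np, map_sum, Np]
  refine Finset.sum_congr rfl fun i _ => ?_
  rw [dom_sg, map_nsmul]

lemma Np_zero (q : ℕ) : Np Λ q (0 : A) = (q : AddMonoidAlgebra Λ A) := by
  simp [Np, sg_zero]

/-- the separating element -/
noncomputable def sepEl (u : Λ) (o : ℕ) (b : A) : AddMonoidAlgebra Λ A := u • Np Λ o b

lemma dom_sepEl_of_zero (π : A →+ C) (u : Λ) (o : ℕ) (b : A) (hu : u * (o : Λ) = 1)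
    (hb : π b = 0) : dom Λ π (sepEl Λ u o b) = 1 := by
  rw [sepEl, dom_smul, dom_Np, hb, Np_zero]
  have h1 : ((o : ℕ) : AddMonoidAlgebra Λ C) = algebraMap Λ (AddMonoidAlgebra Λ C) (o : Λ) := by
    rw [map_natCast]
  rw [h1, Algebra.smul_def, ← map_mul, hu, map_one]

lemma smul_mem_ideal (I : Ideal (AddMonoidAlgebra Λ C)) (r : Λ) (x : AddMonoidAlgebra Λ C)
    (hx : x ∈ I) : r • x ∈ I := by
  rw [Algebra.smul_def]
  exact I.mul_mem_left _ hx

lemma dom_sepEl_mem [Finite C] [IsAddCyclic C] (hC : IsUnit ((Nat.card C : ℕ) : Λ))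
    (π : A →+ C) (u : Λ) (b : A) (hb : π b ≠ 0) :
    dom Λ π (sepEl Λ u (addOrderOf (π b)) b) ∈ cycIdeal Λ C := by
  rw [sepEl, dom_smul, dom_Np]
  apply smul_mem_ideal
  apply mem_cycIdeal_of_fixed Λ hC _ (π b) hb
  exact sg_mul_Np Λ _ _ (addOrderOf_nsmul_eq_zero _)

lemma exists_inv_addOrderOf [Finite C] (hC : IsUnit ((Nat.card C : ℕ) : Λ)) (w : C) :
    ∃ u : Λ, u * ((addOrderOf w : ℕ) : Λ) = 1 := by
  have h1 : ((addOrderOf w : ℕ) : Λ) ∣ ((Nat.card C : ℕ) : Λ) :=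
    Nat.cast_dvd_cast (addOrderOf_dvd_natCard w)
  obtain ⟨v, hv⟩ := (isUnit_of_dvd_unit h1 hC).exists_left_inv
  exact ⟨v, hv⟩

end sep

section loc

variable (M : Type*) [AddCommGroup M]

lemma index_eq_card (B : AddSubgroup M) : B.index = Nat.card (M ⧸ B) := rfl

lemma smul_cycQuot (B : AddSubgroup M) (x : AddMonoidAlgebra Λ M)
    (y : AddMonoidAlgebra Λ (M ⧸ B)) :
    x • (Ideal.Quotient.mk (cycIdeal Λ (M ⧸ B)) y) =
      Ideal.Quotient.mk (cycIdeal Λ (M ⧸ B)) (dom Λ (QuotientAddGroup.mk' B) x * y) := rfl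

lemma smul_quot (B : AddSubgroup M) (x : AddMonoidAlgebra Λ M)
    (y : AddMonoidAlgebra Λ (M ⧸ B)) :
    x • y = dom Λ (QuotientAddGroup.mk' B) x * y := rfl

lemma mem_locSubmonoid_iff (B : AddSubgroup M) (x : AddMonoidAlgebra Λ M) :
    x ∈ locSubmonoid Λ M B ↔ cq Λ (QuotientAddGroup.mk' B) x = 1 := Iff.rfl

/-- S19278 core -/
theorem subsingleton_loc_quot (B₀ B : AddSubgroup M) [B.FiniteIndex] [IsAddCyclic (M ⧸ B)]
    (hle : ¬ B₀ ≤ B) (hu : IsUnit ((B.index : ℕ) : Λ)) :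
    Subsingleton (LocalizedModule (locSubmonoid Λ M B) (AddMonoidAlgebra Λ (M ⧸ B₀))) := by
  rw [LocalizedModule.subsingleton_iff]
  obtain ⟨b₀, hb₀, hb₀B⟩ := SetLike.not_le_iff_exists.mp hle
  haveI : Finite (M ⧸ B) := AddSubgroup.finite_quotient_of_finiteIndex
  have hb : (QuotientAddGroup.mk' B) b₀ ≠ 0 := by
    intro h
    exact hb₀B ((QuotientAddGroup.eq_zero_iff _).mp h)
  obtain ⟨u, hu1⟩ := exists_inv_addOrderOf Λ hu ((QuotientAddGroup.mk' B) b₀)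
  set z := sepEl Λ u (addOrderOf ((QuotientAddGroup.mk' B) b₀)) b₀ with hz
  have h1 : dom Λ (QuotientAddGroup.mk' B) z ∈ cycIdeal Λ (M ⧸ B) :=
    dom_sepEl_mem Λ hu _ u b₀ hb
  have h2 : dom Λ (QuotientAddGroup.mk' B₀) z = 1 :=
    dom_sepEl_of_zero Λ _ u _ b₀ hu1 ((QuotientAddGroup.eq_zero_iff _).mpr hb₀)
  intro m
  refine ⟨1 - z, ?_, ?_⟩
  · rw [mem_locSubmonoid_iff, map_sub, map_one, (cq_eq_zero_iff Λ _ z).mpr h1, sub_zero]
  · rw [smul_quot, map_sub, map_one, h2, sub_self, zero_mul]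

/-- S19277 core -/
theorem subsingleton_loc_cycQuot (B B' : AddSubgroup M) [B.FiniteIndex] [B'.FiniteIndex]
    [IsAddCyclic (M ⧸ B)] [IsAddCyclic (M ⧸ B')] (hne : B ≠ B')
    (hu : IsUnit ((B.index : ℕ) : Λ)) (hu' : IsUnit ((B'.index : ℕ) : Λ)) :
    Subsingleton (LocalizedModule (locSubmonoid Λ M B') (CycQuot Λ (M ⧸ B))) := by
  rw [LocalizedModule.subsingleton_iff]
  haveI : Finite (M ⧸ B) := AddSubgroup.finite_quotient_of_finiteIndex
  haveI : Finite (M ⧸ B') := AddSubgroup.finite_quotient_of_finiteIndex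
  by_cases hle : B' ≤ B
  · -- there is b ∈ B not in B'
    have hnle : ¬ B ≤ B' := fun h => hne (le_antisymm h hle)
    obtain ⟨b, hbB, hbB'⟩ := SetLike.not_le_iff_exists.mp hnle
    have hb : (QuotientAddGroup.mk' B') b ≠ 0 := by
      intro h
      exact hbB' ((QuotientAddGroup.eq_zero_iff _).mp h)
    obtain ⟨u, hu1⟩ := exists_inv_addOrderOf Λ hu' ((QuotientAddGroup.mk' B') b)
    set z := sepEl Λ u (addOrderOf ((QuotientAddGroup.mk' B') b)) b with hz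
    have h1 : dom Λ (QuotientAddGroup.mk' B') z ∈ cycIdeal Λ (M ⧸ B') :=
      dom_sepEl_mem Λ hu' _ u b hb
    have h2 : dom Λ (QuotientAddGroup.mk' B) z = 1 :=
      dom_sepEl_of_zero Λ _ u _ b hu1 ((QuotientAddGroup.eq_zero_iff _).mpr hbB)
    intro m
    obtain ⟨y, rfl⟩ := Ideal.Quotient.mk_surjective m
    refine ⟨1 - z, ?_, ?_⟩
    · rw [mem_locSubmonoid_iff, map_sub, map_one, (cq_eq_zero_iff Λ _ z).mpr h1, sub_zero]
    · rw [smul_cycQuot, map_sub, map_one, h2, sub_self, zero_mul, map_zero]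
  · obtain ⟨b, hbB', hbB⟩ := SetLike.not_le_iff_exists.mp hle
    have hb : (QuotientAddGroup.mk' B) b ≠ 0 := by
      intro h
      exact hbB ((QuotientAddGroup.eq_zero_iff _).mp h)
    obtain ⟨u, hu1⟩ := exists_inv_addOrderOf Λ hu ((QuotientAddGroup.mk' B) b)
    set z := sepEl Λ u (addOrderOf ((QuotientAddGroup.mk' B) b)) b with hz
    have h1 : dom Λ (QuotientAddGroup.mk' B) z ∈ cycIdeal Λ (M ⧸ B) :=
      dom_sepEl_mem Λ hu _ u b hb
    have h2 : dom Λ (QuotientAddGroup.mk' B') z = 1 :=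
      dom_sepEl_of_zero Λ _ u _ b hu1 ((QuotientAddGroup.eq_zero_iff _).mpr hbB')
    intro m
    obtain ⟨y, rfl⟩ := Ideal.Quotient.mk_surjective m
    refine ⟨z, ?_, ?_⟩
    · rw [mem_locSubmonoid_iff, cq_eq_one_iff, h2, sub_self]
      exact zero_mem _
    · rw [smul_cycQuot]
      exact Ideal.Quotient.eq_zero_iff_mem.mpr (Ideal.mul_mem_right _ _ h1)

end loc

end Groth.Agent.H29.Cyc
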