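import Mathlib
import Groth.Prelude.Def_W4c6equivkfinstabCyc
import Groth.Agent.Lib.helper29.Cyc4

/-! Cyc5 (helper29): non-cyclic finite commutative groups; the line identity. -/

set_option autoImplicit false

namespace Groth.Agent.H29.Cyc

open AddMonoidAlgebra W4c6equivkfinstab Polynomial

section NC

variable {A : Type*} [AddCommGroup A]

lemma nsmul_mod_eq (p : ℕ) (v : A) (hv : p • v = 0) (c : ℕ) : c • v = (c % p) • v := by
  conv_lhs => rw [← Nat.div_add_mod c p]
  rw [add_nsmul, mul_nsmul, hv, nsmul_zero, zero_add]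

/-- In a finite commutative group which is not cyclic there are two independent elements of
prime order. -/
theorem exists_indep_of_not_cyclic [Finite A] (h : ¬ IsAddCyclic A) :
    ∃ (p : ℕ) (u v : A), p.Prime ∧ p • u = 0 ∧ p • v = 0 ∧ v ≠ 0 ∧ ∀ c : ℕ, u + c • v ≠ 0 := by
  classical
  haveI : Fintype A := Fintype.ofFinite A
  let T : ℕ → Finset A := fun n => Finset.univ.filter fun a => n • a = 0
  have hT : ∀ n a, a ∈ T n ↔ n • a = 0 := by
    intro n a
    simp only [T, Finset.mem_filter, Finset.mem_univ, true_and]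
  have hex : ∃ n, 0 < n ∧ n < (T n).card := by
    by_contra hcon
    push Not at hcon
    exact h (isAddCyclic_of_card_nsmul_eq_zero_le fun n hn => hcon n hn)
  obtain ⟨n, ⟨hn0, hn⟩, hmin'⟩ : ∃ n, (0 < n ∧ n < (T n).card) ∧
      ∀ k, k < n → ¬ (0 < k ∧ k < (T k).card) :=
    ⟨Nat.find hex, Nat.find_spec hex, fun k hk => Nat.find_min hex hk⟩
  have hmin : ∀ k, 0 < k → k < n → (T k).card ≤ k := by
    intro k hk0 hkn
    by_contra hk
    exact hmin' k hkn ⟨hk0, not_le.mp hk⟩
  have hn1 : n ≠ 1 := by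
    rintro rfl
    have : (T 1).card ≤ 1 := by
      apply Finset.card_le_one.mpr
      intro a ha b hb
      rw [hT, one_nsmul] at ha hb
      rw [ha, hb]
    omega
  obtain ⟨p, hp, k, hk⟩ := Nat.exists_prime_and_dvd hn1
  have hk0 : 0 < k := by
    rcases Nat.eq_zero_or_pos k with h0 | h0
    · rw [h0, mul_zero] at hk; omega
    · exact h0
  have hkn : k < n := by
    rw [hk]
    have := hp.two_le
    nlinarith
  have hmaps : ∀ a ∈ T n, k • a ∈ T p := by
    intro a ha
    rw [hT] at ha ⊢
    rw [← mul_nsmul', ← hk, ha]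
  have hcard : (T n).card ≤ k * (T p).card := by
    apply Finset.card_le_mul_card_image_of_maps_to hmaps
    intro b _
    rcases Finset.eq_empty_or_nonempty ((T n).filter fun a => k • a = b) with he | ⟨a₀, ha₀⟩
    · rw [he, Finset.card_empty]; exact Nat.zero_le _
    · refine le_trans ?_ (hmin k hk0 hkn)
      apply Finset.card_le_card_of_injOn (fun a => a - a₀)
      · intro a ha
        simp only [Finset.coe_filter, Set.mem_setOf_eq] at ha
        have ha₀' := (Finset.mem_filter.mp ha₀).2
        show a - a₀ ∈ T k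
        rw [hT, nsmul_sub, ha.2, ha₀', sub_self]
      · intro a _ a' _ haa
        exact sub_left_injective haa
  have hTp : p < (T p).card := by
    by_contra hcon
    push Not at hcon
    have : (T n).card ≤ k * p := le_trans hcard (Nat.mul_le_mul_left k hcon)
    rw [mul_comm, ← hk] at this
    omega
  have h1 : 1 < (T p).card := lt_trans hp.one_lt hTp
  obtain ⟨v, hvT, hv0⟩ := Finset.exists_mem_ne h1 0
  rw [hT] at hvT
  let S : Finset A := (Finset.range p).image fun i => -(i • v)
  have hS : S.card < (T p).card :=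
    lt_of_le_of_lt (le_trans Finset.card_image_le (by rw [Finset.card_range])) hTp
  obtain ⟨u, huT, huS⟩ := Finset.exists_mem_notMem_of_card_lt_card hS
  rw [hT] at huT
  refine ⟨p, u, v, hp, huT, hvT, hv0, ?_⟩
  intro c hc
  apply huS
  rw [nsmul_mod_eq p v hvT c] at hc
  exact Finset.mem_image.mpr ⟨c % p, Finset.mem_range.mpr (Nat.mod_lt _ hp.pos),
    (eq_neg_of_add_eq_zero_left hc).symm⟩

end NC

variable (Λ : Type*) [CommRing Λ] {A : Type*} [AddCommGroup A]

lemma sum_sg_mul_perm (p : ℕ) (hp : p.Prime) (v : A) (hv : p • v = 0) (i : ℕ) (hi0 : 0 < i)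
    (hip : i < p) : ∑ c ∈ Finset.range p, sg Λ ((i * c) • v) = Np Λ p v := by
  classical
  have hcop : Nat.Coprime p i :=
    (Nat.Prime.coprime_iff_not_dvd hp).mpr (Nat.not_dvd_of_pos_of_lt hi0 hip)
  let σ : ℕ → ℕ := fun c => (i * c) % p
  have hinj : Set.InjOn σ (Finset.range p : Set ℕ) := by
    intro c hc c' hc' h
    have h1 : i * c ≡ i * c' [MOD p] := h
    have h2 : c ≡ c' [MOD p] := Nat.ModEq.cancel_left_of_coprime hcop h1
    exact Nat.ModEq.eq_of_lt_of_lt h2 (Finset.mem_range.mp (Finset.mem_coe.mp hc))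
      (Finset.mem_range.mp (Finset.mem_coe.mp hc'))
  have himg : (Finset.range p).image σ = Finset.range p := by
    apply Finset.eq_of_subset_of_card_le
    · intro j hj
      obtain ⟨c, _, rfl⟩ := Finset.mem_image.mp hj
      exact Finset.mem_range.mpr (Nat.mod_lt _ hp.pos)
    · rw [Finset.card_image_of_injOn hinj]
  rw [Np]
  conv_rhs => rw [← himg]
  rw [Finset.sum_image hinj]
  refine Finset.sum_congr rfl fun c _ => ?_
  rw [nsmul_mod_eq p v hv (i * c)]

/-- the line identity -/
theorem Np_identity (p : ℕ) (hp : p.Prime) (u v : A) (hv : p • v = 0) :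
    ∑ c ∈ Finset.range p, Np Λ p (u + c • v) + Np Λ p v =
      (p : AddMonoidAlgebra Λ A) + Np Λ p u * Np Λ p v := by
  have h1 : ∑ c ∈ Finset.range p, Np Λ p (u + c • v) =
      ∑ i ∈ Finset.range p, sg Λ (i • u) * ∑ c ∈ Finset.range p, sg Λ ((i * c) • v) := by
    simp only [Np]
    rw [Finset.sum_comm]
    refine Finset.sum_congr rfl fun i _ => ?_
    rw [Finset.mul_sum]
    refine Finset.sum_congr rfl fun c _ => ?_
    rw [← sg_add, nsmul_add, mul_nsmul']
  have h2 : ∀ i ∈ Finset.range p,
      sg Λ (i • u) * ∑ c ∈ Finset.range p, sg Λ ((i * c) • v) +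
        (if i = 0 then Np Λ p v else 0) =
      (if i = 0 then (p : AddMonoidAlgebra Λ A) else 0) + sg Λ (i • u) * Np Λ p v := by
    intro i hi
    by_cases hi0 : i = 0
    · subst hi0
      simp [sg_zero, add_comm]
    · rw [if_neg hi0, if_neg hi0, add_zero, zero_add,
        sum_sg_mul_perm Λ p hp v hv i (Nat.pos_of_ne_zero hi0) (Finset.mem_range.mp hi)]
  have h3 := Finset.sum_congr rfl h2
  rw [Finset.sum_add_distrib, Finset.sum_add_distrib, Finset.sum_ite_eq', Finset.sum_ite_eq',
    if_pos (Finset.mem_range.mpr hp.pos), if_pos (Finset.mem_range.mpr hp.pos)] at h3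
  rw [h1, h3]
  congr 1
  show _ = (∑ i ∈ Finset.range p, sg Λ (i • u)) * Np Λ p v
  rw [Finset.sum_mul]

end Groth.Agent.H29.Cyc
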