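import Mathlib
import Groth.Prelude.Def_W4c6equivkfinstabCyc
import Groth.Agent.Lib.helper29.Cyc5

/-! Cyc6 (helper29): the injectivity core: an element of the group ring of a finite commutative
group (of invertible order) killed by all cyclotomic quotients of cyclic quotients is zero. -/

set_option autoImplicit false

universe u v

namespace Groth.Agent.H29.Cyc

open AddMonoidAlgebra W4c6equivkfinstab Polynomial

variable (Λ : Type u) [CommRing Λ]

lemma cq_dom {A C C' : Type*} [AddCommGroup A] [AddCommGroup C] [AddCommGroup C']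
    (π : A →+ C) (ρ : C →+ C') (x : AddMonoidAlgebra Λ A) :
    cq Λ ρ (dom Λ π x) = cq Λ (ρ.comp π) x := by
  show Ideal.Quotient.mk _ (dom Λ ρ (dom Λ π x)) = Ideal.Quotient.mk _ (dom Λ (ρ.comp π) x)
  rw [dom_comp]

lemma prod_mul_fixed {R ι : Type*} [CommRing R] (s : Finset ι) (f : ι → R) (x : R)
    (h : ∀ i ∈ s, f i * x = x) : (∏ i ∈ s, f i) * x = x := by
  classical
  induction s using Finset.induction_on with
  | empty => rw [Finset.prod_empty, one_mul]
  | insert a s ha ih =>
    rw [Finset.prod_insert ha, mul_assoc, ih fun i hi => h i (Finset.mem_insert_of_mem hi),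
      h a (Finset.mem_insert_self a s)]

lemma natCast_mul_eq_zero {A : Type*} [AddCommGroup A] (p : ℕ) (hp : IsUnit ((p : ℕ) : Λ))
    (x : AddMonoidAlgebra Λ A) (h : (p : AddMonoidAlgebra Λ A) * x = 0) : x = 0 := by
  obtain ⟨r, hr⟩ := hp.exists_left_inv
  have h1 : ((p : ℕ) : AddMonoidAlgebra Λ A) = algebraMap Λ (AddMonoidAlgebra Λ A) (p : Λ) := by
    rw [map_natCast]
  have h2 : algebraMap Λ (AddMonoidAlgebra Λ A) r * ((p : AddMonoidAlgebra Λ A) * x) = x := by
    rw [h1, ← mul_assoc, ← map_mul, hr, map_one, one_mul]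
  rw [← h2, h, mul_zero]

/-- cyclic case -/
lemma eq_zero_of_cyclic {A : Type*} [AddCommGroup A] [Finite A] [IsAddCyclic A]
    (hunit : IsUnit ((Nat.card A : ℕ) : Λ)) (x : AddMonoidAlgebra Λ A)
    (hxI : x ∈ cycIdeal Λ A)
    (hstar : ∀ (q : ℕ) (w : A), q.Prime → q • w = 0 → w ≠ 0 → Np Λ q w * x = 0) : x = 0 := by
  classical
  haveI : Fintype A := Fintype.ofFinite A
  set m := Nat.card A with hm
  have hmpos : 0 < m := Nat.card_pos
  obtain ⟨m', hm'⟩ := hunit.exists_right_inv
  let P : A → AddMonoidAlgebra Λ A := fun g' =>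
    ∏ q ∈ m.primeFactors, (1 - algebraMap Λ (AddMonoidAlgebra Λ A) (((m / q : ℕ) : Λ) * m') *
      ∑ i ∈ Finset.range q, (sg Λ g') ^ (i * (m / q)))
  let Gens : Finset A := Finset.univ.filter fun g' => AddSubgroup.zmultiples g' = ⊤
  let Q : AddMonoidAlgebra Λ A := ∏ g' ∈ Gens, P g'
  have hpowm : ∀ g' : A, sg Λ g' ^ m = 1 := by
    intro g'
    rw [← sg_nsmul, hm, card_nsmul_eq_zero', sg_zero]
  have hPkill : ∀ g' : A, P g' * aeval (sg Λ g') (cyclotomic m Λ) = 0 := fun g' =>
    prod_mul_cyc_eq_zero (Λ := Λ) m m' hm' (sg Λ g') (hpowm g')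
  have hQkill : ∀ y ∈ cycIdeal Λ A, Q * y = 0 := by
    intro y hy
    rw [cycIdeal] at hy
    induction hy using Submodule.span_induction with
    | mem y hy =>
      obtain ⟨g', hg', rfl⟩ := hy
      have hmem : g' ∈ Gens := Finset.mem_filter.mpr ⟨Finset.mem_univ _, hg'⟩
      obtain ⟨c, hc⟩ := Finset.dvd_prod_of_mem P hmem
      show Q * aeval (sg Λ g') (cyclotomic m Λ) = 0
      rw [show Q = P g' * c from hc, mul_comm (P g') c, mul_assoc, hPkill, mul_zero]
    | zero => rw [mul_zero]
    | add y y' _ _ hy hy' => rw [mul_add, hy, hy', add_zero]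
    | smul a y _ hy => rw [smul_eq_mul, mul_left_comm, hy, mul_zero]
  have hPfix : ∀ g' ∈ Gens, P g' * x = x := by
    intro g' hg'
    have hgen : AddSubgroup.zmultiples g' = ⊤ := (Finset.mem_filter.mp hg').2
    have hord : addOrderOf g' = m := by
      rw [hm]
      exact addOrderOf_eq_card_of_forall_mem_zmultiples fun a => by rw [hgen]; trivial
    apply prod_mul_fixed
    intro q hq
    have hqp : q.Prime := Nat.prime_of_mem_primeFactors hq
    have hqm : q ∣ m := Nat.dvd_of_mem_primeFactors hq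
    have hsum : ∑ i ∈ Finset.range q, (sg Λ g') ^ (i * (m / q)) = Np Λ q ((m / q) • g') := by
      rw [Np]
      refine Finset.sum_congr rfl fun i _ => ?_
      rw [← sg_nsmul, mul_nsmul']
    have hw0 : (m / q) • g' ≠ 0 := by
      intro h0
      have h1 : addOrderOf g' ∣ m / q := addOrderOf_dvd_of_nsmul_eq_zero h0
      rw [hord] at h1
      have h2 : m / q < m := Nat.div_lt_self hmpos hqp.one_lt
      have h3 : 0 < m / q := Nat.div_pos (Nat.le_of_dvd hmpos hqm) hqp.pos
      exact absurd (Nat.le_of_dvd h3 h1) (not_le.mpr h2)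
    have hqw : q • ((m / q) • g') = 0 := by
      rw [← mul_nsmul', Nat.mul_div_cancel' hqm, ← hord, addOrderOf_nsmul_eq_zero]
    rw [hsum, sub_mul, one_mul, mul_assoc, hstar q _ hqp hqw hw0, mul_zero, sub_zero]
  have hQfix : Q * x = x := prod_mul_fixed Gens P x hPfix
  rw [← hQfix]
  exact hQkill x hxI

/-- non-cyclic case -/
lemma eq_zero_of_not_cyclic {A : Type*} [AddCommGroup A] [Finite A] (hnc : ¬ IsAddCyclic A)
    (hunit : IsUnit ((Nat.card A : ℕ) : Λ)) (x : AddMonoidAlgebra Λ A)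
    (hstar : ∀ (q : ℕ) (w : A), q.Prime → q • w = 0 → w ≠ 0 → Np Λ q w * x = 0) : x = 0 := by
  obtain ⟨p, u, v, hp, hpu, hpv, hv0, huv⟩ := exists_indep_of_not_cyclic hnc
  haveI : Fact p.Prime := ⟨hp⟩
  have hpA : p ∣ Nat.card A := by
    rw [← addOrderOf_eq_prime hpv hv0]
    exact addOrderOf_dvd_natCard v
  have hpunit : IsUnit ((p : ℕ) : Λ) := isUnit_of_dvd_unit (Nat.cast_dvd_cast hpA) hunit
  apply natCast_mul_eq_zero Λ p hpunit
  have hid := congrArg (fun z => z * x) (Np_identity Λ p hp u v hpv)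
  simp only [add_mul, Finset.sum_mul] at hid
  have h1 : ∀ c ∈ Finset.range p, Np Λ p (u + c • v) * x = 0 := by
    intro c _
    apply hstar p _ hp _ (huv c)
    rw [nsmul_add, hpu, ← mul_nsmul', mul_comm, mul_nsmul', hpv, nsmul_zero, add_zero]
  rw [Finset.sum_eq_zero h1, hstar p v hp hpv hv0, add_zero, mul_assoc, hstar p v hp hpv hv0,
    mul_zero, add_zero] at hid
  exact hid.symm

/-- the injectivity core, in surjection form -/
theorem inj_core : ∀ (n : ℕ) (A : Type v) [AddCommGroup A] [Finite A], Nat.card A = n →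
    IsUnit ((n : ℕ) : Λ) → ∀ x : AddMonoidAlgebra Λ A,
    (∀ (C : Type v) [AddCommGroup C] [IsAddCyclic C] (π : A →+ C),
      Function.Surjective π → cq Λ π x = 0) → x = 0 := by
  intro n
  induction n using Nat.strong_induction_on with
  | _ n IH =>
  intro A _ _ hcard hunit x hx
  have hstar : ∀ (q : ℕ) (w : A), q.Prime → q • w = 0 → w ≠ 0 → Np Λ q w * x = 0 := by
    intro q w hq hqw hw0
    haveI : Fact q.Prime := ⟨hq⟩
    apply Np_mul_eq_zero_of_dom Λ q w hqw
    have hcardD : Nat.card (AddSubgroup.zmultiples w) = q := by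
      rw [Nat.card_zmultiples, addOrderOf_eq_prime hqw hw0]
    have hmul : Nat.card A = Nat.card (A ⧸ AddSubgroup.zmultiples w) * q := by
      rw [← hcardD]
      exact AddSubgroup.card_eq_card_quotient_mul_card_addSubgroup _
    have hpos : 0 < Nat.card (A ⧸ AddSubgroup.zmultiples w) := Nat.card_pos
    refine IH (Nat.card (A ⧸ AddSubgroup.zmultiples w)) ?_ (A ⧸ AddSubgroup.zmultiples w) rfl ?_
      _ ?_
    · rw [← hcard, hmul]
      have := hq.two_le
      nlinarith
    · refine isUnit_of_dvd_unit (Nat.cast_dvd_cast ?_) hunit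
      rw [← hcard, hmul]
      exact dvd_mul_right _ _
    · intro C _ _ π hπ
      rw [cq_dom]
      exact hx C _ (hπ.comp (QuotientAddGroup.mk'_surjective _))
  by_cases hcyc : IsAddCyclic A
  · haveI := hcyc
    apply eq_zero_of_cyclic Λ (by rw [hcard]; exact hunit) x _ hstar
    have h := hx A (AddMonoidHom.id A) Function.surjective_id
    rw [cq_eq_zero_iff, dom_id] at h
    exact h
  · exact eq_zero_of_not_cyclic Λ hcyc (by rw [hcard]; exact hunit) x hstar

end Groth.Agent.H29.Cyc
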