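import Mathlib
import Groth.Prelude.Def_W4c6equivkfinstabCyc
import Groth.Agent.Lib.helper29.Cyc6

/-! Cyc7 (helper29): the decomposition of group rings of finite commutative groups:
injectivity in subgroup form, orthogonal elements. -/

set_option autoImplicit false

universe u v

namespace Groth.Agent.H29.Cyc

open AddMonoidAlgebra W4c6equivkfinstab Polynomial

variable (Λ : Type u) [CommRing Λ]

lemma cq_of_ker {A C : Type*} [AddCommGroup A] [AddCommGroup C] (π : A →+ C)
    (hπ : Function.Surjective π) (x : AddMonoidAlgebra Λ A)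
    (h : cq Λ (QuotientAddGroup.mk' π.ker) x = 0) : cq Λ π x = 0 := by
  have hcomp : (QuotientAddGroup.quotientKerEquivOfSurjective π hπ).toAddMonoidHom.comp
      (QuotientAddGroup.mk' π.ker) = π := by
    ext a; rfl
  have := cq_comp_equiv Λ _ (QuotientAddGroup.quotientKerEquivOfSurjective π hπ) x h
  rw [hcomp] at this
  exact this

/-- injectivity, relative form -/
theorem core' (M : Type v) [AddCommGroup M] (B₀ : AddSubgroup M) [B₀.FiniteIndex]
    (hu : IsUnit ((B₀.index : ℕ) : Λ)) (y : AddMonoidAlgebra Λ M)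
    (h : ∀ B : AddSubgroup M, B₀ ≤ B → IsAddCyclic (M ⧸ B) →
      cq Λ (QuotientAddGroup.mk' B) y = 0) : dom Λ (QuotientAddGroup.mk' B₀) y = 0 := by
  haveI : Finite (M ⧸ B₀) := AddSubgroup.finite_quotient_of_finiteIndex
  apply inj_core Λ (Nat.card (M ⧸ B₀)) (M ⧸ B₀) rfl hu
  intro C _ _ π hπ
  rw [cq_dom]
  have hπ' : Function.Surjective (π.comp (QuotientAddGroup.mk' B₀)) :=
    hπ.comp (QuotientAddGroup.mk'_surjective _)
  apply cq_of_ker Λ _ hπ'
  apply h
  · intro b hb
    rw [AddMonoidHom.mem_ker]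
    show π (QuotientAddGroup.mk' B₀ b) = 0
    have hb0 : (QuotientAddGroup.mk' B₀) b = 0 := (QuotientAddGroup.eq_zero_iff b).mpr hb
    rw [hb0, map_zero]
  · exact isAddCyclic_of_surjective
      (QuotientAddGroup.quotientKerEquivOfSurjective _ hπ').symm.toAddMonoidHom
      (QuotientAddGroup.quotientKerEquivOfSurjective _ hπ').symm.surjective

/-- if `B₀ ≤ B` then the map to `Λ[M/B]` factors through `Λ[M/B₀]` -/
lemma dom_eq_zero_of_le {M : Type*} [AddCommGroup M] (B₀ B : AddSubgroup M) (hle : B₀ ≤ B)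
    (z : AddMonoidAlgebra Λ M) (hz : dom Λ (QuotientAddGroup.mk' B₀) z = 0) :
    dom Λ (QuotientAddGroup.mk' B) z = 0 := by
  have hcomp : (QuotientAddGroup.map B₀ B (AddMonoidHom.id M) hle).comp
      (QuotientAddGroup.mk' B₀) = QuotientAddGroup.mk' B := by
    ext a; rfl
  rw [← hcomp, dom_comp, hz, map_zero]

/-- separating a pair of subgroups with cyclic quotients -/
theorem exists_sep_pair (M : Type*) [AddCommGroup M] (B B' : AddSubgroup M) [B.FiniteIndex]
    [B'.FiniteIndex] [IsAddCyclic (M ⧸ B)] [IsAddCyclic (M ⧸ B')] (hne : B ≠ B')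
    (hu : IsUnit ((B.index : ℕ) : Λ)) (hu' : IsUnit ((B'.index : ℕ) : Λ)) :
    ∃ t : AddMonoidAlgebra Λ M, cq Λ (QuotientAddGroup.mk' B) t = 1 ∧
      cq Λ (QuotientAddGroup.mk' B') t = 0 := by
  haveI : Finite (M ⧸ B) := AddSubgroup.finite_quotient_of_finiteIndex
  haveI : Finite (M ⧸ B') := AddSubgroup.finite_quotient_of_finiteIndex
  by_cases hle : B' ≤ B
  · have hnle : ¬ B ≤ B' := fun h => hne (le_antisymm h hle)
    obtain ⟨b, hbB, hbB'⟩ := SetLike.not_le_iff_exists.mp hnle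
    have hb : (QuotientAddGroup.mk' B') b ≠ 0 := by
      intro h
      exact hbB' ((QuotientAddGroup.eq_zero_iff _).mp h)
    obtain ⟨u, hu1⟩ := exists_inv_addOrderOf Λ hu' ((QuotientAddGroup.mk' B') b)
    have h1 : dom Λ (QuotientAddGroup.mk' B')
        (sepEl Λ u (addOrderOf ((QuotientAddGroup.mk' B') b)) b) ∈ cycIdeal Λ (M ⧸ B') :=
      dom_sepEl_mem Λ hu' _ u b hb
    have h2 : dom Λ (QuotientAddGroup.mk' B)
        (sepEl Λ u (addOrderOf ((QuotientAddGroup.mk' B') b)) b) = 1 :=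
      dom_sepEl_of_zero Λ _ u _ b hu1 ((QuotientAddGroup.eq_zero_iff _).mpr hbB)
    refine ⟨sepEl Λ u (addOrderOf ((QuotientAddGroup.mk' B') b)) b, ?_, ?_⟩
    · rw [cq_eq_one_iff, h2, sub_self]
      exact zero_mem _
    · exact (cq_eq_zero_iff Λ _ _).mpr h1
  · obtain ⟨b, hbB', hbB⟩ := SetLike.not_le_iff_exists.mp hle
    have hb : (QuotientAddGroup.mk' B) b ≠ 0 := by
      intro h
      exact hbB ((QuotientAddGroup.eq_zero_iff _).mp h)
    obtain ⟨u, hu1⟩ := exists_inv_addOrderOf Λ hu ((QuotientAddGroup.mk' B) b)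
    have h1 : dom Λ (QuotientAddGroup.mk' B)
        (sepEl Λ u (addOrderOf ((QuotientAddGroup.mk' B) b)) b) ∈ cycIdeal Λ (M ⧸ B) :=
      dom_sepEl_mem Λ hu _ u b hb
    have h2 : dom Λ (QuotientAddGroup.mk' B')
        (sepEl Λ u (addOrderOf ((QuotientAddGroup.mk' B) b)) b) = 1 :=
      dom_sepEl_of_zero Λ _ u _ b hu1 ((QuotientAddGroup.eq_zero_iff _).mpr hbB')
    refine ⟨1 - sepEl Λ u (addOrderOf ((QuotientAddGroup.mk' B) b)) b, ?_, ?_⟩
    · rw [map_sub, map_one, (cq_eq_zero_iff Λ _ _).mpr h1, sub_zero]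
    · rw [cq_eq_zero_iff, map_sub, map_one, h2, sub_self]
      exact zero_mem _

/-- orthogonal elements for a finite family of subgroups with cyclic quotients -/
theorem exists_eps (M : Type*) [AddCommGroup M] {ι : Type*} [Finite ι] [DecidableEq ι]
    (B : ι → AddSubgroup M)
    (hinj : Function.Injective B)
    (hfi : ∀ i, (B i).FiniteIndex) (hcyc : ∀ i, IsAddCyclic (M ⧸ B i))
    (hu : ∀ i, IsUnit (((B i).index : ℕ) : Λ)) :
    ∃ ε : ι → AddMonoidAlgebra Λ M, ∀ i j,
      cq Λ (QuotientAddGroup.mk' (B i)) (ε j) = if i = j then 1 else 0 := by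
  haveI : Fintype ι := Fintype.ofFinite ι
  have hpair : ∀ j i, ∃ t : AddMonoidAlgebra Λ M, i ≠ j →
      cq Λ (QuotientAddGroup.mk' (B j)) t = 1 ∧ cq Λ (QuotientAddGroup.mk' (B i)) t = 0 := by
    intro j i
    by_cases hij : i = j
    · exact ⟨0, fun h => absurd hij h⟩
    · haveI := hfi i
      haveI := hfi j
      haveI := hcyc i
      haveI := hcyc j
      obtain ⟨t, ht⟩ := exists_sep_pair Λ M (B j) (B i) (fun h => hij (hinj h).symm) (hu j) (hu i)
      exact ⟨t, fun _ => ht⟩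
  choose t ht using hpair
  refine ⟨fun j => ∏ i ∈ Finset.univ.erase j, t j i, ?_⟩
  intro i j
  rw [map_prod]
  by_cases hij : i = j
  · rw [if_pos hij]
    subst hij
    refine Finset.prod_eq_one fun i' hi' => ?_
    exact (ht i i' (Finset.ne_of_mem_erase hi')).1
  · rw [if_neg hij]
    exact Finset.prod_eq_zero (Finset.mem_erase.mpr ⟨hij, Finset.mem_univ _⟩) (ht j i hij).2

end Groth.Agent.H29.Cyc
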