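import Mathlib

/-!
# Base-change ranks of finitely generated modules over a DVR (helper29)
-/

set_option autoImplicit false
universe u v w
open TensorProduct

namespace Groth.Agent.H29.DVRMod

noncomputable section

/-- the rank after base change to a field `F` -/
def bcRank (R : Type u) [CommRing R] (F : Type u) [Field F] [Algebra R F] (M : Type v)
    [AddCommGroup M] [Module R M] : ℕ := Module.finrank F (F ⊗[R] M)

section
variable {R : Type u} [CommRing R] {F : Type u} [Field F] [Algebra R F]

lemma bcRank_congr {M : Type v} {N : Type w} [AddCommGroup M] [Module R M] [AddCommGroup N]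
    [Module R N] (e : M ≃ₗ[R] N) : bcRank R F M = bcRank R F N :=
  LinearEquiv.finrank_eq (e.baseChange R F M N)

lemma bcRank_prod {M : Type v} {N : Type w} [AddCommGroup M] [Module R M] [AddCommGroup N]
    [Module R N] [Module.Finite R M] [Module.Finite R N] :
    bcRank R F (M × N) = bcRank R F M + bcRank R F N := by
  unfold bcRank
  rw [LinearEquiv.finrank_eq (TensorProduct.prodRight R F F M N), Module.finrank_prod]

lemma bcRank_pi {ι : Type w} [Fintype ι] (N : ι → Type v) [∀ i, AddCommGroup (N i)]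
    [∀ i, Module R (N i)] [∀ i, Module.Finite R (N i)] :
    bcRank R F (∀ i, N i) = ∑ i, bcRank R F (N i) := by
  classical
  unfold bcRank
  rw [LinearEquiv.finrank_eq (TensorProduct.piRight R F F N), Module.finrank_pi_fintype]

lemma bcRank_subsingleton {M : Type v} [AddCommGroup M] [Module R M] [Subsingleton M] :
    bcRank R F M = 0 := by
  unfold bcRank
  exact Module.finrank_zero_of_subsingleton

lemma bcRank_self : bcRank R F R = 1 := by
  unfold bcRank
  rw [LinearEquiv.finrank_eq (TensorProduct.AlgebraTensorModule.rid R F F), Module.finrank_self]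

lemma bcRank_fun {ι : Type w} [Fintype ι] : bcRank R F (ι → R) = Fintype.card ι := by
  rw [bcRank_pi (fun _ : ι => R)]
  simp [bcRank_self]

/-- cyclic modules have base-change rank at most one -/
lemma bcRank_le_one_of_cyclic {M : Type v} [AddCommGroup M] [Module R M] (x : M)
    (hx : ∀ y : M, ∃ c : R, c • x = y) : bcRank R F M ≤ 1 := by
  unfold bcRank
  refine finrank_le_one ((1 : F) ⊗ₜ[R] x) fun w => ?_
  induction w using TensorProduct.induction_on with
  | zero => exact ⟨0, by simp⟩
  | tmul c y =>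
    obtain ⟨r, rfl⟩ := hx y
    refine ⟨c * algebraMap R F r, ?_⟩
    rw [TensorProduct.smul_tmul', smul_eq_mul, mul_one, TensorProduct.tmul_smul,
      TensorProduct.smul_tmul', Algebra.smul_def, mul_comm]
  | add a b ha hb =>
    obtain ⟨c₁, h₁⟩ := ha
    obtain ⟨c₂, h₂⟩ := hb
    exact ⟨c₁ + c₂, by rw [add_smul, h₁, h₂]⟩
end

section local_
variable {R : Type u} [CommRing R] [IsLocalRing R]

lemma bcRank_residue_cyclic {M : Type v} [AddCommGroup M] [Module R M] [Module.Finite R M]
    [Nontrivial M] (x : M) (hx : ∀ y : M, ∃ c : R, c • x = y) :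
    bcRank R (IsLocalRing.ResidueField R) M = 1 := by
  apply le_antisymm (bcRank_le_one_of_cyclic x hx)
  unfold bcRank
  have : ¬ Subsingleton (IsLocalRing.ResidueField R ⊗[R] M) := by
    rw [IsLocalRing.subsingleton_tensorProduct]
    exact not_subsingleton M
  rw [not_subsingleton_iff_nontrivial] at this
  exact Module.finrank_pos
end local_

section torsionBy
variable {R : Type u} [CommRing R] (a : R)

def torsionByCongr {M : Type v} {N : Type w} [AddCommGroup M] [Module R M] [AddCommGroup N]
    [Module R N] (e : M ≃ₗ[R] N) : Submodule.torsionBy R M a ≃ₗ[R] Submodule.torsionBy R N a where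
  toFun x := ⟨e x, by
    rw [Submodule.mem_torsionBy_iff, ← map_smul, (Submodule.mem_torsionBy_iff _ _).mp x.2, map_zero]⟩
  invFun y := ⟨e.symm y, by
    rw [Submodule.mem_torsionBy_iff, ← map_smul, (Submodule.mem_torsionBy_iff _ _).mp y.2, map_zero]⟩
  map_add' x y := by ext; simp
  map_smul' c x := by ext; simp
  left_inv x := by ext; simp
  right_inv y := by ext; simp

def torsionByProd (M : Type v) (N : Type w) [AddCommGroup M] [Module R M] [AddCommGroup N]
    [Module R N] : Submodule.torsionBy R (M × N) a ≃ₗ[R]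
      Submodule.torsionBy R M a × Submodule.torsionBy R N a where
  toFun x := (⟨x.1.1, by
      have := (Submodule.mem_torsionBy_iff _ _).mp x.2
      rw [Submodule.mem_torsionBy_iff]
      exact congrArg Prod.fst this⟩, ⟨x.1.2, by
      have := (Submodule.mem_torsionBy_iff _ _).mp x.2
      rw [Submodule.mem_torsionBy_iff]
      exact congrArg Prod.snd this⟩)
  invFun p := ⟨(p.1.1, p.2.1), by
    rw [Submodule.mem_torsionBy_iff]
    ext
    · exact (Submodule.mem_torsionBy_iff _ _).mp p.1.2
    · exact (Submodule.mem_torsionBy_iff _ _).mp p.2.2⟩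
  map_add' x y := by ext <;> simp
  map_smul' c x := by ext <;> simp
  left_inv x := by ext <;> simp
  right_inv y := by ext <;> simp

def torsionByPi {ι : Type w} (N : ι → Type v) [∀ i, AddCommGroup (N i)] [∀ i, Module R (N i)] :
    Submodule.torsionBy R (∀ i, N i) a ≃ₗ[R] ∀ i, Submodule.torsionBy R (N i) a where
  toFun x i := ⟨x.1 i, by
      have := (Submodule.mem_torsionBy_iff _ _).mp x.2
      rw [Submodule.mem_torsionBy_iff]
      exact congrFun this i⟩
  invFun p := ⟨fun i => (p i).1, by
    rw [Submodule.mem_torsionBy_iff]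
    funext i
    exact (Submodule.mem_torsionBy_iff _ _).mp (p i).2⟩
  map_add' x y := by ext; simp
  map_smul' c x := by ext; simp
  left_inv x := by ext; simp
  right_inv y := by ext; simp

end torsionBy

section dvr
variable {R : Type u} [CommRing R] [IsDomain R] [IsDiscreteValuationRing R] {ϖ : R}
  (hϖ : Irreducible ϖ)

include hϖ

lemma quot_subsingleton_zero : Subsingleton (R ⧸ Ideal.span {ϖ ^ 0}) := by
  rw [pow_zero, Ideal.span_singleton_one]
  exact Ideal.Quotient.subsingleton_iff.mpr rfl

lemma quot_nontrivial {e : ℕ} (he : 0 < e) : Nontrivial (R ⧸ Ideal.span {ϖ ^ e}) := by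
  rw [Ideal.Quotient.nontrivial_iff, Ne, Ideal.span_singleton_eq_top, isUnit_pow_iff he.ne']
  exact hϖ.not_isUnit

/-- d₁ of R/ϖ^e -/
lemma d1_quot (e : ℕ) : bcRank R (IsLocalRing.ResidueField R) (R ⧸ Ideal.span {ϖ ^ e}) =
    if e = 0 then 0 else 1 := by
  rcases Nat.eq_zero_or_pos e with rfl | he
  · haveI := quot_subsingleton_zero hϖ
    simp [bcRank_subsingleton]
  · haveI := quot_nontrivial hϖ he
    rw [if_neg he.ne']
    refine bcRank_residue_cyclic (Ideal.Quotient.mk _ 1) fun y => ?_
    obtain ⟨r, rfl⟩ := Ideal.Quotient.mk_surjective y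
    exact ⟨r, by rw [← Ideal.Quotient.mk_eq_mk, ← Submodule.Quotient.mk_smul, smul_eq_mul, mul_one]; rfl⟩

/-- d₂ of R -/
lemma torsionBy_self_subsingleton : Subsingleton (Submodule.torsionBy R R ϖ) := by
  refine ⟨fun x y => ?_⟩
  have hx := (Submodule.mem_torsionBy_iff _ _).mp x.2
  have hy := (Submodule.mem_torsionBy_iff _ _).mp y.2
  rw [smul_eq_mul] at hx hy
  ext
  rw [(mul_eq_zero.mp hx).resolve_left hϖ.ne_zero, (mul_eq_zero.mp hy).resolve_left hϖ.ne_zero]

/-- d₂ of R/ϖ^e -/
lemma d2_quot (e : ℕ) : bcRank R (IsLocalRing.ResidueField R)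
    (Submodule.torsionBy R (R ⧸ Ideal.span {ϖ ^ e}) ϖ) = if e = 0 then 0 else 1 := by
  rcases Nat.eq_zero_or_pos e with rfl | he
  · haveI := quot_subsingleton_zero hϖ
    simp [bcRank_subsingleton]
  · rw [if_neg he.ne']
    obtain ⟨e', rfl⟩ : ∃ e', e = e' + 1 := ⟨e - 1, by omega⟩
    have hgen : Ideal.Quotient.mk (Ideal.span {ϖ ^ (e' + 1)}) (ϖ ^ e') ∈
        Submodule.torsionBy R (R ⧸ Ideal.span {ϖ ^ (e' + 1)}) ϖ := by
      rw [Submodule.mem_torsionBy_iff, ← Ideal.Quotient.mk_eq_mk, ← Submodule.Quotient.mk_smul,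
        Ideal.Quotient.mk_eq_mk, Ideal.Quotient.eq_zero_iff_mem, smul_eq_mul, ← pow_succ']
      exact Ideal.subset_span rfl
    haveI : Nontrivial (Submodule.torsionBy R (R ⧸ Ideal.span {ϖ ^ (e' + 1)}) ϖ) := by
      refine ⟨⟨⟨_, hgen⟩, 0, fun h => ?_⟩⟩
      have h2 := congrArg Subtype.val h
      simp only [ZeroMemClass.coe_zero] at h2
      rw [Ideal.Quotient.eq_zero_iff_mem, Ideal.mem_span_singleton,
        pow_dvd_pow_iff hϖ.ne_zero hϖ.not_isUnit] at h2
      omega
    refine bcRank_residue_cyclic ⟨_, hgen⟩ fun y => ?_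
    obtain ⟨y, hy⟩ := y
    obtain ⟨x, rfl⟩ := Ideal.Quotient.mk_surjective y
    rw [Submodule.mem_torsionBy_iff, ← Ideal.Quotient.mk_eq_mk, ← Submodule.Quotient.mk_smul,
      Ideal.Quotient.mk_eq_mk, Ideal.Quotient.eq_zero_iff_mem, smul_eq_mul,
      Ideal.mem_span_singleton, pow_succ', mul_dvd_mul_iff_left hϖ.ne_zero] at hy
    obtain ⟨c, rfl⟩ := hy
    refine ⟨c, ?_⟩
    ext
    simp only [SetLike.val_smul]
    rw [← Ideal.Quotient.mk_eq_mk, ← Submodule.Quotient.mk_smul, smul_eq_mul, mul_comm]
    rfl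

/-- d₃ of a module killed by a power of ϖ -/
lemma d3_quot (e : ℕ) : bcRank R (FractionRing R) (R ⧸ Ideal.span {ϖ ^ e}) = 0 := by
  haveI : Subsingleton (FractionRing R ⊗[R] (R ⧸ Ideal.span {ϖ ^ e})) := by
    refine subsingleton_of_forall_eq 0 fun w => ?_
    induction w using TensorProduct.induction_on with
    | zero => rfl
    | tmul c y =>
      have hne : algebraMap R (FractionRing R) (ϖ ^ e) ≠ 0 := by
        rw [Ne, map_eq_zero_iff _ (IsFractionRing.injective R (FractionRing R))]
        exact pow_ne_zero e hϖ.ne_zero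
      have hy : (ϖ ^ e) • y = 0 := by
        obtain ⟨x, rfl⟩ := Ideal.Quotient.mk_surjective y
        rw [← Ideal.Quotient.mk_eq_mk, ← Submodule.Quotient.mk_smul, Ideal.Quotient.mk_eq_mk,
          Ideal.Quotient.eq_zero_iff_mem, smul_eq_mul]
        exact Ideal.mul_mem_right _ _ (Ideal.subset_span rfl)
      have : c = (ϖ ^ e) • (c / algebraMap R (FractionRing R) (ϖ ^ e)) := by
        rw [Algebra.smul_def, mul_div_cancel₀ _ hne]
      rw [this, TensorProduct.smul_tmul, hy, TensorProduct.tmul_zero]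
    | add a b ha hb => rw [ha, hb, add_zero]
  unfold bcRank
  exact Module.finrank_zero_of_subsingleton

end dvr

end

end Groth.Agent.H29.DVRMod
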