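import Groth.Agent.Lib.helper12.Comod
import Mathlib.RingTheory.Coalgebra.GroupLike
import Mathlib.Tactic

/-!
Weight decomposition of comodules over a coalgebra spanned by its group-like elements, over a field
(helper29; generalises helper12's `Diag.lean` from monoid algebras).
-/

set_option autoImplicit false
set_option linter.unusedSectionVars false
universe u v w

open TensorProduct

namespace Groth.Agent.Lib.helper29.DiagGen

open Groth.Agent.H12Comod

variable {k : Type u} [Field k] {A : Type v} [AddCommGroup A] [Module k A] [Coalgebra k A]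
variable {V : Type w} [AddCommGroup V] [Module k V] [HopfRep.Comod k A V]

/-- the basis of group-like elements -/
noncomputable def basis (hdiag : Submodule.span k {a : A | IsGroupLikeElem k a} = ⊤) :
    Module.Basis (GroupLike k A) k A :=
  Module.Basis.mk (linearIndep_groupLikeVal (R := k) (A := A)) (by
    rw [top_le_iff, ← hdiag]
    congr 1
    ext a
    constructor
    · rintro ⟨g, rfl⟩; exact g.2
    · intro ha; exact ⟨⟨a, ha⟩, rfl⟩)

variable (hdiag : Submodule.span k {a : A | IsGroupLikeElem k a} = ⊤)

lemma basis_apply (χ : GroupLike k A) : basis hdiag χ = χ.val := by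
  simp [basis]

/-- the coordinate functional at `χ` -/
noncomputable def coord (χ : GroupLike k A) : A →ₗ[k] k := (basis hdiag).coord χ

lemma coord_val [DecidableEq (GroupLike k A)] (χ ψ : GroupLike k A) :
    coord hdiag χ ψ.val = if ψ = χ then 1 else 0 := by
  rw [← basis_apply hdiag ψ, coord, Module.Basis.coord_apply, Module.Basis.repr_self,
    Finsupp.single_apply]

/-- the projection onto the weight space of `χ` -/
noncomputable def p (χ : GroupLike k A) : V →ₗ[k] V :=
  T V (coord hdiag χ) ∘ₗ HopfRep.Comod.coact (k := k) (A := A) (V := V)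

lemma S_coord (χ : GroupLike k A) :
    S (coord hdiag χ) = (LinearMap.toSpanSingleton k A χ.val) ∘ₗ coord hdiag χ := by
  classical
  apply (basis hdiag).ext
  intro ψ
  rw [basis_apply, S, LinearMap.comp_apply, ψ.2.comul_eq_tmul_self, T_tmul, LinearMap.comp_apply,
    LinearMap.toSpanSingleton_apply, coord_val]
  split_ifs with h
  · subst h; simp
  · simp

lemma lTensor_S_coord (χ : GroupLike k A) (t : V ⊗[k] A) :
    ((LinearMap.toSpanSingleton k A χ.val) ∘ₗ coord hdiag χ).lTensor V t =
      T V (coord hdiag χ) t ⊗ₜ[k] χ.val := by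
  induction t using TensorProduct.induction_on with
  | zero => simp
  | tmul x c =>
    simp only [LinearMap.lTensor_tmul, LinearMap.comp_apply, LinearMap.toSpanSingleton_apply, T_tmul]
    rw [TensorProduct.smul_tmul]
  | add x y hx hy => simp only [map_add, TensorProduct.add_tmul, hx, hy]

theorem coact_p (χ : GroupLike k A) (v : V) :
    HopfRep.Comod.coact (k := k) (A := A) (p hdiag χ v) = p hdiag χ v ⊗ₜ[k] χ.val := by
  rw [p, LinearMap.comp_apply, coact_T_coact, S_coord, lTensor_S_coord]

theorem p_p [DecidableEq (GroupLike k A)] (χ ψ : GroupLike k A) (v : V) :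
    p hdiag χ (p hdiag ψ v) = if ψ = χ then p hdiag ψ v else 0 := by
  rw [p, LinearMap.comp_apply, coact_p, T_tmul, coord_val]
  split_ifs <;> simp

open Classical in
/-- the basis expansion of the coaction -/
noncomputable def ex (v : V) : GroupLike k A →₀ V :=
  TensorProduct.equivFinsuppOfBasisRight (M := V) (basis hdiag)
    (HopfRep.Comod.coact (k := k) (A := A) v)

lemma ex_apply (v : V) (χ : GroupLike k A) : ex hdiag v χ = p hdiag χ v := by
  classical
  rw [ex, TensorProduct.equivFinsuppOfBasisRight_apply]
  rfl

lemma coact_eq_sum (v : V) :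
    HopfRep.Comod.coact (k := k) (A := A) v =
      ∑ χ ∈ (ex hdiag v).support, p hdiag χ v ⊗ₜ[k] χ.val := by
  classical
  have h := (TensorProduct.equivFinsuppOfBasisRight (M := V) (basis hdiag)).symm_apply_apply
    (HopfRep.Comod.coact (k := k) (A := A) v)
  rw [TensorProduct.equivFinsuppOfBasisRight_symm_apply] at h
  rw [← h, Finsupp.sum]
  refine Finset.sum_congr rfl fun χ _ => ?_
  rw [basis_apply]
  congr 1
  exact ex_apply hdiag v χ

lemma p_eq_zero_of_notMem (v : V) (χ : GroupLike k A) (h : χ ∉ (ex hdiag v).support) :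
    p hdiag χ v = 0 := by
  rw [← ex_apply]
  exact Finsupp.notMem_support_iff.mp h

/-- the coaction as a sum over any finite set containing the support -/
lemma coact_eq_sum_of_subset (v : V) (s : Finset (GroupLike k A))
    (hs : (ex hdiag v).support ⊆ s) :
    HopfRep.Comod.coact (k := k) (A := A) v = ∑ χ ∈ s, p hdiag χ v ⊗ₜ[k] χ.val := by
  rw [coact_eq_sum hdiag]
  apply Finset.sum_subset hs
  intro χ _ hχ
  rw [p_eq_zero_of_notMem hdiag v χ hχ, TensorProduct.zero_tmul]

theorem sum_p (v : V) : v = ∑ χ ∈ (ex hdiag v).support, p hdiag χ v := by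
  have hcu := LinearMap.congr_fun
    (HopfRep.Comod.counit_comp (k := k) (A := A) (V := V)) v
  simp only [LinearMap.comp_apply, LinearMap.flip_apply, TensorProduct.mk_apply] at hcu
  have hv : v = T V (CoalgebraStruct.counit (R := k) (A := A))
      (HopfRep.Comod.coact (k := k) (A := A) v) := by
    simp only [T, LinearMap.comp_apply, LinearEquiv.coe_coe]
    rw [hcu]; simp
  conv_lhs => rw [hv, coact_eq_sum hdiag, map_sum]
  refine Finset.sum_congr rfl fun χ _ => ?_
  rw [T_tmul, χ.2.counit_eq_one, one_smul]

theorem sum_p_of_subset (v : V) (s : Finset (GroupLike k A))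
    (hs : (ex hdiag v).support ⊆ s) : v = ∑ χ ∈ s, p hdiag χ v := by
  conv_lhs => rw [sum_p hdiag v]
  apply Finset.sum_subset hs
  intro χ _ hχ
  exact p_eq_zero_of_notMem hdiag v χ hχ

end Groth.Agent.Lib.helper29.DiagGen
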