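import Mathlib

/-!
# Strict drop of topological Krull dimension on proper closed subsets of an irreducible set (helper29)
-/

set_option autoImplicit false
universe u

namespace Groth.Agent.H29.DimStrict

section aux
variable {T : Type u} [TopologicalSpace T]

lemma dim_lt_of_ssubset {Z C : Set T} (hZ : IsClosed Z) (hZC : Z ⊆ C) (hne : Z ≠ C)
    (hC : IsIrreducible C) (hfin : topologicalKrullDim ↥C < ⊤) :
    topologicalKrullDim ↥Z < topologicalKrullDim ↥C := by
  unfold topologicalKrullDim at *
  haveI : IrreducibleSpace ↥C := Subtype.irreducibleSpace hC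
  let top : TopologicalSpace.IrreducibleCloseds ↥C :=
    ⟨Set.univ, IrreducibleSpace.isIrreducible_univ _, isClosed_univ⟩
  have hf := Topology.IsEmbedding.inclusion hZC
  let f := TopologicalSpace.IrreducibleCloseds.map (Set.inclusion hZC) hf.continuous
  have hfs : StrictMono f :=
    TopologicalSpace.IrreducibleCloseds.map_strictMono_of_isInducing hf.isInducing
  have hrange : IsClosed (Set.range (Set.inclusion hZC)) := by
    rw [Set.range_inclusion]
    exact hZ.preimage continuous_subtype_val
  obtain ⟨c, hcC, hcZ⟩ : ∃ c ∈ C, c ∉ Z := by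
    by_contra hcon
    push_neg at hcon
    exact hne (Set.Subset.antisymm hZC hcon)
  have hlt : ∀ x, f x < top := by
    intro x
    refine lt_of_le_of_ne (fun y _ => Set.mem_univ y) ?_
    intro h
    have h1 : (f x : Set ↥C) ⊆ Set.range (Set.inclusion hZC) :=
      closure_minimal (Set.image_subset_range _ _) hrange
    have h2 : (⟨c, hcC⟩ : ↥C) ∈ (f x : Set ↥C) := by
      rw [h]; exact Set.mem_univ _
    obtain ⟨z, hz⟩ := h1 h2
    apply hcZ
    have := congrArg Subtype.val hz
    simp only [Set.coe_inclusion] at this
    rw [← this]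
    exact z.2
  -- extract the dimension of C as a natural number
  have hne_bot : Order.krullDim (TopologicalSpace.IrreducibleCloseds ↥C) ≠ ⊥ := by
    rw [Order.krullDim_ne_bot_iff]
    exact ⟨top⟩
  obtain ⟨m, hm⟩ := WithBot.ne_bot_iff_exists.mp hne_bot
  have hm_top : m ≠ ⊤ := by
    rintro rfl
    rw [← hm] at hfin
    exact lt_irrefl _ hfin
  obtain ⟨n, rfl⟩ := ENat.ne_top_iff_exists.mp hm_top
  rw [← hm]
  show Order.krullDim _ < ((n : ℕ) : WithBot ℕ∞)
  rw [Order.krullDim_lt_coe_iff]
  intro l
  have h1 : (l.length : ℕ∞) ≤ Order.height l.last := Order.length_le_height_last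
  have h2 : Order.height l.last ≤ Order.height (f l.last) :=
    Order.height_le_height_apply_of_strictMono f hfs _
  have h3 : Order.height (f l.last) + 1 ≤ Order.height top := Order.height_add_one_le (hlt _)
  have h4 : (Order.height top : WithBot ℕ∞) ≤ Order.krullDim _ := Order.height_le_krullDim top
  rw [← hm] at h4
  have h5 : Order.height top ≤ (n : ℕ∞) := by exact_mod_cast h4
  have h6 : (l.length : ℕ∞) + 1 ≤ n := (add_le_add_left (h1.trans h2) 1).trans (h3.trans h5)
  have h7 : l.length + 1 ≤ n := by exact_mod_cast h6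
  omega

end aux


end Groth.Agent.H29.DimStrict
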