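import Mathlib
import Groth.Prelude.Def_W4c6puncthilbintroLift
import Groth.Agent.Lib.helper24.NilFlat

/-!
# First-order liftings of an ideal (helper29)

Flatness transfer along a surjective ring hom, and the analysis of ideals `J` of `R[ε]` with
`R[ε]/J` flat over `A[ε]`.
-/

set_option autoImplicit false
universe u

namespace Groth.Agent.H29.DualLift

open TrivSqZeroExt DualNumber W4c6puncthilbintro TensorProduct

theorem flat_transfer {A₀ A' : Type*} [CommRing A₀] [CommRing A'] (σ : A₀ →+* A')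
    (hσ : Function.Surjective σ)
    {X Y : Type*} [AddCommGroup X] [Module A' X] [AddCommGroup Y] [Module A₀ Y] [Module.Flat A₀ Y]
    (e : X ≃+ Y) (he : ∀ a x, e (σ a • x) = a • e x) : Module.Flat A' X := by
  apply Module.Flat.of_forall_isTrivialRelation
  intro l f x h
  choose g hg using fun i => hσ (f i)
  have h0 : ∑ i, g i • e (x i) = 0 := by
    have := congrArg e h
    rw [map_sum, map_zero] at this
    rw [← this]
    refine Finset.sum_congr rfl fun i _ => ?_
    rw [← hg i, he]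
  obtain ⟨k, a, y, h1, h2⟩ := Module.Flat.isTrivialRelation_of_sum_smul_eq_zero h0
  refine ⟨k, fun i j => σ (a i j), fun j => e.symm (y j), ?_, ?_⟩
  · intro i
    apply e.injective
    have h1i : e (x i) = ∑ j, a i j • y j := h1 i
    rw [h1i, map_sum]
    refine Finset.sum_congr rfl fun j _ => ?_
    rw [he, e.apply_symm_apply]
  · intro j
    have := congrArg σ (h2 j)
    rw [map_sum, map_zero] at this
    rw [← this]
    refine Finset.sum_congr rfl fun i _ => ?_
    rw [map_mul, hg]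

section

variable {A : Type u} [CommRing A] {R : Type u} [CommRing R] [Algebra A R]

attribute [local instance] W4c6puncthilbintro.dualAlgebra

lemma fst_dualMap (b : DualNumber A) : (dualMap A R b).fst = algebraMap A R b.fst := by
  unfold dualMap
  rw [DualNumber.lift_apply_apply]
  simp [TrivSqZeroExt.algebraMap_eq_inl']

lemma snd_dualMap (b : DualNumber A) : (dualMap A R b).snd = algebraMap A R b.snd := by
  unfold dualMap
  rw [DualNumber.lift_apply_apply]
  simp [TrivSqZeroExt.algebraMap_eq_inl', DualNumber.snd_mul]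

lemma smul_def' (b : DualNumber A) (x : DualNumber R) : b • x = dualMap A R b * x := by
  rw [Algebra.smul_def]; rfl

lemma fst_smul' (b : DualNumber A) (x : DualNumber R) :
    (b • x).fst = algebraMap A R b.fst * x.fst := by
  rw [smul_def', TrivSqZeroExt.fst_mul, fst_dualMap]

lemma eps_smul (x : DualNumber R) : (ε : DualNumber A) • x = inr x.fst := by
  rw [smul_def', dualMap_eps]
  ext <;> simp [DualNumber.snd_mul]

lemma eq_inl_add_inr (x : DualNumber R) : x = inl x.fst + inr x.snd := by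
  ext <;> simp

lemma mem_liftIdeal_iff (I : Ideal R) (φ : I →ₗ[R] R ⧸ I) (x : DualNumber R) :
    x ∈ liftIdeal I φ ↔ ∃ h : x.fst ∈ I, Ideal.Quotient.mk I x.snd = φ ⟨x.fst, h⟩ := Iff.rfl

lemma inr_mem_liftIdeal (I : Ideal R) (φ : I →ₗ[R] R ⧸ I) (c : R) :
    (inr c : DualNumber R) ∈ liftIdeal I φ ↔ c ∈ I := by
  rw [mem_liftIdeal_iff]
  constructor
  · rintro ⟨h, hc⟩
    have h0 : (⟨(inr c : DualNumber R).fst, h⟩ : I) = 0 := by ext; simp
    rw [h0, map_zero, snd_inr] at hc
    exact Ideal.Quotient.eq_zero_iff_mem.mp hc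
  · intro hc
    have h : (inr c : DualNumber R).fst ∈ I := by simp
    refine ⟨h, ?_⟩
    have h0 : (⟨(inr c : DualNumber R).fst, h⟩ : I) = 0 := by ext; simp
    rw [h0, map_zero, snd_inr]
    exact Ideal.Quotient.eq_zero_iff_mem.mpr hc

lemma exists_mem_liftIdeal (I : Ideal R) (φ : I →ₗ[R] R ⧸ I) (a : R) (ha : a ∈ I) :
    ∃ b : R, (inl a + inr b : DualNumber R) ∈ liftIdeal I φ := by
  obtain ⟨b, hb⟩ := Ideal.Quotient.mk_surjective (φ ⟨a, ha⟩)
  refine ⟨b, ?_⟩
  rw [mem_liftIdeal_iff]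
  have h : (inl a + inr b : DualNumber R).fst ∈ I := by simpa using ha
  refine ⟨h, ?_⟩
  have h0 : (⟨(inl a + inr b : DualNumber R).fst, h⟩ : I) = ⟨a, ha⟩ := by ext; simp
  rw [h0, ← hb]
  simp

/-- reduction of `liftIdeal` -/
theorem map_liftIdeal (I : Ideal R) (φ : I →ₗ[R] R ⧸ I) :
    Ideal.map (TrivSqZeroExt.fstHom A R R) (liftIdeal I φ) = I := by
  have hsurj : Function.Surjective (TrivSqZeroExt.fstHom A R R) := fun r => ⟨inl r, by simp⟩
  ext a
  rw [Ideal.mem_map_iff_of_surjective _ hsurj]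
  constructor
  · rintro ⟨x, ⟨hx, -⟩, rfl⟩
    exact hx
  · intro ha
    obtain ⟨b, hb⟩ := exists_mem_liftIdeal I φ a ha
    exact ⟨_, hb, by simp⟩

theorem liftIdeal_injective (I : Ideal R) : Function.Injective (liftIdeal I) := by
  intro φ ψ h
  ext ⟨a, ha⟩
  obtain ⟨b, hb⟩ := exists_mem_liftIdeal I φ a ha
  have hb' : (inl a + inr b : DualNumber R) ∈ liftIdeal I ψ := h ▸ hb
  obtain ⟨h1, h2⟩ := (mem_liftIdeal_iff I φ _).mp hb
  obtain ⟨h1', h2'⟩ := (mem_liftIdeal_iff I ψ _).mp hb'
  have h0 : (⟨(inl a + inr b : DualNumber R).fst, h1⟩ : I) = ⟨a, ha⟩ := by ext; simp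
  rw [h0] at h2 h2'
  rw [← h2, ← h2']

/-- flatness forces `(0, b) ∈ J → b ∈ fst J` -/
theorem fst_mem_of_inr_mem (J : Ideal (DualNumber R))
    (hflat : Module.Flat (DualNumber A) (DualNumber R ⧸ J)) (b : R)
    (hb : (inr b : DualNumber R) ∈ J) : ∃ c : R, (inl b + inr c : DualNumber R) ∈ J := by
  let m : DualNumber R ⧸ J := Ideal.Quotient.mk J (inl b)
  have hm : (ε : DualNumber A) • m = 0 := by
    show (ε : DualNumber A) • (Ideal.Quotient.mk J (inl b)) = 0
    have : (ε : DualNumber A) • (Ideal.Quotient.mk J (inl b)) =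
        Ideal.Quotient.mk J ((ε : DualNumber A) • (inl b : DualNumber R)) := rfl
    rw [this, eps_smul, fst_inl]
    exact Ideal.Quotient.eq_zero_iff_mem.mpr hb
  obtain ⟨k, c, y, h1, h2⟩ := Module.Flat.isTrivialRelation_of_sum_smul_eq_zero
    (R := DualNumber A) (M := DualNumber R ⧸ J) (f := fun _ : Fin 1 => (ε : DualNumber A))
    (x := fun _ => m) (by simpa using hm)
  have h1' : m = ∑ j, c 0 j • y j := h1 0
  have hc : ∀ j, (c 0 j).fst = 0 := by
    intro j
    have := h2 j
    simp only [Finset.univ_unique, Finset.sum_singleton] at this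
    have h3 := congrArg TrivSqZeroExt.snd this
    rw [DualNumber.snd_mul] at h3
    simpa using h3
  choose z hz using fun j => Ideal.Quotient.mk_surjective (y j)
  let w : DualNumber R := ∑ j, c 0 j • z j
  have hw : Ideal.Quotient.mk J w = m := by
    rw [h1', map_sum]
    refine Finset.sum_congr rfl fun j _ => ?_
    rw [← hz j]
    rfl
  have hwf : w.fst = 0 := by
    show (∑ j, c 0 j • z j).fst = 0
    have : ∀ (s : Finset (Fin k)), (∑ j ∈ s, c 0 j • z j).fst = 0 := by
      intro s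
      classical
      induction s using Finset.induction_on with
      | empty => simp
      | insert a s ha ih =>
        rw [Finset.sum_insert ha, TrivSqZeroExt.fst_add, ih, fst_smul', hc]
        simp
    exact this _
  have hmem : (inl b - w : DualNumber R) ∈ J := by
    rw [← Ideal.Quotient.eq_zero_iff_mem, map_sub, hw]
    exact sub_self _
  refine ⟨-w.snd, ?_⟩
  have : (inl b + inr (-w.snd) : DualNumber R) = inl b - w := by
    ext
    · simp [hwf]
    · simp
  rw [this]
  exact hmem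

theorem exists_eq_liftIdeal_aux (I : Ideal R) (J : Ideal (DualNumber R))
    (hinr' : ∀ b : R, (inr b : DualNumber R) ∈ J → ∃ c : R, (inl b + inr c : DualNumber R) ∈ J)
    (hJ : Ideal.map (TrivSqZeroExt.fstHom A R R) J = I) :
    ∃ φ : I →ₗ[R] R ⧸ I, J = liftIdeal I φ := by
  have hsurj : Function.Surjective (TrivSqZeroExt.fstHom A R R) := fun r => ⟨inl r, by simp⟩
  have hfst : ∀ x ∈ J, x.fst ∈ I := by
    intro x hx
    rw [← hJ]
    exact Ideal.mem_map_of_mem (TrivSqZeroExt.fstHom A R R) hx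
  have hex : ∀ a ∈ I, ∃ b : R, (inl a + inr b : DualNumber R) ∈ J := by
    intro a ha
    rw [← hJ, Ideal.mem_map_iff_of_surjective _ hsurj] at ha
    obtain ⟨x, hx, rfl⟩ := ha
    refine ⟨x.snd, ?_⟩
    have : (inl ((TrivSqZeroExt.fstHom A R R) x) + inr x.snd : DualNumber R) = x := by
      ext <;> simp
    rw [this]
    exact hx
  have hinrI : ∀ c ∈ I, (inr c : DualNumber R) ∈ J := by
    intro c hc
    obtain ⟨c', hc'⟩ := hex c hc
    have := J.mul_mem_left (ε : DualNumber R) hc'
    have h2 : (ε : DualNumber R) * (inl c + inr c') = inr c := by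
      ext <;> simp [DualNumber.snd_mul]
    rwa [h2] at this
  have hinr : ∀ b, (inr b : DualNumber R) ∈ J → b ∈ I := by
    intro b hb
    obtain ⟨c, hc⟩ := hinr' b hb
    simpa using hfst _ hc
  have huniq : ∀ a b b', (inl a + inr b : DualNumber R) ∈ J → (inl a + inr b' : DualNumber R) ∈ J →
      Ideal.Quotient.mk I b = Ideal.Quotient.mk I b' := by
    intro a b b' h1 h2
    rw [Ideal.Quotient.eq]
    apply hinr
    have := J.sub_mem h1 h2
    have h3 : (inl a + inr b - (inl a + inr b') : DualNumber R) = inr (b - b') := by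
      ext <;> simp
    rwa [h3] at this
  choose β hβ using hex
  let φ : I →ₗ[R] R ⧸ I :=
    { toFun := fun a => Ideal.Quotient.mk I (β a.1 a.2)
      map_add' := by
        intro a a'
        have h1 := J.add_mem (hβ a.1 a.2) (hβ a'.1 a'.2)
        have h2 : (inl a.1 + inr (β a.1 a.2) + (inl a'.1 + inr (β a'.1 a'.2)) : DualNumber R) =
            inl (a + a' : I).1 + inr (β a.1 a.2 + β a'.1 a'.2) := by
          ext <;> simp
        rw [h2] at h1
        rw [huniq _ _ _ (hβ (a + a' : I).1 (a + a' : I).2) h1, map_add]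
      map_smul' := by
        intro r a
        have h1 := J.mul_mem_left (inl r : DualNumber R) (hβ a.1 a.2)
        have h2 : ((inl r : DualNumber R) * (inl a.1 + inr (β a.1 a.2)) : DualNumber R) =
            inl (r • a : I).1 + inr (r * β a.1 a.2) := by
          ext <;> simp [DualNumber.snd_mul]
        rw [h2] at h1
        rw [huniq _ _ _ (hβ (r • a : I).1 (r • a : I).2) h1, map_mul]
        rfl }
  refine ⟨φ, ?_⟩
  ext x
  rw [mem_liftIdeal_iff]
  constructor
  · intro hx
    refine ⟨hfst x hx, ?_⟩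
    show Ideal.Quotient.mk I x.snd = Ideal.Quotient.mk I (β x.fst (hfst x hx))
    refine huniq x.fst _ _ ?_ (hβ _ _)
    rw [← eq_inl_add_inr]
    exact hx
  · rintro ⟨h, hx⟩
    have hx' : Ideal.Quotient.mk I x.snd = Ideal.Quotient.mk I (β x.fst h) := hx
    rw [Ideal.Quotient.eq] at hx'
    have h1 := J.add_mem (hβ x.fst h) (hinrI _ hx')
    have h2 : (inl x.fst + inr (β x.fst h) + inr (x.snd - β x.fst h) : DualNumber R) = x := by
      ext <;> simp
    rwa [h2] at h1

theorem exists_eq_liftIdeal (I : Ideal R) (J : Ideal (DualNumber R))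
    (hflat : Module.Flat (DualNumber A) (DualNumber R ⧸ J))
    (hJ : Ideal.map (TrivSqZeroExt.fstHom A R R) J = I) :
    ∃ φ : I →ₗ[R] R ⧸ I, J = liftIdeal I φ :=
  exists_eq_liftIdeal_aux I J (fun b hb => fst_mem_of_inr_mem J hflat b hb) hJ

lemma mk_eq_eps_smul (I : Ideal R) (φ : I →ₗ[R] R ⧸ I) (x : DualNumber R) (hx : x.fst ∈ I) :
    ∃ m' : DualNumber R ⧸ liftIdeal I φ,
      (Ideal.Quotient.mk (liftIdeal I φ) x) = (ε : DualNumber A) • m' := by
  obtain ⟨b, hb⟩ := exists_mem_liftIdeal I φ x.fst hx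
  refine ⟨Ideal.Quotient.mk _ (inl (x.snd - b)), ?_⟩
  have : (ε : DualNumber A) • (Ideal.Quotient.mk (liftIdeal I φ) (inl (x.snd - b))) =
      Ideal.Quotient.mk (liftIdeal I φ) ((ε : DualNumber A) • (inl (x.snd - b) : DualNumber R)) := rfl
  rw [this, eps_smul, fst_inl, Ideal.Quotient.eq]
  have h2 : x - inr (x.snd - b) = inl x.fst + inr b := by ext <;> simp
  rw [h2]; exact hb

lemma fst_mem_of_eps_smul (I : Ideal R) (φ : I →ₗ[R] R ⧸ I) (x : DualNumber R)
    (hx : (ε : DualNumber A) • (Ideal.Quotient.mk (liftIdeal I φ) x) = 0) : x.fst ∈ I := by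
  have : (ε : DualNumber A) • (Ideal.Quotient.mk (liftIdeal I φ) x) =
      Ideal.Quotient.mk (liftIdeal I φ) ((ε : DualNumber A) • x) := rfl
  rw [this, eps_smul, Ideal.Quotient.eq_zero_iff_mem] at hx
  exact (inr_mem_liftIdeal I φ _).mp hx

/-- a copy of `R ⧸ I` carrying the `A[ε]`-module structure through `ε ↦ 0` -/
def Red (A : Type u) [CommRing A] {R : Type u} [CommRing R] [Algebra A R] (I : Ideal R) : Type u :=
  R ⧸ I

noncomputable instance (I : Ideal R) : CommRing (Red A I) := inferInstanceAs (CommRing (R ⧸ I))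
noncomputable instance (I : Ideal R) : Algebra A (Red A I) := inferInstanceAs (Algebra A (R ⧸ I))
instance (I : Ideal R) [h : Module.Flat A (R ⧸ I)] : Module.Flat A (Red A I) := h

/-- the quotient map into the copy -/
noncomputable def rmk (I : Ideal R) : R →+* Red A I := Ideal.Quotient.mk I

lemma rmk_surjective (I : Ideal R) : Function.Surjective (rmk (A := A) I) :=
  Ideal.Quotient.mk_surjective

lemma rmk_eq_zero_iff (I : Ideal R) (r : R) : rmk (A := A) I r = 0 ↔ r ∈ I :=
  Ideal.Quotient.eq_zero_iff_mem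

lemma rmk_algebraMap (I : Ideal R) (a : A) :
    rmk (A := A) I (algebraMap A R a) = algebraMap A (Red A I) a := rfl

noncomputable instance modB (I : Ideal R) : Module (DualNumber A) (Red A I) :=
  Module.compHom (Red A I) ((algebraMap A (Red A I)).comp (TrivSqZeroExt.fstHom A A A).toRingHom)

lemma modB_smul (I : Ideal R) (b : DualNumber A) (y : Red A I) :
    b • y = algebraMap A (Red A I) b.fst * y := rfl

/-- the reduction map `R[ε]/J_φ → R/I` as an `A[ε]`-linear map -/
noncomputable def gmap (I : Ideal R) (φ : I →ₗ[R] R ⧸ I) :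
    (DualNumber R ⧸ liftIdeal I φ) →ₗ[DualNumber A] Red A I :=
  { toFun := Ideal.Quotient.lift (liftIdeal I φ)
      ((rmk (A := A) I).comp (TrivSqZeroExt.fstHom A R R).toRingHom) (fun x hx => by
        obtain ⟨h, -⟩ := hx
        exact (rmk_eq_zero_iff I _).mpr h)
    map_add' := map_add _
    map_smul' := by
      intro b m
      obtain ⟨x, rfl⟩ := Ideal.Quotient.mk_surjective m
      show rmk (A := A) I (b • x).fst = b • rmk (A := A) I x.fst
      rw [modB_smul, fst_smul', map_mul, rmk_algebraMap] }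

lemma gmap_mk (I : Ideal R) (φ : I →ₗ[R] R ⧸ I) (x : DualNumber R) :
    gmap (A := A) I φ (Ideal.Quotient.mk _ x) = rmk (A := A) I x.fst := rfl

lemma gmap_surjective (I : Ideal R) (φ : I →ₗ[R] R ⧸ I) :
    Function.Surjective (gmap (A := A) I φ) := by
  intro y
  obtain ⟨r, rfl⟩ := rmk_surjective I y
  exact ⟨Ideal.Quotient.mk _ (inl r), by rw [gmap_mk, fst_inl]⟩

lemma ker_gmap (I : Ideal R) (φ : I →ₗ[R] R ⧸ I) :
    ((Ideal.span {(ε : DualNumber A)}) • ⊤ : Submodule (DualNumber A) (DualNumber R ⧸ liftIdeal I φ)) =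
      LinearMap.ker (gmap (A := A) I φ) := by
  apply le_antisymm
  · rw [Submodule.smul_le]
    intro r hr m _
    rw [LinearMap.mem_ker, map_smul, modB_smul]
    obtain ⟨c, rfl⟩ := Ideal.mem_span_singleton'.mp hr
    rw [TrivSqZeroExt.fst_mul, DualNumber.fst_eps, mul_zero, map_zero, zero_mul]
  · intro m hm
    obtain ⟨x, rfl⟩ := Ideal.Quotient.mk_surjective m
    rw [LinearMap.mem_ker, gmap_mk, rmk_eq_zero_iff] at hm
    obtain ⟨m', hm'⟩ := mk_eq_eps_smul (A := A) I φ x hm
    rw [hm']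
    exact Submodule.smul_mem_smul (Ideal.subset_span rfl) Submodule.mem_top

lemma sigma_surjective :
    Function.Surjective ((Ideal.Quotient.mk (Ideal.span {(ε : DualNumber A)})).comp
      (algebraMap A (DualNumber A))) := by
  intro b'
  obtain ⟨b, rfl⟩ := Ideal.Quotient.mk_surjective b'
  refine ⟨b.fst, ?_⟩
  show Ideal.Quotient.mk _ (algebraMap A (DualNumber A) b.fst) = Ideal.Quotient.mk _ b
  rw [Ideal.Quotient.eq, Ideal.mem_span_singleton']
  refine ⟨inl (-b.snd), ?_⟩
  ext <;> simp [TrivSqZeroExt.algebraMap_eq_inl, DualNumber.snd_mul]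

/-- the reduction `(A[ε]/ε) ⊗ R[ε]/J_φ ≃ R/I` -/
noncomputable def eRed (I : Ideal R) (φ : I →ₗ[R] R ⧸ I) :
    ((DualNumber A ⧸ Ideal.span {(ε : DualNumber A)}) ⊗[DualNumber A]
      (DualNumber R ⧸ liftIdeal I φ)) ≃ₗ[DualNumber A] Red A I :=
  (TensorProduct.quotTensorEquivQuotSMul (DualNumber R ⧸ liftIdeal I φ)
      (Ideal.span {(ε : DualNumber A)})) ≪≫ₗ
    (Submodule.quotEquivOfEq _ _ (ker_gmap (A := A) I φ)) ≪≫ₗ
      ((gmap (A := A) I φ).quotKerEquivOfSurjective (gmap_surjective I φ))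

theorem flat_reduction (I : Ideal R) [Module.Flat A (R ⧸ I)] (φ : I →ₗ[R] R ⧸ I) :
    Module.Flat (DualNumber A ⧸ Ideal.span {(ε : DualNumber A)})
      ((DualNumber A ⧸ Ideal.span {(ε : DualNumber A)}) ⊗[DualNumber A]
        (DualNumber R ⧸ liftIdeal I φ)) := by
  let σ : A →+* (DualNumber A ⧸ Ideal.span {(ε : DualNumber A)}) :=
    (Ideal.Quotient.mk (Ideal.span {(ε : DualNumber A)})).comp (algebraMap A (DualNumber A))
  have hσ : Function.Surjective σ := sigma_surjective (A := A)
  refine flat_transfer (A₀ := A) (A' := DualNumber A ⧸ Ideal.span {(ε : DualNumber A)})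
    (X := (DualNumber A ⧸ Ideal.span {(ε : DualNumber A)}) ⊗[DualNumber A]
        (DualNumber R ⧸ liftIdeal I φ)) (Y := Red A I) σ hσ (eRed (A := A) I φ).toAddEquiv ?_
  intro a x
  show eRed (A := A) I φ ((Ideal.Quotient.mk _ (algebraMap A (DualNumber A) a)) • x) =
    a • eRed (A := A) I φ x
  have h1 : (Ideal.Quotient.mk (Ideal.span {(ε : DualNumber A)}) (algebraMap A (DualNumber A) a)) • x =
      (algebraMap A (DualNumber A) a) • x := by
    rw [← Ideal.Quotient.algebraMap_eq, algebraMap_smul]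
  rw [h1, map_smul, modB_smul, TrivSqZeroExt.algebraMap_eq_inl, fst_inl, Algebra.smul_def]

theorem rTensor_injective (I : Ideal R) (φ : I →ₗ[R] R ⧸ I) :
    Function.Injective ((Ideal.span {(ε : DualNumber A)}).subtype.rTensor
      (DualNumber R ⧸ liftIdeal I φ)) := by
  have hεmem : (ε : DualNumber A) ∈ Ideal.span {(ε : DualNumber A)} := Ideal.subset_span rfl
  rw [injective_iff_map_eq_zero]
  intro z hz
  have hrep : ∀ z : ↥(Ideal.span {(ε : DualNumber A)}) ⊗[DualNumber A] (DualNumber R ⧸ liftIdeal I φ),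
      ∃ m : DualNumber R ⧸ liftIdeal I φ,
        z = (⟨ε, hεmem⟩ : ↥(Ideal.span {(ε : DualNumber A)})) ⊗ₜ[DualNumber A] m := by
    intro z
    induction z using TensorProduct.induction_on with
    | zero => exact ⟨0, by simp⟩
    | tmul a b =>
      obtain ⟨a, ha⟩ := a
      obtain ⟨c, rfl⟩ := Ideal.mem_span_singleton'.mp ha
      refine ⟨c • b, ?_⟩
      have h1 : (⟨c * ε, ha⟩ : ↥(Ideal.span {(ε : DualNumber A)})) = c • ⟨ε, hεmem⟩ := rfl
      rw [h1]
      exact TensorProduct.smul_tmul c (⟨ε, hεmem⟩ : ↥(Ideal.span {(ε : DualNumber A)})) b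
    | add x y hx hy =>
      obtain ⟨b1, rfl⟩ := hx
      obtain ⟨b2, rfl⟩ := hy
      exact ⟨b1 + b2, by rw [TensorProduct.tmul_add]⟩
  obtain ⟨m, rfl⟩ := hrep z
  rw [LinearMap.rTensor_tmul] at hz
  have hz' : (ε : DualNumber A) • m = 0 := by
    have := congrArg (TensorProduct.lid (DualNumber A) (DualNumber R ⧸ liftIdeal I φ)) hz
    simpa using this
  obtain ⟨x, rfl⟩ := Ideal.Quotient.mk_surjective m
  obtain ⟨m', hm'⟩ := mk_eq_eps_smul (A := A) I φ x (fst_mem_of_eps_smul I φ x hz')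
  rw [hm']
  have h0 : (ε : DualNumber A) • (⟨ε, hεmem⟩ : ↥(Ideal.span {(ε : DualNumber A)})) = 0 := by
    ext
    · simp
    · show ((ε : DualNumber A) * ε).snd = 0
      rw [DualNumber.eps_mul_eps]; rfl
  have h1 := TensorProduct.smul_tmul (R := DualNumber A) (ε : DualNumber A)
    (⟨ε, hεmem⟩ : ↥(Ideal.span {(ε : DualNumber A)})) m'
  rw [h0, TensorProduct.zero_tmul] at h1
  exact h1.symm

theorem flat_liftIdeal (I : Ideal R) [Module.Flat A (R ⧸ I)] (φ : I →ₗ[R] R ⧸ I) :
    Module.Flat (DualNumber A) (DualNumber R ⧸ liftIdeal I φ) := by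
  have hnil : IsNilpotent (Ideal.span {(ε : DualNumber A)}) := by
    refine ⟨2, ?_⟩
    rw [Ideal.span_singleton_pow, DualNumber.eps_pow_two]
    simp
  haveI := flat_reduction (A := A) I φ
  exact Groth.Agent.Lib.helper24.NilFlat.flat_of_isNilpotent _ _ hnil (rTensor_injective I φ)

end

end Groth.Agent.H29.DualLift
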