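import Groth.Agent.Lib.helper29.Reynolds
import Groth.Agent.S16985
import Groth.Agent.S7992
import Groth.Agent.S7945

/-!
Exactness of invariants implies vanishing of `H^1` (helper29), following helper12's recipe through
the induced comodule.
-/

set_option autoImplicit false
set_option linter.unusedSectionVars false
set_option linter.unusedVariables false
universe u v

open TensorProduct

namespace Groth.Agent.Lib.helper29.ExactInv

open Groth.Agent.Lib.helper28.ComodMod

variable {k : Type u} [Field k] {A : Type v} [CommRing A] [HopfAlgebra k A]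

section Natural

variable {V W : Type v} [AddCommGroup V] [Module k V] [HopfRep.Comod k A V]
  [AddCommGroup W] [Module k W] [HopfRep.Comod k A W]

lemma d0_apply' (v : V) : (Hoch.d k A V 0 v : V ⊗[k] A) =
    HopfRep.Comod.coact (k := k) (A := A) v - v ⊗ₜ[k] (1 : A) := rfl

lemma d0_natural (φ : V →ₗ[k] W) (hφ : Hoch.IsComodHom A φ) (v : V) :
    (Hoch.d k A W 0 (φ v) : W ⊗[k] A) = φ.rTensor A (Hoch.d k A V 0 v : V ⊗[k] A) := by
  rw [d0_apply', d0_apply', map_sub, LinearMap.rTensor_tmul]
  have := LinearMap.congr_fun hφ v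
  simp only [LinearMap.comp_apply] at this
  rw [this]

lemma d0_eq_zero_iff (v : V) : (Hoch.d k A V 0 v : V ⊗[k] A) = 0 ↔ v ∈ HopfRep.fixedPts k A V := by
  rw [d0_apply', sub_eq_zero]
  rfl

end Natural

/-- exactness of invariants in the form of S16717 -/
def ExactInv (k : Type u) [Field k] (A : Type v) [CommRing A] [HopfAlgebra k A] : Prop :=
  ∀ (V W : Type v) [AddCommGroup V] [Module k V] [HopfRep.Comod k A V]
    [AddCommGroup W] [Module k W] [HopfRep.Comod k A W] (φ : V →ₗ[k] W),
    LinearMap.rTensor A φ ∘ₗ HopfRep.Comod.coact (k := k) (A := A) (V := V) =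
        HopfRep.Comod.coact (k := k) (A := A) (V := W) ∘ₗ φ →
      Function.Surjective φ →
        ∀ w ∈ HopfRep.fixedPts k A W, ∃ v ∈ HopfRep.fixedPts k A V, φ v = w

theorem H1_vanish_of_exactInv (hex : ExactInv k A)
    (V : Type v) [AddCommGroup V] [Module k V] [HopfRep.Comod k A V] :
    Hoch.cocycles k A V 1 ≤ Hoch.coboundaries k A V 1 := by
  intro f hf
  -- notation
  let ι : V →ₗ[k] Hoch.Ind k A V := Hoch.toInd k A V
  obtain ⟨hιhom, hιinj⟩ := Groth.Agent.S7992.result k A V
  have hιA : Function.Injective (ι.rTensor A) :=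
    Module.Flat.rTensor_preserves_injective_linearMap ι hιinj
  have hf' : (Hoch.d k A V 1) f = 0 := hf
  -- the image cocycle
  let g : (Hoch.Ind k A V) ⊗[k] A := ι.rTensor A (f : V ⊗[k] A)
  have hg : g ∈ Hoch.cocycles k A (Hoch.Ind k A V) 1 := by
    show (Hoch.d k A (Hoch.Ind k A V) 1) g = 0
    have hnat : ∀ c : V ⊗[k] A, (Hoch.d k A (Hoch.Ind k A V) 1) (ι.rTensor A c) =
        (ι.rTensor A).rTensor A ((Hoch.d k A V 1) c) := by
      intro c
      rw [Hoch.d_succ, Hoch.d_succ]
      simp only [LinearMap.add_apply, LinearMap.smul_apply, map_add, map_smul]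
      congr 1
      · rw [← LinearMap.comp_apply, ← LinearMap.rTensor_comp, ← LinearMap.comp_apply,
          ← LinearMap.rTensor_comp]
        congr 2
        apply LinearMap.ext
        intro v
        exact d0_natural ι hιhom v
      · congr 1
        induction c using TensorProduct.induction_on with
        | zero => simp
        | tmul x a =>
          rw [LinearMap.rTensor_tmul, Hoch.tail_tmul, Hoch.tail_tmul]
          generalize (Coalgebra.comul (R := k) a - a ⊗ₜ[k] (1 : A) - (1 : A) ⊗ₜ[k] a) = s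
          induction s using TensorProduct.induction_on with
          | zero => simp
          | tmul b c => simp
          | add s t hs ht => simp only [TensorProduct.tmul_add, map_add, hs, ht]
        | add x y hx hy => simp only [map_add, hx, hy]
    rw [hnat, hf', map_zero]
  obtain ⟨u, hu⟩ := Groth.Agent.S16985.result k A V 0 hg
  have hu' : (Hoch.d k A (Hoch.Ind k A V) 0 u : Hoch.Ind k A V ⊗[k] A) = g := hu
  -- the quotient comodule
  have hR : HopfRep.IsSubcomod (k := k) (A := A) (LinearMap.range ι) := isSubcomod_range ι hιhom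
  let cI : HopfRep.Comod k A (Hoch.Ind k A V) := inferInstance
  letI cQ : HopfRep.Comod k A (Hoch.Ind k A V ⧸ LinearMap.range ι) :=
    ComodSub.Comod.quot cI (LinearMap.range ι) hR
  have hmk : Hoch.IsComodHom A (LinearMap.range ι).mkQ :=
    ComodSub.isComodHom_mkQ cI (LinearMap.range ι) hR
  have hmkι : (LinearMap.range ι).mkQ ∘ₗ ι = 0 := by
    apply LinearMap.ext
    intro v
    simp
  have hfix : (LinearMap.range ι).mkQ u ∈ HopfRep.fixedPts k A (Hoch.Ind k A V ⧸ LinearMap.range ι) := by
    rw [← d0_eq_zero_iff, d0_natural _ hmk u, hu']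
    show ((LinearMap.range ι).mkQ).rTensor A (ι.rTensor A (f : V ⊗[k] A)) = 0
    rw [← LinearMap.comp_apply, ← LinearMap.rTensor_comp, hmkι, LinearMap.rTensor_zero,
      LinearMap.zero_apply]
  obtain ⟨u', hu'fix, hu'eq⟩ := hex (Hoch.Ind k A V) (Hoch.Ind k A V ⧸ LinearMap.range ι)
    (LinearMap.range ι).mkQ hmk.symm (Submodule.mkQ_surjective _) _ hfix
  have hdiff : u - u' ∈ LinearMap.range ι := by
    rw [← Submodule.ker_mkQ (LinearMap.range ι), LinearMap.mem_ker, map_sub, hu'eq, sub_self]
  obtain ⟨v, hv⟩ := hdiff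
  have hd0u' : (Hoch.d k A (Hoch.Ind k A V) 0 u' : Hoch.Ind k A V ⊗[k] A) = 0 :=
    (d0_eq_zero_iff u').mpr hu'fix
  have hfin : (Hoch.d k A V 0 v : V ⊗[k] A) = f := by
    apply hιA
    rw [← d0_natural ι hιhom v, hv, map_sub, hu', hd0u', sub_zero]
  exact ⟨v, hfin⟩

theorem isLinearlyReductive_of_exactInv (hex : ExactInv k A) : HopfRep.IsLinearlyReductive k A := by
  intro V _ _ _ hfin
  exact Groth.Agent.S7945.semisimple_of_H1 k A
    (fun V _ _ _ _ => H1_vanish_of_exactInv hex V) V hfin

/-- the invariant-section criterion of S16709 -/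
def SectionCrit (k : Type u) [Field k] (A : Type v) [CommRing A] [HopfAlgebra k A] : Prop :=
  ∀ (V : Type v) [AddCommGroup V] [Module k V] [HopfRep.Comod k A V], Module.Finite k V →
    ∀ π : V →ₗ[k] k, Function.Surjective π →
      LinearMap.rTensor A π ∘ₗ HopfRep.Comod.coact (k := k) (A := A) (V := V) =
        (TensorProduct.mk k k A).flip (1 : A) ∘ₗ π →
      ∃ v ∈ HopfRep.fixedPts k A V, π v ≠ 0

lemma T_g (V : Type v) [AddCommGroup V] [Module k V] (ℓ : V →ₗ[k] k) (t : V ⊗[k] A)
    (h : ℓ.rTensor A t = 0) (φ : A →ₗ[k] k) : ℓ (T V φ t) = 0 := by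
  have := T_rTensor ℓ φ t
  rw [h, map_zero] at this
  exact this.symm

theorem H1_vanish_of_sectionCrit (hcrit : SectionCrit k A)
    (V : Type v) [AddCommGroup V] [Module k V] [HopfRep.Comod k A V] (hVfin : Module.Finite k V) :
    Hoch.cocycles k A V 1 ≤ Hoch.coboundaries k A V 1 := by
  classical
  intro f hf
  let ι : V →ₗ[k] Hoch.Ind k A V := Hoch.toInd k A V
  obtain ⟨hιhom, hιinj⟩ := Groth.Agent.S7992.result k A V
  have hιA : Function.Injective (ι.rTensor A) :=
    Module.Flat.rTensor_preserves_injective_linearMap ι hιinj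
  have hf' : (Hoch.d k A V 1) f = 0 := hf
  let g : (Hoch.Ind k A V) ⊗[k] A := ι.rTensor A (f : V ⊗[k] A)
  have hg : g ∈ Hoch.cocycles k A (Hoch.Ind k A V) 1 := by
    show (Hoch.d k A (Hoch.Ind k A V) 1) g = 0
    have hnat : ∀ c : V ⊗[k] A, (Hoch.d k A (Hoch.Ind k A V) 1) (ι.rTensor A c) =
        (ι.rTensor A).rTensor A ((Hoch.d k A V 1) c) := by
      intro c
      rw [Hoch.d_succ, Hoch.d_succ]
      simp only [LinearMap.add_apply, LinearMap.smul_apply, map_add, map_smul]
      congr 1
      · rw [← LinearMap.comp_apply, ← LinearMap.rTensor_comp, ← LinearMap.comp_apply,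
          ← LinearMap.rTensor_comp]
        congr 2
        apply LinearMap.ext
        intro v
        exact d0_natural ι hιhom v
      · congr 1
        induction c using TensorProduct.induction_on with
        | zero => simp
        | tmul x a =>
          rw [LinearMap.rTensor_tmul, Hoch.tail_tmul, Hoch.tail_tmul]
          generalize (Coalgebra.comul (R := k) a - a ⊗ₜ[k] (1 : A) - (1 : A) ⊗ₜ[k] a) = s
          induction s using TensorProduct.induction_on with
          | zero => simp
          | tmul b c => simp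
          | add s t hs ht => simp only [TensorProduct.tmul_add, map_add, hs, ht]
        | add x y hx hy => simp only [map_add, hx, hy]
    rw [hnat, hf', map_zero]
  obtain ⟨u, hu⟩ := Groth.Agent.S16985.result k A V 0 hg
  have hu' : (Hoch.d k A (Hoch.Ind k A V) 0 u : Hoch.Ind k A V ⊗[k] A) = g := hu
  have hcoactu : HopfRep.Comod.coact (k := k) (A := A) u = g + u ⊗ₜ[k] (1 : A) := by
    rw [← hu', d0_apply']; abel
  by_cases hur : u ∈ LinearMap.range ι
  · obtain ⟨v0, hv0⟩ := hur
    refine ⟨v0, ?_⟩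
    apply hιA
    show ι.rTensor A (Hoch.d k A V 0 v0 : V ⊗[k] A) = g
    rw [← d0_natural ι hιhom v0, hv0, hu']
  · -- the extension
    let cI : HopfRep.Comod k A (Hoch.Ind k A V) := inferInstance
    let E : Submodule k (Hoch.Ind k A V) := LinearMap.range ι ⊔ Submodule.span k {u}
    have hopι : ∀ (φ : A →ₗ[k] k) (v : V), op φ (ι v) = ι (op φ v) := fun φ v =>
      ((isComodHom_iff ι).mp hιhom φ v).symm
    have hopu : ∀ φ : A →ₗ[k] k, op φ u = ι (T V φ (f : V ⊗[k] A)) + φ 1 • u := by
      intro φ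
      rw [op_apply, hcoactu, map_add, T_tmul]
      congr 1
      exact T_rTensor ι φ _
    have hE : HopfRep.IsSubcomod (k := k) (A := A) E := by
      rw [isSubcomod_iff]
      intro φ e he
      obtain ⟨a, ha, b, hb, rfl⟩ := Submodule.mem_sup.mp he
      obtain ⟨v, rfl⟩ := ha
      obtain ⟨t, rfl⟩ := Submodule.mem_span_singleton.mp hb
      rw [map_add, map_smul, hopι, hopu]
      apply Submodule.add_mem
      · exact Submodule.mem_sup_left ⟨_, rfl⟩
      · apply Submodule.smul_mem
        apply Submodule.add_mem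
        · exact Submodule.mem_sup_left ⟨_, rfl⟩
        · exact Submodule.mem_sup_right (Submodule.smul_mem _ _ (Submodule.mem_span_singleton_self u))
    haveI : FiniteDimensional k (LinearMap.range ι) := LinearMap.finiteDimensional_range ι
    haveI : FiniteDimensional k E := Submodule.finiteDimensional_sup _ _
    letI cE : HopfRep.Comod k A E := ComodSub.Comod.restr cI E hE
    have hsubt : Hoch.IsComodHom A E.subtype := ComodSub.isComodHom_subtype cI E hE
    obtain ⟨ℓ0, hℓ1, hℓ2⟩ := Submodule.exists_le_ker_of_notMem hur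
    let ℓ : Hoch.Ind k A V →ₗ[k] k := (ℓ0 u)⁻¹ • ℓ0
    have hℓu : ℓ u = 1 := by
      show (ℓ0 u)⁻¹ • ℓ0 u = 1
      rw [smul_eq_mul, inv_mul_cancel₀ hℓ1]
    have hℓι : ∀ v, ℓ (ι v) = 0 := by
      intro v
      show (ℓ0 u)⁻¹ • ℓ0 (ι v) = 0
      have : ℓ0 (ι v) = 0 := hℓ2 ⟨v, rfl⟩
      rw [this, smul_zero]
    have hℓι' : ℓ ∘ₗ ι = 0 := LinearMap.ext hℓι
    let π : E →ₗ[k] k := ℓ ∘ₗ E.subtype
    have huE : u ∈ E := Submodule.mem_sup_right (Submodule.mem_span_singleton_self u)
    have hπsurj : Function.Surjective π := by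
      intro c
      refine ⟨c • ⟨u, huE⟩, ?_⟩
      show ℓ (c • u) = c
      rw [map_smul, hℓu, smul_eq_mul, mul_one]
    have hπhom : LinearMap.rTensor A π ∘ₗ HopfRep.Comod.coact (k := k) (A := A) (V := E) =
        (TensorProduct.mk k k A).flip (1 : A) ∘ₗ π := by
      apply LinearMap.ext
      intro e
      show π.rTensor A (HopfRep.Comod.coact (k := k) (A := A) e) = π e ⊗ₜ[k] (1 : A)
      have h1 : π.rTensor A (HopfRep.Comod.coact (k := k) (A := A) e) =
          ℓ.rTensor A (HopfRep.Comod.coact (k := k) (A := A) (e : Hoch.Ind k A V)) := by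
        have h2 := LinearMap.congr_fun hsubt e
        simp only [LinearMap.comp_apply] at h2
        have h3 : HopfRep.Comod.coact (k := k) (A := A) (e : Hoch.Ind k A V) =
            E.subtype.rTensor A (HopfRep.Comod.coact (k := k) (A := A) e) := h2
        rw [h3, ← LinearMap.comp_apply (LinearMap.rTensor A ℓ), ← LinearMap.rTensor_comp]
      rw [h1]
      obtain ⟨a, ha, b, hb, hab⟩ := Submodule.mem_sup.mp e.2
      obtain ⟨v, rfl⟩ := ha
      obtain ⟨t, rfl⟩ := Submodule.mem_span_singleton.mp hb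
      show _ = ℓ (e : Hoch.Ind k A V) ⊗ₜ[k] (1 : A)
      rw [← hab, map_add, map_smul, map_add, map_smul, hcoactu]
      have h4 : HopfRep.Comod.coact (k := k) (A := A) (ι v) =
          ι.rTensor A (HopfRep.Comod.coact (k := k) (A := A) v) := by
        have := LinearMap.congr_fun hιhom v
        simpa only [LinearMap.comp_apply] using this
      rw [h4, ← LinearMap.comp_apply, ← LinearMap.rTensor_comp, hℓι', LinearMap.rTensor_zero,
        LinearMap.zero_apply, map_add, map_add]
      have h5 : ℓ.rTensor A g = 0 := by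
        show ℓ.rTensor A (ι.rTensor A (f : V ⊗[k] A)) = 0
        rw [← LinearMap.comp_apply, ← LinearMap.rTensor_comp, hℓι', LinearMap.rTensor_zero,
          LinearMap.zero_apply]
      rw [h5, LinearMap.rTensor_tmul, hℓι, hℓu, zero_add, zero_add, zero_add,
        TensorProduct.smul_tmul', map_smul, hℓu]
    obtain ⟨e0, he0fix, he0⟩ := hcrit E inferInstance π hπsurj hπhom
    -- e0 is fixed in Ind V
    have he0fix' : (e0 : Hoch.Ind k A V) ∈ HopfRep.fixedPts k A (Hoch.Ind k A V) := by
      have h2 := LinearMap.congr_fun hsubt e0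
      simp only [LinearMap.comp_apply] at h2
      have h3 : HopfRep.Comod.coact (k := k) (A := A) (e0 : Hoch.Ind k A V) =
          E.subtype.rTensor A (HopfRep.Comod.coact (k := k) (A := A) e0) := h2
      have h4 : HopfRep.Comod.coact (k := k) (A := A) e0 = e0 ⊗ₜ[k] (1 : A) := he0fix
      show HopfRep.Comod.coact (k := k) (A := A) (e0 : Hoch.Ind k A V) = _
      rw [h3, h4, LinearMap.rTensor_tmul]
      rfl
    obtain ⟨a, ha, b, hb, hab⟩ := Submodule.mem_sup.mp e0.2
    obtain ⟨v0, rfl⟩ := ha
    obtain ⟨t, rfl⟩ := Submodule.mem_span_singleton.mp hb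
    have ht : t ≠ 0 := by
      intro ht0
      apply he0
      show ℓ (e0 : Hoch.Ind k A V) = 0
      rw [← hab, ht0, zero_smul, add_zero, hℓι]
    have hd0 : (Hoch.d k A (Hoch.Ind k A V) 0 (ι v0 + t • u) : Hoch.Ind k A V ⊗[k] A) = 0 := by
      rw [d0_eq_zero_iff, hab]
      exact he0fix'
    rw [map_add, map_smul] at hd0
    have hd0' : ι.rTensor A ((Hoch.d k A V 0 v0 : V ⊗[k] A) + t • (f : V ⊗[k] A)) = 0 := by
      rw [map_add, map_smul, ← d0_natural ι hιhom v0]
      have : (Hoch.d k A (Hoch.Ind k A V) 0 u : Hoch.Ind k A V ⊗[k] A) = ι.rTensor A (f : V ⊗[k] A) := hu'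
      rw [← this]
      exact hd0
    have hzero : (Hoch.d k A V 0 v0 : V ⊗[k] A) + t • (f : V ⊗[k] A) = 0 := by
      apply hιA
      rw [hd0', map_zero]
    refine ⟨(-t⁻¹) • v0, ?_⟩
    show (Hoch.d k A V 0 ((-t⁻¹) • v0) : V ⊗[k] A) = f
    rw [map_smul]
    have : (Hoch.d k A V 0 v0 : V ⊗[k] A) = -(t • (f : V ⊗[k] A)) := eq_neg_of_add_eq_zero_left hzero
    rw [this, smul_neg, neg_smul, neg_neg, smul_smul, inv_mul_cancel₀ ht, one_smul]

theorem isLinearlyReductive_of_sectionCrit (hcrit : SectionCrit k A) :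
    HopfRep.IsLinearlyReductive k A := by
  intro V _ _ _ hfin
  exact Groth.Agent.S7945.semisimple_of_H1 k A
    (fun V _ _ _ hV => H1_vanish_of_sectionCrit hcrit V hV) V hfin

end Groth.Agent.Lib.helper29.ExactInv
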