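import Mathlib

/-! Fan0 (helper29): a nonnegative real vector in the kernel of an integer matrix is a positive
combination of ℤ-linearly independent nonnegative integer kernel vectors (with nested supports). -/

set_option autoImplicit false

namespace Groth.Agent.H29.Fan0

open Finset

variable {ι : Type*} [Fintype ι] {κ : Type*}

/-- integer kernel of a family of integer linear forms -/
def IsKerZ (a : κ → ι → ℤ) (z : ι → ℤ) : Prop := ∀ j, ∑ i, a j i * z i = 0

/-- real kernel of a family of integer linear forms -/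
def IsKerR (a : κ → ι → ℤ) (x : ι → ℝ) : Prop := ∀ j, ∑ i, (a j i : ℝ) * x i = 0

lemma exists_int_decomp (a : κ → ι → ℤ) (x : ι → ℝ) (hx : IsKerR a x) :
    ∃ (r : ℕ) (b : Fin r → ℝ) (z : Fin r → ι → ℤ), (∀ l, IsKerZ a (z l)) ∧
      (∀ l i, x i = 0 → z l i = 0) ∧ ∀ i, x i = ∑ l, (z l i : ℝ) * b l := by
  classical
  let V : Submodule ℤ ℝ := Submodule.span ℤ (Set.range x)
  haveI : Module.Finite ℤ V := Module.Finite.span_of_finite ℤ (Set.finite_range x)
  haveI : Module.Free ℤ V := Module.free_of_finite_type_torsion_free'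
  let B := Module.finBasis ℤ V
  let x' : ι → V := fun i => ⟨x i, Submodule.subset_span (Set.mem_range_self i)⟩
  refine ⟨Module.finrank ℤ V, fun l => (B l : ℝ), fun l i => B.repr (x' i) l, ?_, ?_, ?_⟩
  · intro l j
    have h0 : ∑ i, a j i • x' i = 0 := by
      apply Subtype.ext
      rw [Submodule.coe_sum]
      simp only [Submodule.coe_smul, zsmul_eq_mul, Submodule.coe_zero]
      exact hx j
    have h1 := congrArg (fun v => B.repr v l) h0
    simp only [map_sum, map_smul, map_zero, Finsupp.coe_finset_sum, Finsupp.coe_smul,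
      Finset.sum_apply, Pi.smul_apply, smul_eq_mul, Finsupp.coe_zero, Pi.zero_apply] at h1
    exact h1
  · intro l i hi
    have : x' i = 0 := Subtype.ext hi
    simp [this]
  · intro i
    have h1 := congrArg (fun v : V => (v : ℝ)) (B.sum_repr (x' i))
    simp only [Submodule.coe_sum, Submodule.coe_smul, zsmul_eq_mul] at h1
    exact h1.symm

lemma exists_pos_int_ker (a : κ → ι → ℤ) (x : ι → ℝ) (hx : IsKerR a x) :
    ∃ z : ι → ℤ, IsKerZ a z ∧ (∀ i, x i = 0 → z i = 0) ∧ (∀ i, 0 < x i → 0 < z i) := by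
  classical
  obtain ⟨r, b, z, hz, hsupp, hsum⟩ := exists_int_decomp a x hx
  have hN : ∀ i, ∃ N : ℕ, (∑ l, |(z l i : ℝ)|) / x i < N := fun i => exists_nat_gt _
  choose N hN using hN
  let M : ℕ := ∑ i, N i
  let p : Fin r → ℤ := fun l => ⌊(M : ℝ) * b l⌋
  refine ⟨fun i => ∑ l, p l * z l i, ?_, ?_, ?_⟩
  · intro j
    have : ∑ i, a j i * ∑ l, p l * z l i = ∑ l, p l * ∑ i, a j i * z l i := by
      simp only [Finset.mul_sum]
      rw [Finset.sum_comm]
      refine Finset.sum_congr rfl fun l _ => Finset.sum_congr rfl fun i _ => by ring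
    rw [this]
    simp [hz _ j]
  · intro i hi
    simp [hsupp _ i hi]
  · intro i hi
    have hMi : (N i : ℝ) ≤ (M : ℝ) := by
      have : N i ≤ M := Finset.single_le_sum (f := N) (fun _ _ => Nat.zero_le _) (Finset.mem_univ i)
      exact_mod_cast this
    have h1 : (∑ l, |(z l i : ℝ)|) < M * x i := by
      have := hN i
      rw [div_lt_iff₀ hi] at this
      calc (∑ l, |(z l i : ℝ)|) < N i * x i := this
        _ ≤ M * x i := by gcongr
    have h2 : ((∑ l, p l * z l i : ℤ) : ℝ) = M * x i - ∑ l, ((M : ℝ) * b l - p l) * z l i := by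
      rw [hsum i]
      push_cast
      rw [Finset.mul_sum, ← Finset.sum_sub_distrib]
      refine Finset.sum_congr rfl fun l _ => by ring
    have h3 : ∑ l, ((M : ℝ) * b l - p l) * z l i ≤ ∑ l, |(z l i : ℝ)| := by
      refine Finset.sum_le_sum fun l _ => ?_
      have hf0 : 0 ≤ (M : ℝ) * b l - p l := by
        have := Int.floor_le ((M : ℝ) * b l)
        simp only [p]; linarith
      have hf1 : (M : ℝ) * b l - p l ≤ 1 := by
        have := Int.lt_floor_add_one ((M : ℝ) * b l)
        simp only [p]; linarith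
      calc ((M : ℝ) * b l - p l) * z l i ≤ |((M : ℝ) * b l - p l) * z l i| := le_abs_self _
        _ = |(M : ℝ) * b l - p l| * |(z l i : ℝ)| := abs_mul _ _
        _ ≤ 1 * |(z l i : ℝ)| := by
            gcongr
            rw [abs_of_nonneg hf0]; exact hf1
        _ = |(z l i : ℝ)| := one_mul _
    have h4 : (0 : ℝ) < ((∑ l, p l * z l i : ℤ) : ℝ) := by
      rw [h2]; linarith
    exact_mod_cast h4

theorem exists_cone_decomp_aux (a : κ → ι → ℤ) [DecidableEq ι] : ∀ (s : ℕ) (x : ι → ℝ), IsKerR a x →
    (∀ i, 0 ≤ x i) → (univ.filter (fun i => x i ≠ 0)).card ≤ s →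
    ∃ (r : ℕ) (z : Fin r → ι → ℤ) (c : Fin r → ℝ), (∀ l, IsKerZ a (z l)) ∧ (∀ l i, 0 ≤ z l i) ∧
      (∀ l i, x i = 0 → z l i = 0) ∧ (∀ l, 0 < c l) ∧ (∀ i, x i = ∑ l, c l * z l i) ∧
      (∀ e : Fin r → ℤ, (∀ i, ∑ l, e l * z l i = 0) → e = 0) := by
  intro s
  induction s with
  | zero =>
    intro x hx hx0 hcard
    have hx' : ∀ i, x i = 0 := by
      intro i
      by_contra hi
      have : i ∈ univ.filter (fun i => x i ≠ 0) := by simp [hi]
      have := Finset.card_pos.mpr ⟨i, this⟩
      omega
    refine ⟨0, Fin.elim0, Fin.elim0, fun l => l.elim0, fun l => l.elim0, fun l => l.elim0,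
      fun l => l.elim0, ?_, ?_⟩
    · intro i; simp [hx' i]
    · intro e _; funext l; exact l.elim0
  | succ s ih =>
    intro x hx hx0 hcard
    by_cases hxz : ∀ i, x i = 0
    · refine ⟨0, Fin.elim0, Fin.elim0, fun l => l.elim0, fun l => l.elim0, fun l => l.elim0,
        fun l => l.elim0, ?_, ?_⟩
      · intro i; simp [hxz i]
      · intro e _; funext l; exact l.elim0
    push Not at hxz
    obtain ⟨i₁, hi₁⟩ := hxz
    obtain ⟨z₀, hz₀k, hz₀s, hz₀p⟩ := exists_pos_int_ker a x hx
    set S := univ.filter (fun i => x i ≠ 0) with hS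
    have hSne : S.Nonempty := ⟨i₁, by simp [hS, hi₁]⟩
    obtain ⟨i₀, hi₀S, hi₀min⟩ := Finset.exists_min_image S (fun i => x i / z₀ i) hSne
    have hxpos : ∀ i ∈ S, 0 < x i := by
      intro i hi
      have : x i ≠ 0 := by simpa [hS] using hi
      exact lt_of_le_of_ne (hx0 i) (Ne.symm this)
    have hzpos : ∀ i ∈ S, (0 : ℝ) < z₀ i := by
      intro i hi
      exact_mod_cast hz₀p i (hxpos i hi)
    set lam := x i₀ / z₀ i₀ with hlam
    have hlampos : 0 < lam := div_pos (hxpos i₀ hi₀S) (hzpos i₀ hi₀S)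
    let x' : ι → ℝ := fun i => x i - lam * z₀ i
    have hx'0 : ∀ i, 0 ≤ x' i := by
      intro i
      by_cases hi : i ∈ S
      · have h1 := hi₀min i hi
        have h2 : lam * z₀ i ≤ x i := by
          have := (le_div_iff₀ (hzpos i hi)).mp h1
          exact this
        simp only [x']; linarith
      · have : x i = 0 := by simpa [hS] using hi
        simp [x', this, hz₀s i this]
    have hx'i₀ : x' i₀ = 0 := by
      simp only [x', hlam]
      have := (hzpos i₀ hi₀S).ne'
      field_simp
      ring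
    have hx'k : IsKerR a x' := by
      intro j
      have h1 : ∑ i, (a j i : ℝ) * x' i = ∑ i, (a j i : ℝ) * x i - lam * ∑ i, (a j i : ℝ) * z₀ i := by
        rw [Finset.mul_sum, ← Finset.sum_sub_distrib]
        refine Finset.sum_congr rfl fun i _ => by simp only [x']; ring
      rw [h1, hx j]
      have : (∑ i, (a j i : ℝ) * z₀ i) = ((∑ i, a j i * z₀ i : ℤ) : ℝ) := by push_cast; rfl
      rw [this, hz₀k j]; simp
    have hx's : ∀ i, x i = 0 → x' i = 0 := by
      intro i hi; simp [x', hi, hz₀s i hi]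
    have hcard' : (univ.filter (fun i => x' i ≠ 0)).card ≤ s := by
      have hsub : univ.filter (fun i => x' i ≠ 0) ⊆ S.erase i₀ := by
        intro i hi
        simp only [Finset.mem_filter, Finset.mem_univ, true_and] at hi
        rw [Finset.mem_erase]
        refine ⟨fun h => hi (h ▸ hx'i₀), ?_⟩
        simp only [hS, Finset.mem_filter, Finset.mem_univ, true_and]
        exact fun h => hi (hx's i h)
      have := Finset.card_le_card hsub
      rw [Finset.card_erase_of_mem hi₀S] at this
      omega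
    obtain ⟨r, z, c, hzk, hz0, hzs, hc, hsum, hind⟩ := ih x' hx'k hx'0 hcard'
    refine ⟨r + 1, Fin.cons z₀ z, Fin.cons lam c, ?_, ?_, ?_, ?_, ?_, ?_⟩
    · intro l
      refine Fin.cases ?_ (fun l => ?_) l
      · simpa using hz₀k
      · simpa using hzk l
    · intro l
      refine Fin.cases ?_ (fun l => ?_) l
      · intro i
        simp only [Fin.cons_zero]
        rcases (hx0 i).eq_or_lt with h | h
        · rw [hz₀s i h.symm]
        · exact (hz₀p i h).le
      · simpa using hz0 l
    · intro l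
      refine Fin.cases ?_ (fun l => ?_) l
      · simpa using hz₀s
      · intro i hi
        simpa using hzs l i (hx's i hi)
    · intro l
      refine Fin.cases ?_ (fun l => ?_) l
      · simpa using hlampos
      · simpa using hc l
    · intro i
      rw [Fin.sum_univ_succ]
      simp only [Fin.cons_zero, Fin.cons_succ]
      rw [← hsum i]
      simp only [x']; ring
    · intro e he
      have h0 : e 0 = 0 := by
        have := he i₀
        rw [Fin.sum_univ_succ] at this
        simp only [Fin.cons_zero, Fin.cons_succ] at this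
        have hz : ∀ l, z l i₀ = 0 := fun l => hzs l i₀ hx'i₀
        simp only [hz, mul_zero, Finset.sum_const_zero, add_zero] at this
        have hz₀ne : z₀ i₀ ≠ 0 := (hz₀p i₀ (hxpos i₀ hi₀S)).ne'
        exact (mul_eq_zero.mp this).resolve_right hz₀ne
      have h1 : (fun l => e (Fin.succ l)) = 0 := by
        apply hind
        intro i
        have := he i
        rw [Fin.sum_univ_succ] at this
        simpa [h0] using this
      funext l
      refine Fin.cases ?_ (fun l => ?_) l
      · exact h0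
      · exact congrFun h1 l

theorem exists_cone_decomp (a : κ → ι → ℤ) (x : ι → ℝ) (hx : IsKerR a x) (hx0 : ∀ i, 0 ≤ x i) :
    ∃ (r : ℕ) (z : Fin r → ι → ℤ) (c : Fin r → ℝ), (∀ l, IsKerZ a (z l)) ∧ (∀ l i, 0 ≤ z l i) ∧
      (∀ l i, x i = 0 → z l i = 0) ∧ (∀ l, 0 < c l) ∧ (∀ i, x i = ∑ l, c l * z l i) ∧
      (∀ e : Fin r → ℤ, (∀ i, ∑ l, e l * z l i = 0) → e = 0) := by
  classical
  exact exists_cone_decomp_aux a _ x hx hx0 le_rfl

end Groth.Agent.H29.Fan0
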