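import Mathlib
import Groth.Prelude.Def_W4c6instabfans3FanCvx
import Groth.Agent.Lib.helper29.Fan0

/-! Fan1 (helper29): basic API for formal fans: realMap functoriality, points of `P F`,
fibre products of cone morphisms, common sub-cones. -/

set_option autoImplicit false

universe u

namespace Groth.Agent.H29.Fan

open CategoryTheory Opposite Instab Instab.Fan

lemma comp_toLin {k m n : ICone} (φ : k ⟶ m) (ψ : m ⟶ n) :
    (φ ≫ ψ).toLin = ψ.toLin.comp φ.toLin := rfl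

lemma id_toLin (n : ICone) : (𝟙 n : n ⟶ n).toLin = LinearMap.id := rfl

lemma realMap_apply {k n : ICone} (φ : k ⟶ n) (v : Fin k.dim → ℝ) (j : Fin n.dim) :
    φ.realMap v j = ∑ i, (φ.toLin (Pi.single i 1) j : ℝ) * v i := rfl

lemma lin_apply {k n : ℕ} (f : (Fin k → ℤ) →ₗ[ℤ] (Fin n → ℤ)) (w : Fin k → ℤ) (j : Fin n) :
    f w j = ∑ i, f (Pi.single i 1) j * w i := by
  have h : w = ∑ i, w i • (Pi.single i 1 : Fin k → ℤ) := by
    funext l
    simp [Finset.sum_apply, Pi.single_apply]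
  conv_lhs => rw [h]
  rw [map_sum, Finset.sum_apply]
  refine Finset.sum_congr rfl fun i _ => ?_
  rw [map_smul, Pi.smul_apply, smul_eq_mul, mul_comm]

lemma toLin_apply {k n : ICone} (φ : k ⟶ n) (w : Fin k.dim → ℤ) (j : Fin n.dim) :
    φ.toLin w j = ∑ i, φ.toLin (Pi.single i 1) j * w i := lin_apply _ _ _

lemma realMap_id (n : ICone) (v : Fin n.dim → ℝ) : (𝟙 n : n ⟶ n).realMap v = v := by
  funext j
  rw [realMap_apply, id_toLin]
  simp [Pi.single_apply]

lemma realMap_comp {k m n : ICone} (φ : k ⟶ m) (ψ : m ⟶ n) (v : Fin k.dim → ℝ) :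
    (φ ≫ ψ).realMap v = ψ.realMap (φ.realMap v) := by
  funext j
  simp only [realMap_apply, comp_toLin, LinearMap.comp_apply]
  simp only [Finset.mul_sum]
  rw [Finset.sum_comm]
  refine Finset.sum_congr rfl fun i _ => ?_
  rw [toLin_apply ψ (φ.toLin (Pi.single i 1)) j]
  push_cast
  rw [Finset.sum_mul]
  refine Finset.sum_congr rfl fun l _ => by ring

lemma realMap_smul {k n : ICone} (φ : k ⟶ n) (c : ℝ) (v : Fin k.dim → ℝ) :
    φ.realMap (c • v) = c • φ.realMap v := by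
  funext j
  simp only [realMap_apply, Pi.smul_apply, smul_eq_mul, Finset.mul_sum]
  refine Finset.sum_congr rfl fun i _ => by ring

lemma realMap_add {k n : ICone} (φ : k ⟶ n) (v w : Fin k.dim → ℝ) :
    φ.realMap (v + w) = φ.realMap v + φ.realMap w := by
  funext j
  simp only [realMap_apply, Pi.add_apply, mul_add, Finset.sum_add_distrib]

lemma toLin_single_nonneg {k n : ICone} (φ : k ⟶ n) (i : Fin k.dim) (j : Fin n.dim) :
    0 ≤ φ.toLin (Pi.single i 1) j := by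
  apply φ.nonneg
  intro l
  by_cases h : l = i
  · subst h; simp
  · simp [Pi.single_apply, h]

lemma realMap_nonneg {k n : ICone} (φ : k ⟶ n) (v : Fin k.dim → ℝ) (hv : ∀ i, 0 ≤ v i)
    (j : Fin n.dim) : 0 ≤ φ.realMap v j := by
  rw [realMap_apply]
  refine Finset.sum_nonneg fun i _ => mul_nonneg ?_ (hv i)
  exact_mod_cast toLin_single_nonneg φ i j

lemma realMap_ne_zero {k n : ICone} (φ : k ⟶ n) (v : Fin k.dim → ℝ) (hv : ∀ i, 0 ≤ v i)
    (hv0 : v ≠ 0) : φ.realMap v ≠ 0 := by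
  intro h
  apply hv0
  funext i
  by_contra hi
  have hipos : 0 < v i := lt_of_le_of_ne (hv i) (Ne.symm hi)
  have hne : φ.toLin (Pi.single i 1) ≠ 0 := by
    intro h0
    have := φ.injective (h0.trans (map_zero φ.toLin).symm)
    have := congrFun this i
    simp at this
  obtain ⟨j, hj⟩ := Function.ne_iff.mp hne
  have hjpos : 0 < φ.toLin (Pi.single i 1) j :=
    lt_of_le_of_ne (toLin_single_nonneg φ i j) (Ne.symm hj)
  have h1 := congrFun h j
  rw [realMap_apply] at h1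
  have h2 : (φ.toLin (Pi.single i 1) j : ℝ) * v i ≤ ∑ i, (φ.toLin (Pi.single i 1) j : ℝ) * v i := by
    refine Finset.single_le_sum (f := fun i => (φ.toLin (Pi.single i 1) j : ℝ) * v i)
      (fun l _ => mul_nonneg ?_ (hv l)) (Finset.mem_univ i)
    exact_mod_cast toLin_single_nonneg φ l j
  have h3 : 0 < (φ.toLin (Pi.single i 1) j : ℝ) * v i := by
    apply mul_pos _ hipos
    exact_mod_cast hjpos
  rw [h1] at h2
  simp only [Pi.zero_apply] at h2
  linarith

/-- image of a point of the punctured orthant under a cone morphism -/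
def orthMap {k n : ICone} (φ : k ⟶ n) (v : Orth k) : Orth n :=
  ⟨φ.realMap v.1, realMap_nonneg φ v.1 v.2.1, realMap_ne_zero φ v.1 v.2.1 v.2.2⟩

@[simp] lemma orthMap_val {k n : ICone} (φ : k ⟶ n) (v : Orth k) :
    (orthMap φ v).1 = φ.realMap v.1 := rfl

/-- positive rescaling of a point of the punctured orthant -/
def orthSmul {n : ICone} (c : ℝ) (hc : 0 < c) (v : Orth n) : Orth n :=
  ⟨c • v.1, fun i => mul_nonneg hc.le (v.2.1 i), fun h => v.2.2 (by
    rcases smul_eq_zero.mp h with h | h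
    · exact absurd h hc.ne'
    · exact h)⟩

@[simp] lemma orthSmul_val {n : ICone} (c : ℝ) (hc : 0 < c) (v : Orth n) :
    (orthSmul c hc v).1 = c • v.1 := rfl

variable {F : Fan.{u}}

lemma mk_map_eq {k n : ICone} (φ : k ⟶ n) (ξ : F.obj (op n)) (v : Orth k) (w : Orth n) (c : ℝ)
    (hc : 0 < c) (h : w.1 = c • φ.realMap v.1) : P.mk (F.map φ.op ξ) v = P.mk ξ w :=
  Quot.sound (Rel.glue φ ξ v w c hc h)

lemma mk_map {k n : ICone} (φ : k ⟶ n) (ξ : F.obj (op n)) (v : Orth k) :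
    P.mk (F.map φ.op ξ) v = P.mk ξ (orthMap φ v) :=
  mk_map_eq φ ξ v _ 1 one_pos (by simp)

lemma mk_smul_eq {n : ICone} (ξ : F.obj (op n)) (v w : Orth n) (c : ℝ) (hc : 0 < c)
    (h : w.1 = c • v.1) : P.mk ξ v = P.mk ξ w := by
  have := mk_map_eq (F := F) (𝟙 n) ξ v w c hc (by rw [realMap_id]; exact h)
  rwa [op_id, Functor.map_id_apply] at this

lemma mk_surj (x : P F) : ∃ (n : ICone) (ξ : F.obj (op n)) (v : Orth n), x = P.mk ξ v := by
  induction x using Quot.inductionOn with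
  | h p => exact ⟨p.1.1, p.1.2, p.2, rfl⟩

lemma map_mk {G : Fan.{u}} (f : F ⟶ G) {n : ICone} (ξ : F.obj (op n)) (v : Orth n) :
    P.map f (P.mk ξ v) = P.mk (f.app (op n) ξ) v := rfl

lemma map_comp {G H : Fan.{u}} (f : F ⟶ G) (g : G ⟶ H) (x : P F) :
    P.map (f ≫ g) x = P.map g (P.map f x) := by
  obtain ⟨n, ξ, v, rfl⟩ := mk_surj x
  rw [map_mk, map_mk, map_mk, NatTrans.comp_app_apply]

/-- the fibre product lemma for cone morphisms -/
theorem exists_fibre {k₁ k₂ n : ICone} (φ₁ : k₁ ⟶ n) (φ₂ : k₂ ⟶ n) (y₁ : Orth k₁) (y₂ : Orth k₂)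
    (h : φ₁.realMap y₁.1 = φ₂.realMap y₂.1) :
    ∃ (k : ICone) (ψ₁ : k ⟶ k₁) (ψ₂ : k ⟶ k₂) (y : Orth k), ψ₁ ≫ φ₁ = ψ₂ ≫ φ₂ ∧
      y₁.1 = ψ₁.realMap y.1 ∧ y₂.1 = ψ₂.realMap y.1 := by
  classical
  let a : Fin n.dim → (Fin k₁.dim ⊕ Fin k₂.dim) → ℤ := fun j =>
    Sum.elim (fun i => φ₁.toLin (Pi.single i 1) j) (fun i => - φ₂.toLin (Pi.single i 1) j)
  let x : (Fin k₁.dim ⊕ Fin k₂.dim) → ℝ := Sum.elim y₁.1 y₂.1
  have hx : Fan0.IsKerR a x := by
    intro j
    rw [Fintype.sum_sum_type]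
    simp only [a, x, Sum.elim_inl, Sum.elim_inr]
    have := congrFun h j
    rw [realMap_apply, realMap_apply] at this
    push_cast
    simp only [neg_mul, Finset.sum_neg_distrib]
    linarith
  have hx0 : ∀ i, 0 ≤ x i := by
    rintro (i | i)
    · exact y₁.2.1 i
    · exact y₂.2.1 i
  obtain ⟨r, z, c, hzk, hz0, hzs, hc, hsum, hind⟩ := Fan0.exists_cone_decomp a x hx hx0
  have hr : 0 < r := by
    rcases Nat.eq_zero_or_pos r with h0 | h0
    · subst h0
      exfalso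
      apply y₁.2.2
      funext i
      have := hsum (Sum.inl i)
      simpa [x] using this
    · exact h0
  let L₁ : (Fin r → ℤ) →ₗ[ℤ] (Fin k₁.dim → ℤ) :=
    { toFun := fun e i => ∑ l, e l * z l (Sum.inl i)
      map_add' := fun e e' => by funext i; simp [add_mul, Finset.sum_add_distrib]
      map_smul' := fun t e => by funext i; simp [Finset.mul_sum, mul_assoc] }
  let L₂ : (Fin r → ℤ) →ₗ[ℤ] (Fin k₂.dim → ℤ) :=
    { toFun := fun e i => ∑ l, e l * z l (Sum.inr i)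
      map_add' := fun e e' => by funext i; simp [add_mul, Finset.sum_add_distrib]
      map_smul' := fun t e => by funext i; simp [Finset.mul_sum, mul_assoc] }
  have hL : ∀ e, φ₁.toLin (L₁ e) = φ₂.toLin (L₂ e) := by
    intro e
    funext j
    rw [toLin_apply, toLin_apply]
    have h1 : ∀ l, ∑ i, φ₁.toLin (Pi.single i 1) j * z l (Sum.inl i) =
        ∑ i, φ₂.toLin (Pi.single i 1) j * z l (Sum.inr i) := by
      intro l
      have := hzk l j
      rw [Fintype.sum_sum_type] at this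
      simp only [a, Sum.elim_inl, Sum.elim_inr, neg_mul, Finset.sum_neg_distrib] at this
      linarith
    simp only [L₁, L₂, LinearMap.coe_mk, AddHom.coe_mk, Finset.mul_sum]
    rw [Finset.sum_comm]
    conv_rhs => rw [Finset.sum_comm]
    refine Finset.sum_congr rfl fun l _ => ?_
    have := congrArg (fun t => e l * t) (h1 l)
    simp only [Finset.mul_sum] at this
    convert this using 2 <;> ring
  have hzero : ∀ e, L₁ e = 0 → L₂ e = 0 → e = 0 := by
    intro e h1 h2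
    apply hind
    rintro (i | i)
    · exact congrFun h1 i
    · exact congrFun h2 i
  have hinj₁ : Function.Injective L₁ := by
    rw [injective_iff_map_eq_zero]
    intro e he
    apply hzero e he
    apply φ₂.injective
    rw [← hL, he, map_zero, map_zero]
  have hinj₂ : Function.Injective L₂ := by
    rw [injective_iff_map_eq_zero]
    intro e he
    refine hzero e ?_ he
    apply φ₁.injective
    rw [hL, he, map_zero, map_zero]
  let k : ICone := ⟨⟨r, hr⟩⟩
  let ψ₁ : k ⟶ k₁ := ⟨L₁, hinj₁, fun e he i =>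
    show 0 ≤ ∑ l, e l * z l (Sum.inl i) from
    Finset.sum_nonneg fun l _ => mul_nonneg (he l) (hz0 l _)⟩
  let ψ₂ : k ⟶ k₂ := ⟨L₂, hinj₂, fun e he i =>
    show 0 ≤ ∑ l, e l * z l (Sum.inr i) from
    Finset.sum_nonneg fun l _ => mul_nonneg (he l) (hz0 l _)⟩
  have hc0 : (c : Fin k.dim → ℝ) ≠ 0 := by
    intro h0
    have := hc ⟨0, hr⟩
    have h1 := congrFun h0 ⟨0, hr⟩
    simp only [Pi.zero_apply] at h1
    linarith
  refine ⟨k, ψ₁, ψ₂, ⟨c, fun l => (hc l).le, hc0⟩, ?_, ?_, ?_⟩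
  · apply ICone.Hom.ext
    apply LinearMap.ext
    intro e
    exact hL e
  · funext i
    have := hsum (Sum.inl i)
    simp only [x, Sum.elim_inl] at this
    rw [this, realMap_apply]
    refine Finset.sum_congr rfl fun l _ => ?_
    have : ψ₁.toLin (Pi.single l 1) i = z l (Sum.inl i) := by
      show ∑ l', (Pi.single l 1 : Fin r → ℤ) l' * z l' (Sum.inl i) = _
      simp [Pi.single_apply]
    rw [this]; ring
  · funext i
    have := hsum (Sum.inr i)
    simp only [x, Sum.elim_inr] at this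
    rw [this, realMap_apply]
    refine Finset.sum_congr rfl fun l _ => ?_
    have : ψ₂.toLin (Pi.single l 1) i = z l (Sum.inr i) := by
      show ∑ l', (Pi.single l 1 : Fin r → ℤ) l' * z l' (Sum.inr i) = _
      simp [Pi.single_apply]
    rw [this]; ring

/-- two points of the disjoint union have a common sub-cone -/
def Common (F : Fan.{u}) (p q : Pt F) : Prop :=
  ∃ (k : ICone) (φ₁ : k ⟶ p.1.1) (φ₂ : k ⟶ q.1.1) (y : Orth k) (c₁ c₂ : ℝ),
    F.map φ₁.op p.1.2 = F.map φ₂.op q.1.2 ∧ 0 < c₁ ∧ 0 < c₂ ∧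
      p.2.1 = c₁ • φ₁.realMap y.1 ∧ q.2.1 = c₂ • φ₂.realMap y.1

lemma common_refl (p : Pt F) : Common F p p :=
  ⟨p.1.1, 𝟙 _, 𝟙 _, p.2, 1, 1, rfl, one_pos, one_pos, by simp [realMap_id], by simp [realMap_id]⟩

lemma common_symm {p q : Pt F} (h : Common F p q) : Common F q p := by
  obtain ⟨k, φ₁, φ₂, y, c₁, c₂, h1, h2, h3, h4, h5⟩ := h
  exact ⟨k, φ₂, φ₁, y, c₂, c₁, h1.symm, h3, h2, h5, h4⟩

lemma common_trans {p q s : Pt F} (h : Common F p q) (h' : Common F q s) : Common F p s := by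
  obtain ⟨k, φ₁, φ₂, y, c₁, c₂, h1, h2, h3, h4, h5⟩ := h
  obtain ⟨k', φ₂', φ₃', y', c₂', c₃', h1', h2', h3', h4', h5'⟩ := h'
  -- q.2.1 = c₂ • φ₂ y = c₂' • φ₂' y'
  have hfib : φ₂.realMap (orthSmul c₂ h3 y).1 = φ₂'.realMap (orthSmul c₂' h2' y').1 := by
    simp only [orthSmul_val, realMap_smul]
    rw [← h5, ← h4']
  obtain ⟨k'', ψ, ψ', y'', hcomm, hy, hy'⟩ := exists_fibre φ₂ φ₂' _ _ hfib
  simp only [orthSmul_val] at hy hy'
  refine ⟨k'', ψ ≫ φ₁, ψ' ≫ φ₃', y'', c₁ / c₂, c₃' / c₂', ?_, div_pos h2 h3, div_pos h3' h2', ?_, ?_⟩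
  · rw [op_comp, op_comp, Functor.map_comp_apply, Functor.map_comp_apply, h1, ← h1',
      ← Functor.map_comp_apply, ← Functor.map_comp_apply, ← op_comp, ← op_comp, hcomm]
  · rw [h4, realMap_comp, ← hy, realMap_smul, smul_smul, div_mul_cancel₀ _ h3.ne']
  · rw [h5', realMap_comp, ← hy', realMap_smul, smul_smul, div_mul_cancel₀ _ h2'.ne']

lemma common_of_rel {p q : Pt F} (h : Rel F p q) : Common F p q := by
  obtain ⟨φ, ξ, v, w, c, hc, h⟩ := h
  exact ⟨_, 𝟙 _, φ, v, 1, c, by simp, one_pos, hc, by simp [realMap_id], h⟩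

theorem common_of_eq {p q : Pt F} (h : (Quot.mk (Rel F) p : P F) = Quot.mk (Rel F) q) :
    Common F p q := by
  have := Quot.eqvGen_exact h
  clear h
  induction this with
  | rel _ _ h => exact common_of_rel h
  | refl _ => exact common_refl _
  | symm _ _ _ ih => exact common_symm ih
  | trans _ _ _ _ _ ih1 ih2 => exact common_trans ih1 ih2

theorem common_of_mk_eq {n₁ n₂ : ICone}
    {σ₁ : F.obj (op n₁)} {σ₂ : F.obj (op n₂)} {v₁ : Orth n₁} {v₂ : Orth n₂}
    (h : P.mk σ₁ v₁ = P.mk σ₂ v₂) :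
    ∃ (k : ICone) (φ₁ : k ⟶ n₁) (φ₂ : k ⟶ n₂) (y : Orth k) (c₁ c₂ : ℝ),
      F.map φ₁.op σ₁ = F.map φ₂.op σ₂ ∧ 0 < c₁ ∧ 0 < c₂ ∧
        v₁.1 = c₁ • φ₁.realMap y.1 ∧ v₂.1 = c₂ • φ₂.realMap y.1 :=
  common_of_eq (p := ⟨⟨n₁, σ₁⟩, v₁⟩) (q := ⟨⟨n₂, σ₂⟩, v₂⟩) h

end Groth.Agent.H29.Fan
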