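import Mathlib
import Groth.Prelude.Def_W4c6instabfans3FanCvx
import Groth.Agent.Lib.helper29.Fan1

/-! Fan2 (helper29): fibre products of fans, sub-fans, ranges. -/

set_option autoImplicit false

universe u

namespace Groth.Agent.H29.Fan

open CategoryTheory Opposite Instab Instab.Fan Limits

section pb

variable {F F' G : Fan.{u}} (f : F ⟶ G) (g : F' ⟶ G)

/-- element of the fibre product of fans from a compatible pair -/
noncomputable def pbMk {k : ICone} (a : F.obj (op k)) (b : F'.obj (op k))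
    (h : f.app _ a = g.app _ b) : (pullback f g).obj (op k) :=
  uliftYonedaEquiv.{u} (pullback.lift (uliftYonedaEquiv.{u}.symm a) (uliftYonedaEquiv.{u}.symm b)
    (by rw [uliftYonedaEquiv_symm_comp, uliftYonedaEquiv_symm_comp, h]))

lemma pbMk_fst {k : ICone} (a : F.obj (op k)) (b : F'.obj (op k))
    (h : f.app _ a = g.app _ b) : (pullback.fst f g).app _ (pbMk f g a b h) = a := by
  rw [pbMk, ← uliftYonedaEquiv_comp, pullback.lift_fst, Equiv.apply_symm_apply]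

lemma pbMk_snd {k : ICone} (a : F.obj (op k)) (b : F'.obj (op k))
    (h : f.app _ a = g.app _ b) : (pullback.snd f g).app _ (pbMk f g a b h) = b := by
  rw [pbMk, ← uliftYonedaEquiv_comp, pullback.lift_snd, Equiv.apply_symm_apply]

lemma pb_condition {X : IConeᵒᵖ} (ζ : (pullback f g).obj X) :
    f.app _ ((pullback.fst f g).app _ ζ) = g.app _ ((pullback.snd f g).app _ ζ) := by
  rw [← NatTrans.comp_app_apply, ← NatTrans.comp_app_apply, pullback.condition]

lemma pb_ext {k : ICone} (ζ ζ' : (pullback f g).obj (op k))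
    (h1 : (pullback.fst f g).app _ ζ = (pullback.fst f g).app _ ζ')
    (h2 : (pullback.snd f g).app _ ζ = (pullback.snd f g).app _ ζ') : ζ = ζ' := by
  apply uliftYonedaEquiv.{u}.symm.injective
  apply pullback.hom_ext
  · rw [uliftYonedaEquiv_symm_comp, uliftYonedaEquiv_symm_comp, h1]
  · rw [uliftYonedaEquiv_symm_comp, uliftYonedaEquiv_symm_comp, h2]

end pb

variable {F : Fan.{u}}

lemma mem_range_map_ι (S : Subfunctor F) (x : P F) :
    x ∈ Set.range (P.map S.ι) ↔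
      ∃ (n : ICone) (ξ : F.obj (op n)) (v : Orth n), ξ ∈ S.obj (op n) ∧ x = P.mk ξ v := by
  constructor
  · rintro ⟨y, rfl⟩
    obtain ⟨n, ξ, v, rfl⟩ := mk_surj y
    exact ⟨n, ξ.1, v, ξ.2, rfl⟩
  · rintro ⟨n, ξ, v, hξ, rfl⟩
    exact ⟨P.mk (F := S.toFunctor) ⟨ξ, hξ⟩ v, rfl⟩

lemma mem_range_map {G : Fan.{u}} (f : F ⟶ G) (x : P G) :
    x ∈ Set.range (P.map f) ↔
      ∃ (n : ICone) (ξ : F.obj (op n)) (v : Orth n), x = P.mk (f.app _ ξ) v := by
  constructor
  · rintro ⟨y, rfl⟩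
    obtain ⟨n, ξ, v, rfl⟩ := mk_surj y
    exact ⟨n, ξ, v, rfl⟩
  · rintro ⟨n, ξ, v, rfl⟩
    exact ⟨P.mk ξ v, rfl⟩

theorem exists_pullback_lift {F F' G : Fan.{u}} (f : F ⟶ G) (g : F' ⟶ G)
    (x : Fan.P F) (x' : Fan.P F') (h : Fan.P.map f x = Fan.P.map g x') :
    ∃ y : Fan.P (Limits.pullback f g),
      Fan.P.map (Limits.pullback.fst f g) y = x ∧ Fan.P.map (Limits.pullback.snd f g) y = x' := by
  obtain ⟨n, ξ, v, rfl⟩ := mk_surj x
  obtain ⟨n', ξ', v', rfl⟩ := mk_surj x'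
  rw [map_mk, map_mk] at h
  obtain ⟨k, φ₁, φ₂, y, c₁, c₂, h1, h2, h3, h4, h5⟩ := common_of_mk_eq h
  rw [← NatTrans.naturality_apply, ← NatTrans.naturality_apply] at h1
  refine ⟨P.mk (pbMk f g _ _ h1) y, ?_, ?_⟩
  · rw [map_mk, pbMk_fst]
    exact mk_map_eq φ₁ ξ y v c₁ h2 h4
  · rw [map_mk, pbMk_snd]
    exact mk_map_eq φ₂ ξ' y v' c₂ h3 h5

end Groth.Agent.H29.Fan
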