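import Mathlib
import Groth.Prelude.Def_W4c6instabfans3FanCvx
import Groth.Agent.Lib.helper29.Fan2

/-! Fan3 (helper29): cone maps, bounded fans, quasi-separatedness. -/

set_option autoImplicit false

universe u

namespace Groth.Agent.H29.Fan

open CategoryTheory Opposite Instab Instab.Fan Limits

variable {F : Fan.{u}}

lemma coneMap_app {n k : ICone} (σ : F.obj (op n)) (φ : (uliftYoneda.{u}.obj n).obj (op k)) :
    (coneMap σ).app (op k) φ = F.map φ.down.op σ := by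
  simp [coneMap]

lemma coneMap_comp {G : Fan.{u}} {n : ICone} (σ : F.obj (op n)) (f : F ⟶ G) :
    coneMap σ ≫ f = coneMap (f.app _ σ) := uliftYonedaEquiv_symm_comp _ _

lemma yoneda_map_apply {n k k' : ICone} (φ : k' ⟶ k) (ψ : (uliftYoneda.{u}.obj n).obj (op k)) :
    (uliftYoneda.{u}.obj n).map φ.op ψ = ULift.up (φ ≫ ψ.down) := rfl

/-- the tautological cone of the representable fan -/
def yId (n : ICone) : (uliftYoneda.{u}.obj n).obj (op n) := ULift.up (𝟙 n)

lemma yoneda_mk_eq {n k : ICone} (φ : (uliftYoneda.{u}.obj n).obj (op k)) (v : Orth k) :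
    P.mk φ v = P.mk (yId.{u} n) (orthMap φ.down v) := by
  have h := mk_map (F := uliftYoneda.{u}.obj n) φ.down (yId.{u} n) v
  rw [yoneda_map_apply] at h
  rw [← h]
  congr 1

lemma isBounded_yoneda (n : ICone) : IsBounded (uliftYoneda.{u}.obj n) := by
  classical
  refine ⟨{⟨n, yId.{u} n⟩}, fun x => ?_⟩
  obtain ⟨k, φ, v, rfl⟩ := mk_surj x
  exact ⟨_, Finset.mem_singleton_self _, ⟨_, (yoneda_mk_eq φ v).symm⟩⟩

/-- points of the representable fan with the same ray -/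
lemma yoneda_mk_eq_iff {n k : ICone} (φ : (uliftYoneda.{u}.obj n).obj (op k)) (y : Orth k)
    (v : Orth n) : P.mk φ y = P.mk (yId.{u} n) v ↔ ∃ c : ℝ, 0 < c ∧ v.1 = c • φ.down.realMap y.1 := by
  constructor
  · intro h
    obtain ⟨k', χ₁, χ₂, y', c₁, c₂, h1, h2, h3, h4, h5⟩ := common_of_mk_eq h
    rw [yoneda_map_apply, yoneda_map_apply] at h1
    have h1' : χ₁ ≫ φ.down = χ₂ := by
      have := congrArg ULift.down h1
      simpa [yId] using this
    refine ⟨c₂ / c₁, div_pos h3 h2, ?_⟩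
    rw [h5, h4, ← h1', realMap_comp, realMap_smul, smul_smul, div_mul_cancel₀ _ h2.ne']
  · rintro ⟨c, hc, h⟩
    rw [yoneda_mk_eq]
    exact (mk_smul_eq _ _ _ c hc h)

lemma map_cell {G : Fan.{u}} (f : F ⟶ G) {n : ICone} (ξ : F.obj (op n)) (x : P F)
    (hx : x ∈ P.cell ξ) : P.map f x ∈ P.cell (f.app _ ξ) := by
  obtain ⟨v, rfl⟩ := hx
  exact ⟨v, rfl⟩

/-- a fan covered by the images of finitely many bounded fans is bounded -/
theorem isBounded_of_cover {H : Fan.{u}} {α : Type*} (s : Finset α) (Q : α → Fan.{u})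
    (Φ : ∀ i, Q i ⟶ H) (hQ : ∀ i ∈ s, IsBounded (Q i))
    (hcov : ∀ x : P H, ∃ i ∈ s, x ∈ Set.range (P.map (Φ i))) : IsBounded H := by
  classical
  have : ∀ i : α, ∃ t : Finset (Σ n : ICone, (Q i).obj (op n)), i ∈ s →
      ∀ x : P (Q i), ∃ e ∈ t, x ∈ P.cell e.2 := by
    intro i
    by_cases hi : i ∈ s
    · obtain ⟨t, ht⟩ := hQ i hi
      exact ⟨t, fun _ => ht⟩
    · exact ⟨∅, fun h => absurd h hi⟩
  choose t ht using this
  refine ⟨s.biUnion fun i => (t i).image fun e => ⟨e.1, (Φ i).app _ e.2⟩, fun x => ?_⟩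
  obtain ⟨i, hi, ⟨q, rfl⟩⟩ := hcov x
  obtain ⟨e, he, hq⟩ := ht i hi q
  refine ⟨⟨e.1, (Φ i).app _ e.2⟩, ?_, map_cell (Φ i) e.2 q hq⟩
  rw [Finset.mem_biUnion]
  exact ⟨i, hi, Finset.mem_image_of_mem _ he⟩

section basechange

variable {F' G : Fan.{u}} (f : F ⟶ G) (g : F' ⟶ G)

/-- base change of a cone of `F` to the fibre product -/
noncomputable def pbCone {m : ICone} (ξ : F.obj (op m)) :
    pullback (coneMap (f.app _ ξ)) g ⟶ pullback f g :=
  pullback.lift (pullback.fst _ _ ≫ coneMap ξ) (pullback.snd _ _)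
    (by rw [Category.assoc, coneMap_comp, pullback.condition])

lemma pbCone_fst {m : ICone} (ξ : F.obj (op m)) :
    pbCone f g ξ ≫ pullback.fst f g = pullback.fst _ _ ≫ coneMap ξ := pullback.lift_fst _ _ _

lemma pbCone_snd {m : ICone} (ξ : F.obj (op m)) :
    pbCone f g ξ ≫ pullback.snd f g = pullback.snd _ _ := pullback.lift_snd _ _ _

theorem mem_range_pbCone {m : ICone} (ξ : F.obj (op m)) (x : P (pullback f g))
    (hx : P.map (pullback.fst f g) x ∈ P.cell ξ) : x ∈ Set.range (P.map (pbCone f g ξ)) := by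
  obtain ⟨k, ζ, v, rfl⟩ := mk_surj x
  obtain ⟨w, hw⟩ := hx
  rw [map_mk] at hw
  obtain ⟨k', φ₁, φ₂, y, c₁, c₂, h1, h2, h3, h4, h5⟩ := common_of_mk_eq hw
  -- φ₁ : k' ⟶ m, φ₂ : k' ⟶ k, F(φ₁) ξ = F(φ₂) (fst ζ)
  have hcond : (coneMap (f.app _ ξ)).app (op k') (ULift.up φ₁) =
      g.app _ (F'.map φ₂.op ((pullback.snd f g).app _ ζ)) := by
    rw [coneMap_app, ← NatTrans.naturality_apply, h1, NatTrans.naturality_apply,
      NatTrans.naturality_apply, pb_condition]
  let η := pbMk (coneMap (f.app _ ξ)) g (ULift.up φ₁) _ hcond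
  have hη : (pbCone f g ξ).app _ η = (pullback f g).map φ₂.op ζ := by
    apply pb_ext
    · rw [← NatTrans.comp_app_apply, pbCone_fst, NatTrans.comp_app_apply, pbMk_fst, coneMap_app,
        NatTrans.naturality_apply, h1]
    · rw [← NatTrans.comp_app_apply, pbCone_snd, pbMk_snd, NatTrans.naturality_apply]
  refine ⟨P.mk η y, ?_⟩
  rw [map_mk, hη]
  exact mk_map_eq φ₂ ζ y v c₂ h3 h5

end basechange

/-- S19359 -/
theorem isQuasiSeparated_iff (G : Fan.{u}) :
    G.IsQuasiSeparated ↔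
      ∀ (F : Fan.{u}) (f : F ⟶ G), F.IsBounded → Fan.IsBoundedMap f := by
  constructor
  · intro hG F f hF n σ
    obtain ⟨s, hs⟩ := hF
    refine isBounded_of_cover s (fun e => pullback (coneMap (f.app _ e.2)) (coneMap σ))
      (fun e => pbCone f (coneMap σ) e.2) (fun e _ => hG _ _ _ _) (fun x => ?_)
    obtain ⟨e, he, hx⟩ := hs (P.map (pullback.fst f (coneMap σ)) x)
    exact ⟨e, he, mem_range_pbCone f (coneMap σ) e.2 x hx⟩
  · intro h n₀ n₁ σ₀ σ₁
    exact h _ (coneMap σ₀) (isBounded_yoneda n₀) n₁ σ₁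

/-- S19373 -/
theorem exists_finset_subcone_pairs (G : Fan.{u}) (hG : G.IsQuasiSeparated)
    {n n' : ICone} (ξ : G.obj (op n)) (ξ' : G.obj (op n')) :
    ∃ s : Finset (Σ k : ICone, (k ⟶ n) × (k ⟶ n')),
      (∀ e ∈ s, G.map e.2.1.op ξ = G.map e.2.2.op ξ') ∧
      ∀ (v : Fan.Orth n) (w : Fan.Orth n'), Fan.P.mk ξ v = Fan.P.mk ξ' w ↔
        ∃ e ∈ s, ∃ (y : Fan.Orth e.1) (c c' : ℝ), 0 < c ∧ 0 < c' ∧
          v.1 = c • e.2.1.realMap y.1 ∧ w.1 = c' • e.2.2.realMap y.1 := by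
  classical
  obtain ⟨t, ht⟩ := hG n n' ξ ξ'
  let Q := pullback (coneMap ξ) (coneMap ξ')
  let pr : (Σ k : ICone, Q.obj (op k)) → (Σ k : ICone, (k ⟶ n) × (k ⟶ n')) := fun e =>
    ⟨e.1, (((pullback.fst (coneMap ξ) (coneMap ξ')).app _ e.2).down,
      ((pullback.snd (coneMap ξ) (coneMap ξ')).app _ e.2).down)⟩
  have hpr : ∀ e, G.map (pr e).2.1.op ξ = G.map (pr e).2.2.op ξ' := by
    intro e
    have := pb_condition (coneMap ξ) (coneMap ξ') e.2
    rw [coneMap_app, coneMap_app] at this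
    exact this
  refine ⟨t.image pr, ?_, ?_⟩
  · intro e he
    obtain ⟨e', _, rfl⟩ := Finset.mem_image.mp he
    exact hpr e'
  · intro v w
    constructor
    · intro h
      obtain ⟨k₀, φ₁, φ₂, y₀, c₁, c₂, h1, h2, h3, h4, h5⟩ := common_of_mk_eq h
      have hcond : (coneMap ξ).app (op k₀) (ULift.up φ₁) = (coneMap ξ').app (op k₀) (ULift.up φ₂) := by
        rw [coneMap_app, coneMap_app]; exact h1
      let η := pbMk (coneMap ξ) (coneMap ξ') (ULift.up φ₁) (ULift.up φ₂) hcond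
      obtain ⟨e, he, ⟨y₁, hy₁⟩⟩ := ht (P.mk η y₀)
      obtain ⟨k₂, χ₁, χ₂, y₂, d₁, d₂, g1, g2, g3, g4, g5⟩ := common_of_mk_eq hy₁
      -- χ₁ : k₂ ⟶ e.1, χ₂ : k₂ ⟶ k₀, Q(χ₁) e.2 = Q(χ₂) η
      have e1 : χ₁ ≫ (pr e).2.1 = χ₂ ≫ φ₁ := by
        have := congrArg (fun z => ((pullback.fst (coneMap ξ) (coneMap ξ')).app _ z).down) g1
        simp only [NatTrans.naturality_apply, yoneda_map_apply] at this
        rw [pbMk_fst] at this
        exact this
      have e2 : χ₁ ≫ (pr e).2.2 = χ₂ ≫ φ₂ := by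
        have := congrArg (fun z => ((pullback.snd (coneMap ξ) (coneMap ξ')).app _ z).down) g1
        simp only [NatTrans.naturality_apply, yoneda_map_apply] at this
        rw [pbMk_snd] at this
        exact this
      refine ⟨pr e, Finset.mem_image_of_mem _ he, y₁, c₁ * d₂ / d₁, c₂ * d₂ / d₁,
        div_pos (mul_pos h2 g3) g2, div_pos (mul_pos h3 g3) g2, ?_, ?_⟩
      · rw [h4, g5, g4, realMap_smul, realMap_smul, ← realMap_comp, ← realMap_comp, e1]
        simp only [smul_smul]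
        congr 1
        field_simp
      · rw [h5, g5, g4, realMap_smul, realMap_smul, ← realMap_comp, ← realMap_comp, e2]
        simp only [smul_smul]
        congr 1
        field_simp
    · rintro ⟨e, he, y, c, c', hc, hc', hv, hw⟩
      obtain ⟨e', _, rfl⟩ := Finset.mem_image.mp he
      rw [← mk_map_eq _ ξ y v c hc hv, ← mk_map_eq _ ξ' y w c' hc' hw, hpr e']

end Groth.Agent.H29.Fan
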