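import Mathlib
import Groth.Prelude.Def_W4c6instabfans3FanCvx
import Groth.Agent.Lib.helper29.Fan3

/-! Fan4 (helper29): topology of the projective realization. -/

set_option autoImplicit false

universe u

namespace Groth.Agent.H29.Fan

open CategoryTheory Opposite Instab Instab.Fan Limits Filter Topology

lemma realMap_eq_zero {k n : ICone} (φ : k ⟶ n) (x : Fin k.dim → ℝ) (h : φ.realMap x = 0) :
    x = 0 := by
  let a : Fin n.dim → Fin k.dim → ℤ := fun j i => φ.toLin (Pi.single i 1) j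
  have hx : Fan0.IsKerR a x := fun j => by
    have := congrFun h j
    rw [realMap_apply] at this
    exact this
  obtain ⟨r, b, z, hz, _, hsum⟩ := Fan0.exists_int_decomp a x hx
  have hz0 : ∀ l, z l = 0 := by
    intro l
    apply φ.injective
    rw [map_zero]
    funext j
    rw [toLin_apply]
    exact hz l j
  funext i
  rw [hsum i]
  simp [hz0]

/-- the real-linear map of a cone morphism -/
def realLin {k n : ICone} (φ : k ⟶ n) : (Fin k.dim → ℝ) →ₗ[ℝ] (Fin n.dim → ℝ) where
  toFun := φ.realMap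
  map_add' := realMap_add φ
  map_smul' := realMap_smul φ

@[simp] lemma realLin_apply {k n : ICone} (φ : k ⟶ n) (v : Fin k.dim → ℝ) :
    realLin φ v = φ.realMap v := rfl

lemma realLin_ker {k n : ICone} (φ : k ⟶ n) : LinearMap.ker (realLin φ) = ⊥ := by
  rw [LinearMap.ker_eq_bot']
  intro x hx
  exact realMap_eq_zero φ x hx

lemma realMap_injective {k n : ICone} (φ : k ⟶ n) : Function.Injective φ.realMap :=
  LinearMap.ker_eq_bot.mp (realLin_ker φ)

lemma isClosedEmbedding_realMap {k n : ICone} (φ : k ⟶ n) :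
    IsClosedEmbedding φ.realMap :=
  LinearMap.isClosedEmbedding_of_injective (realLin_ker φ)

variable {F : Fan.{u}}

lemma continuous_mk {n : ICone} (ξ : F.obj (op n)) : Continuous (P.mk ξ : Orth n → P F) :=
  continuous_quot_mk.comp (continuous_sigmaMk (σ := fun e : (Σ n : ICone, F.obj (op n)) => Orth e.1)
    (i := ⟨n, ξ⟩))

lemma isClosed_iff (S : Set (P F)) :
    IsClosed S ↔ ∀ (n : ICone) (ξ : F.obj (op n)), IsClosed (P.mk ξ ⁻¹' S) := by
  have h1 : IsClosed S ↔ IsClosed ((Quot.mk (Rel F)) ⁻¹' S) :=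
    ((isQuotientMap_quot_mk (r := Rel F)).isClosed_preimage (s := S)).symm
  refine h1.trans ?_
  constructor
  · intro h n ξ
    exact (isClosed_sigma_iff (σ := fun e : (Σ n : ICone, F.obj (op n)) => Orth e.1)).mp h ⟨n, ξ⟩
  · intro h
    exact (isClosed_sigma_iff (σ := fun e : (Σ n : ICone, F.obj (op n)) => Orth e.1)).mpr
      (fun e => h e.1 e.2)

lemma continuous_map {G : Fan.{u}} (f : F ⟶ G) : Continuous (P.map f) := by
  refine (isQuotientMap_quot_mk (r := Rel F)).continuous_iff.mpr ?_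
  have hg : Continuous (fun p : Pt F => (⟨⟨p.1.1, f.app _ p.1.2⟩, p.2⟩ : Pt G)) := by
    refine continuous_sigma (σ := fun e : (Σ n : ICone, F.obj (op n)) => Orth e.1) ?_
    rintro ⟨n, ξ⟩
    exact continuous_sigmaMk (σ := fun e : (Σ n : ICone, G.obj (op n)) => Orth e.1)
      (i := ⟨n, f.app _ ξ⟩)
  exact (continuous_quot_mk (r := Rel G)).comp hg

lemma continuous_orth_val (n : ICone) : Continuous (fun v : Orth n => v.1) :=
  continuous_subtype_val

/-- the cone over the image of a closed cone-stable set is closed -/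
theorem isClosed_coneImage {k n : ICone} (φ : k ⟶ n) (C : Set (Orth k)) (hC : IsClosed C)
    (hcone : ∀ v w : Orth k, v ∈ C → ∀ c : ℝ, 0 < c → w.1 = c • v.1 → w ∈ C) :
    IsClosed {v : Orth n | ∃ w ∈ C, ∃ c : ℝ, 0 < c ∧ v.1 = c • φ.realMap w.1} := by
  obtain ⟨Z, hZ, hZC⟩ := isClosed_induced_iff.mp hC
  have hval : (fun v : Orth k => v.1) '' C ⊆ Z := by
    rintro _ ⟨v, hv, rfl⟩
    rw [← hZC] at hv
    exact hv
  have horth : IsClosed {u : Fin k.dim → ℝ | ∀ i, 0 ≤ u i} := by
    have : {u : Fin k.dim → ℝ | ∀ i, 0 ≤ u i} = ⋂ i, {u | 0 ≤ u i} := by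
      ext u; simp
    rw [this]
    exact isClosed_iInter fun i => isClosed_le continuous_const (continuous_apply i)
  have hval2 : (fun v : Orth k => v.1) '' C ⊆ {u : Fin k.dim → ℝ | ∀ i, 0 ≤ u i} := by
    rintro _ ⟨v, _, rfl⟩
    exact v.2.1
  have hT : {v : Orth n | ∃ w ∈ C, ∃ c : ℝ, 0 < c ∧ v.1 = c • φ.realMap w.1} =
      (fun v : Orth n => v.1) ⁻¹' (φ.realMap '' closure ((fun v : Orth k => v.1) '' C)) := by
    ext v
    constructor
    · rintro ⟨w, hw, c, hc, hv⟩
      refine ⟨c • w.1, subset_closure ⟨orthSmul c hc w, hcone w _ hw c hc rfl, rfl⟩, ?_⟩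
      rw [realMap_smul]; exact hv.symm
    · rintro ⟨u, hu, huv⟩
      have hu0 : ∀ i, 0 ≤ u i := closure_minimal hval2 horth hu
      have hune : u ≠ 0 := by
        rintro rfl
        apply v.2.2
        have : φ.realMap 0 = 0 := (realLin φ).map_zero
        exact huv.symm.trans this
      have huZ : u ∈ Z := closure_minimal hval hZ hu
      refine ⟨⟨u, hu0, hune⟩, ?_, 1, one_pos, ?_⟩
      · rw [← hZC]; exact huZ
      · simp only [one_smul]; exact huv.symm
  rw [hT]
  exact ((isClosedEmbedding_realMap φ).isClosedMap _ isClosed_closure).preimage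
    (continuous_orth_val n)

/-- integer points of the punctured orthant -/
def intPt {n : ICone} (r : Fin n.dim → ℤ) (hr : ∀ i, 0 ≤ r i) (hr0 : r ≠ 0) : Orth n :=
  ⟨fun i => (r i : ℝ), fun i => by
    show (0 : ℝ) ≤ (r i : ℝ)
    exact_mod_cast hr i, fun h => hr0 (by
    funext i
    have := congrFun h i
    simpa using this)⟩

/-- the ray morphism `[1] ⟶ [n]` of a nonzero nonnegative integer vector -/
def rayHom {n : ICone} (r : Fin n.dim → ℤ) (hr : ∀ i, 0 ≤ r i) (hr0 : r ≠ 0) : Fan.one ⟶ n where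
  toLin :=
    { toFun := fun a j => a ⟨0, Fan.one.dim.pos⟩ * r j
      map_add' := fun a b => by
        funext j
        show (a + b) ⟨0, Fan.one.dim.pos⟩ * r j = a ⟨0, Fan.one.dim.pos⟩ * r j + b ⟨0, Fan.one.dim.pos⟩ * r j
        rw [Pi.add_apply, add_mul]
      map_smul' := fun t a => by
        funext j
        show (t • a) ⟨0, Fan.one.dim.pos⟩ * r j = t * (a ⟨0, Fan.one.dim.pos⟩ * r j)
        rw [Pi.smul_apply, smul_eq_mul, mul_assoc] }
  injective := by
    intro a b hab
    obtain ⟨i, hi⟩ := Function.ne_iff.mp hr0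
    have h1 := congrFun hab i
    simp only [LinearMap.coe_mk, AddHom.coe_mk, Pi.zero_apply] at h1 hi
    have h2 := mul_right_cancel₀ hi h1
    funext j
    haveI : Subsingleton (Fin Fan.one.dim) := (inferInstance : Subsingleton (Fin 1))
    have : j = ⟨0, Fan.one.dim.pos⟩ := Subsingleton.elim _ _
    rw [this]; exact h2
  nonneg := by
    intro v hv j
    exact mul_nonneg (hv _) (hr j)

lemma orthMap_rayHom {n : ICone} (r : Fin n.dim → ℤ) (hr : ∀ i, 0 ≤ r i) (hr0 : r ≠ 0) :
    orthMap (rayHom r hr hr0) (Orth.ones Fan.one) = intPt r hr hr0 := by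
  apply Subtype.ext
  funext j
  show (rayHom r hr hr0).realMap (Orth.ones Fan.one).1 j = (r j : ℝ)
  rw [realMap_apply]
  haveI : Subsingleton (Fin Fan.one.dim) := (inferInstance : Subsingleton (Fin 1))
  have : ∀ i : Fin Fan.one.dim, (rayHom r hr hr0).toLin (Pi.single i 1) j = r j := by
    intro i
    have hi : i = ⟨0, Fan.one.dim.pos⟩ := Subsingleton.elim _ _
    subst hi
    show (Pi.single (⟨0, Fan.one.dim.pos⟩ : Fin Fan.one.dim) (1 : ℤ) : Fin Fan.one.dim → ℤ)
      ⟨0, Fan.one.dim.pos⟩ * r j = r j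
    rw [Pi.single_eq_same, one_mul]
  simp only [this, Orth.ones, mul_one]
  rw [Finset.sum_const, Finset.card_univ]
  simp

lemma mk_intPt {n : ICone} (ξ : F.obj (op n)) (r : Fin n.dim → ℤ) (hr : ∀ i, 0 ≤ r i)
    (hr0 : r ≠ 0) :
    P.mk ξ (intPt r hr hr0) = P.mk (F.map (rayHom r hr hr0).op ξ) (Orth.ones Fan.one) := by
  rw [mk_map, orthMap_rayHom]

lemma isRational_mk_intPt {n : ICone} (ξ : F.obj (op n)) (r : Fin n.dim → ℤ) (hr : ∀ i, 0 ≤ r i)
    (hr0 : r ≠ 0) : (P.mk ξ (intPt r hr hr0)).IsRational :=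
  ⟨_, mk_intPt ξ r hr hr0⟩

/-- a closed cone-stable subset of the punctured orthant containing all integer points is
everything -/
theorem eq_univ_of_intPt {n : ICone} (E : Set (Orth n)) (hE : IsClosed E)
    (hcone : ∀ v w : Orth n, v ∈ E → ∀ c : ℝ, 0 < c → w.1 = c • v.1 → w ∈ E)
    (hint : ∀ (r : Fin n.dim → ℤ) (hr : ∀ i, 0 ≤ r i) (hr0 : r ≠ 0), intPt r hr hr0 ∈ E)
    (v : Orth n) : v ∈ E := by
  have hpos : ∀ m : ℕ, (0 : ℝ) < (m : ℝ) + 1 := fun m => by positivity
  let r : ℕ → Fin n.dim → ℤ := fun m i => ⌊((m : ℝ) + 1) * v.1 i⌋ + 1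
  have hrpos : ∀ m i, 0 < r m i := by
    intro m i
    have : 0 ≤ ⌊((m : ℝ) + 1) * v.1 i⌋ := Int.floor_nonneg.mpr (mul_nonneg (hpos m).le (v.2.1 i))
    simp only [r]; omega
  have hr0 : ∀ m, r m ≠ 0 := by
    intro m h
    have := congrFun h ⟨0, n.dim.pos⟩
    have := hrpos m ⟨0, n.dim.pos⟩
    simp_all
  let u : ℕ → Orth n := fun m =>
    orthSmul (1 / ((m : ℝ) + 1)) (by have := hpos m; positivity)
      (intPt (r m) (fun i => (hrpos m i).le) (hr0 m))
  have huE : ∀ m, u m ∈ E := fun m =>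
    hcone _ _ (hint (r m) (fun i => (hrpos m i).le) (hr0 m)) _ (by have := hpos m; positivity) rfl
  have hlim : Tendsto u atTop (𝓝 v) := by
    refine tendsto_subtype_rng.mpr ?_
    refine tendsto_pi_nhds.mpr ?_
    intro i
    show Tendsto (fun m => (u m).1 i) atTop (𝓝 (v.1 i))
    have hui : ∀ m, (u m).1 i = ((⌊((m : ℝ) + 1) * v.1 i⌋ + 1 : ℤ) : ℝ) / ((m : ℝ) + 1) := by
      intro m
      simp only [u, orthSmul_val, intPt, Pi.smul_apply, smul_eq_mul, r]
      rw [one_div, inv_mul_eq_div]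
    have hlow : ∀ m, v.1 i ≤ (u m).1 i := by
      intro m
      rw [hui, le_div_iff₀ (hpos m)]
      have := Int.lt_floor_add_one (((m : ℝ) + 1) * v.1 i)
      push_cast
      linarith
    have hhigh : ∀ m, (u m).1 i ≤ v.1 i + 1 / ((m : ℝ) + 1) := by
      intro m
      rw [hui, div_le_iff₀ (hpos m)]
      have := Int.floor_le (((m : ℝ) + 1) * v.1 i)
      push_cast
      have h1 : (v.1 i + 1 / ((m : ℝ) + 1)) * ((m : ℝ) + 1) = ((m : ℝ) + 1) * v.1 i + 1 := by
        have := (hpos m).ne'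
        field_simp
      rw [h1]
      linarith
    have hlim2 : Tendsto (fun m : ℕ => v.1 i + 1 / ((m : ℝ) + 1)) atTop (𝓝 (v.1 i)) := by
      have := (tendsto_const_nhds (x := v.1 i)).add tendsto_one_div_add_atTop_nhds_zero_nat
      simpa using this
    exact tendsto_of_tendsto_of_tendsto_of_le_of_le tendsto_const_nhds hlim2 hlow hhigh
  exact hE.mem_of_tendsto hlim (Eventually.of_forall huE)

end Groth.Agent.H29.Fan
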