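import Mathlib
import Groth.Prelude.Def_W4c6instabfans3FanCvx
import Groth.Agent.Lib.helper29.Fan4
import Groth.Agent.Lib.helper8.Farkas

/-! Fan10a (helper29): real extension of integer linear maps, general fibre lemma,
conic Carathéodory, Farkas separation from finitely generated cones. -/

set_option autoImplicit false

universe u

namespace Groth.Agent.H29.Fan

open CategoryTheory Opposite Instab Instab.Fan Limits Filter Topology

/-- the real-linear extension of an integer linear map, by its matrix -/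
def linReal {k N : ℕ} (f : (Fin k → ℤ) →ₗ[ℤ] (Fin N → ℤ)) : (Fin k → ℝ) →ₗ[ℝ] (Fin N → ℝ) where
  toFun v j := ∑ i, (f (Pi.single i 1) j : ℝ) * v i
  map_add' v w := by
    funext j
    simp only [Pi.add_apply, mul_add, Finset.sum_add_distrib]
  map_smul' c v := by
    funext j
    simp only [Pi.smul_apply, smul_eq_mul, RingHom.id_apply, Finset.mul_sum]
    refine Finset.sum_congr rfl fun i _ => by ring

lemma linReal_apply {k N : ℕ} (f : (Fin k → ℤ) →ₗ[ℤ] (Fin N → ℤ)) (v : Fin k → ℝ) (j : Fin N) :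
    linReal f v j = ∑ i, (f (Pi.single i 1) j : ℝ) * v i := rfl

lemma realMap_eq_linReal {k n : ICone} (φ : k ⟶ n) (v : Fin k.dim → ℝ) :
    φ.realMap v = linReal φ.toLin v := rfl

lemma toVec_eq_linReal {N : ℕ} {ι : Type} (K : ι → Set (Fin N → ℝ)) (n : ICone)
    (φ : RFan.Cone K n) (v : Fin n.dim → ℝ) : RFan.toVec K n φ v = linReal φ.1 v := rfl

lemma linReal_comp {k m N : ℕ} (f : (Fin k → ℤ) →ₗ[ℤ] (Fin m → ℤ))
    (g : (Fin m → ℤ) →ₗ[ℤ] (Fin N → ℤ)) (v : Fin k → ℝ) :
    linReal (g.comp f) v = linReal g (linReal f v) := by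
  funext j
  simp only [linReal_apply, LinearMap.comp_apply]
  simp only [Finset.mul_sum]
  rw [Finset.sum_comm]
  refine Finset.sum_congr rfl fun i _ => ?_
  rw [lin_apply g (f (Pi.single i 1)) j]
  push_cast
  rw [Finset.sum_mul]
  refine Finset.sum_congr rfl fun l _ => by ring

lemma linReal_intCast {k N : ℕ} (f : (Fin k → ℤ) →ₗ[ℤ] (Fin N → ℤ)) (r : Fin k → ℤ) (j : Fin N) :
    linReal f (fun i => (r i : ℝ)) j = (f r j : ℝ) := by
  rw [linReal_apply, lin_apply f r j]
  push_cast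
  rfl

lemma linReal_eq_zero {k N : ℕ} (f : (Fin k → ℤ) →ₗ[ℤ] (Fin N → ℤ)) (hf : Function.Injective f)
    (x : Fin k → ℝ) (h : linReal f x = 0) : x = 0 := by
  let a : Fin N → Fin k → ℤ := fun j i => f (Pi.single i 1) j
  have hx : Fan0.IsKerR a x := fun j => by
    have := congrFun h j
    rw [linReal_apply] at this
    exact this
  obtain ⟨r, b, z, hz, _, hsum⟩ := Fan0.exists_int_decomp a x hx
  have hz0 : ∀ l, z l = 0 := by
    intro l
    apply hf
    rw [map_zero]
    funext j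
    rw [lin_apply]
    exact hz l j
  funext i
  rw [hsum i]
  simp [hz0]

lemma linReal_injective {k N : ℕ} (f : (Fin k → ℤ) →ₗ[ℤ] (Fin N → ℤ))
    (hf : Function.Injective f) : Function.Injective (linReal f) := by
  rw [← LinearMap.ker_eq_bot, LinearMap.ker_eq_bot']
  exact fun x hx => linReal_eq_zero f hf x hx

lemma linReal_ker {k N : ℕ} (f : (Fin k → ℤ) →ₗ[ℤ] (Fin N → ℤ))
    (hf : Function.Injective f) : LinearMap.ker (linReal f) = ⊥ :=
  LinearMap.ker_eq_bot.mpr (linReal_injective f hf)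

/-- the fibre product lemma for injective integer linear maps -/
theorem exists_fibre' {k₁ k₂ : ICone} {N : ℕ} (f₁ : (Fin k₁.dim → ℤ) →ₗ[ℤ] (Fin N → ℤ))
    (f₂ : (Fin k₂.dim → ℤ) →ₗ[ℤ] (Fin N → ℤ)) (hf₁ : Function.Injective f₁)
    (hf₂ : Function.Injective f₂) (y₁ : Orth k₁) (y₂ : Orth k₂)
    (h : linReal f₁ y₁.1 = linReal f₂ y₂.1) :
    ∃ (k : ICone) (ψ₁ : k ⟶ k₁) (ψ₂ : k ⟶ k₂) (y : Orth k),
      f₁.comp ψ₁.toLin = f₂.comp ψ₂.toLin ∧
      y₁.1 = ψ₁.realMap y.1 ∧ y₂.1 = ψ₂.realMap y.1 := by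
  classical
  let a : Fin N → (Fin k₁.dim ⊕ Fin k₂.dim) → ℤ := fun j =>
    Sum.elim (fun i => f₁ (Pi.single i 1) j) (fun i => - f₂ (Pi.single i 1) j)
  let x : (Fin k₁.dim ⊕ Fin k₂.dim) → ℝ := Sum.elim y₁.1 y₂.1
  have hx : Fan0.IsKerR a x := by
    intro j
    rw [Fintype.sum_sum_type]
    simp only [a, x, Sum.elim_inl, Sum.elim_inr]
    have := congrFun h j
    rw [linReal_apply, linReal_apply] at this
    push_cast
    simp only [neg_mul, Finset.sum_neg_distrib]
    linarith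
  have hx0 : ∀ i, 0 ≤ x i := by
    rintro (i | i)
    · exact y₁.2.1 i
    · exact y₂.2.1 i
  obtain ⟨r, z, c, hzk, hz0, hzs, hc, hsum, hind⟩ := Fan0.exists_cone_decomp a x hx hx0
  have hr : 0 < r := by
    rcases Nat.eq_zero_or_pos r with h0 | h0
    · subst h0
      exfalso
      apply y₁.2.2
      funext i
      have := hsum (Sum.inl i)
      simpa [x] using this
    · exact h0
  let L₁ : (Fin r → ℤ) →ₗ[ℤ] (Fin k₁.dim → ℤ) :=
    { toFun := fun e i => ∑ l, e l * z l (Sum.inl i)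
      map_add' := fun e e' => by funext i; simp [add_mul, Finset.sum_add_distrib]
      map_smul' := fun t e => by funext i; simp [Finset.mul_sum, mul_assoc] }
  let L₂ : (Fin r → ℤ) →ₗ[ℤ] (Fin k₂.dim → ℤ) :=
    { toFun := fun e i => ∑ l, e l * z l (Sum.inr i)
      map_add' := fun e e' => by funext i; simp [add_mul, Finset.sum_add_distrib]
      map_smul' := fun t e => by funext i; simp [Finset.mul_sum, mul_assoc] }
  have hL : ∀ e, f₁ (L₁ e) = f₂ (L₂ e) := by
    intro e
    funext j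
    rw [lin_apply f₁, lin_apply f₂]
    have h1 : ∀ l, ∑ i, f₁ (Pi.single i 1) j * z l (Sum.inl i) =
        ∑ i, f₂ (Pi.single i 1) j * z l (Sum.inr i) := by
      intro l
      have := hzk l j
      rw [Fintype.sum_sum_type] at this
      simp only [a, Sum.elim_inl, Sum.elim_inr, neg_mul, Finset.sum_neg_distrib] at this
      linarith
    simp only [L₁, L₂, LinearMap.coe_mk, AddHom.coe_mk, Finset.mul_sum]
    rw [Finset.sum_comm]
    conv_rhs => rw [Finset.sum_comm]
    refine Finset.sum_congr rfl fun l _ => ?_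
    have := congrArg (fun t => e l * t) (h1 l)
    simp only [Finset.mul_sum] at this
    convert this using 2 <;> ring
  have hzero : ∀ e, L₁ e = 0 → L₂ e = 0 → e = 0 := by
    intro e h1 h2
    apply hind
    rintro (i | i)
    · exact congrFun h1 i
    · exact congrFun h2 i
  have hinj₁ : Function.Injective L₁ := by
    rw [injective_iff_map_eq_zero]
    intro e he
    apply hzero e he
    apply hf₂
    rw [← hL, he, map_zero, map_zero]
  have hinj₂ : Function.Injective L₂ := by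
    rw [injective_iff_map_eq_zero]
    intro e he
    refine hzero e ?_ he
    apply hf₁
    rw [hL, he, map_zero, map_zero]
  let k : ICone := ⟨⟨r, hr⟩⟩
  let ψ₁ : k ⟶ k₁ := ⟨L₁, hinj₁, fun e he i =>
    show 0 ≤ ∑ l, e l * z l (Sum.inl i) from
    Finset.sum_nonneg fun l _ => mul_nonneg (he l) (hz0 l _)⟩
  let ψ₂ : k ⟶ k₂ := ⟨L₂, hinj₂, fun e he i =>
    show 0 ≤ ∑ l, e l * z l (Sum.inr i) from
    Finset.sum_nonneg fun l _ => mul_nonneg (he l) (hz0 l _)⟩
  have hc0 : (c : Fin k.dim → ℝ) ≠ 0 := by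
    intro h0
    have := hc ⟨0, hr⟩
    have h1 := congrFun h0 ⟨0, hr⟩
    simp only [Pi.zero_apply] at h1
    linarith
  refine ⟨k, ψ₁, ψ₂, ⟨c, fun l => (hc l).le, hc0⟩, ?_, ?_, ?_⟩
  · apply LinearMap.ext
    intro e
    exact hL e
  · funext i
    have := hsum (Sum.inl i)
    simp only [x, Sum.elim_inl] at this
    rw [this, realMap_apply]
    refine Finset.sum_congr rfl fun l _ => ?_
    have : ψ₁.toLin (Pi.single l 1) i = z l (Sum.inl i) := by
      show ∑ l', (Pi.single l 1 : Fin r → ℤ) l' * z l' (Sum.inl i) = _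
      simp [Pi.single_apply]
    rw [this]; ring
  · funext i
    have := hsum (Sum.inr i)
    simp only [x, Sum.elim_inr] at this
    rw [this, realMap_apply]
    refine Finset.sum_congr rfl fun l _ => ?_
    have : ψ₂.toLin (Pi.single l 1) i = z l (Sum.inr i) := by
      show ∑ l', (Pi.single l 1 : Fin r → ℤ) l' * z l' (Sum.inr i) = _
      simp [Pi.single_apply]
    rw [this]; ring

/-- the real vector of an integer vector -/
def iv {N : ℕ} (g : Fin N → ℤ) : Fin N → ℝ := fun j => (g j : ℝ)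

/-- the cone generated by a finite set of integer vectors -/
def fgCone {N : ℕ} (G : Finset (Fin N → ℤ)) : Set (Fin N → ℝ) :=
  {x | ∃ c : (Fin N → ℤ) → ℝ, (∀ g, 0 ≤ c g) ∧ x = ∑ g ∈ G, c g • iv g}

/-- Farkas separation from a finitely generated cone -/
theorem exists_sep {N : ℕ} (G : Finset (Fin N → ℤ)) (x : Fin N → ℝ) (hx : x ∉ fgCone G) :
    ∃ f : (Fin N → ℝ) →ₗ[ℝ] ℝ, (∀ g ∈ G, f (iv g) ≤ 0) ∧ 0 < f x := by
  by_contra hno
  push Not at hno
  apply hx
  let V := Fin N → ℝ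
  obtain ⟨c, hc, hγ⟩ := H8.Farkas.farkas (K := ℝ) (W := Module.Dual ℝ V) G
    (fun g => Module.Dual.eval ℝ V (iv g)) (Module.Dual.eval ℝ V x)
    (fun f hf => hno f hf)
  refine ⟨c, hc, ?_⟩
  funext j
  have := hγ (LinearMap.proj j)
  simp only [Module.Dual.eval_apply] at this
  have h2 : x j = ∑ g ∈ G, c g * iv g j := this
  rw [h2, Finset.sum_apply]
  refine Finset.sum_congr rfl fun g _ => ?_
  simp

/-- conic Carathéodory: positive combination of a linearly independent subset -/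
theorem exists_indep_subset {N : ℕ} (G : Finset (Fin N → ℤ)) (x : Fin N → ℝ) (hx : x ∈ fgCone G) :
    ∃ (T : Finset (Fin N → ℤ)) (c : (Fin N → ℤ) → ℝ), T ⊆ G ∧ (∀ g ∈ T, 0 < c g) ∧
      x = ∑ g ∈ T, c g • iv g ∧
      ∀ d : (Fin N → ℤ) → ℝ, (∑ g ∈ T, d g • iv g) = 0 → ∀ g ∈ T, d g = 0 := by
  classical
  -- the set of cardinalities of admissible subsets
  let Adm : Finset (Fin N → ℤ) → Prop := fun T =>
    T ⊆ G ∧ ∃ c : (Fin N → ℤ) → ℝ, (∀ g ∈ T, 0 < c g) ∧ x = ∑ g ∈ T, c g • iv g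
  have hex : ∃ m : ℕ, ∃ T, Adm T ∧ T.card = m := by
    obtain ⟨c, hc, hxc⟩ := hx
    refine ⟨_, G.filter (fun g => 0 < c g), ⟨Finset.filter_subset _ _, c, ?_, ?_⟩, rfl⟩
    · intro g hg
      exact (Finset.mem_filter.mp hg).2
    · rw [hxc, Finset.sum_filter]
      refine Finset.sum_congr rfl fun g _ => ?_
      split_ifs with h
      · rfl
      · have : c g = 0 := le_antisymm (not_lt.mp h) (hc g)
        rw [this, zero_smul]
  obtain ⟨T, ⟨hTG, c, hcpos, hxc⟩, hTcard⟩ := Nat.find_spec hex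
  have hmin : ∀ T', Adm T' → T.card ≤ T'.card := by
    intro T' hT'
    rw [hTcard]
    exact Nat.find_min' hex ⟨T', hT', rfl⟩
  refine ⟨T, c, hTG, hcpos, hxc, ?_⟩
  by_contra hdep
  push Not at hdep
  obtain ⟨d, hd0, g₁, hg₁T, hg₁⟩ := hdep
  -- wlog some d g > 0
  have hpos : ∃ d : (Fin N → ℤ) → ℝ, (∑ g ∈ T, d g • iv g) = 0 ∧ ∃ g ∈ T, 0 < d g := by
    rcases lt_or_gt_of_ne hg₁ with h | h
    · refine ⟨fun g => - d g, ?_, g₁, hg₁T, by simpa using h⟩
      simp only [neg_smul, Finset.sum_neg_distrib, hd0, neg_zero]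
    · exact ⟨d, hd0, g₁, hg₁T, h⟩
  obtain ⟨d, hd0, g₂, hg₂T, hg₂⟩ := hpos
  let Tp := T.filter (fun g => 0 < d g)
  have hTpne : Tp.Nonempty := ⟨g₂, Finset.mem_filter.mpr ⟨hg₂T, hg₂⟩⟩
  obtain ⟨g₀, hg₀Tp, hg₀min⟩ := Finset.exists_min_image Tp (fun g => c g / d g) hTpne
  have hg₀T : g₀ ∈ T := (Finset.mem_filter.mp hg₀Tp).1
  have hdg₀ : 0 < d g₀ := (Finset.mem_filter.mp hg₀Tp).2
  set t := c g₀ / d g₀ with ht
  have htpos : 0 < t := div_pos (hcpos g₀ hg₀T) hdg₀
  let c' : (Fin N → ℤ) → ℝ := fun g => c g - t * d g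
  have hc'0 : ∀ g ∈ T, 0 ≤ c' g := by
    intro g hg
    by_cases hdg : 0 < d g
    · have h1 := hg₀min g (Finset.mem_filter.mpr ⟨hg, hdg⟩)
      have h2 : t * d g ≤ c g := (le_div_iff₀ hdg).mp h1
      simp only [c']; linarith
    · have h1 : t * d g ≤ 0 := mul_nonpos_of_nonneg_of_nonpos htpos.le (not_lt.mp hdg)
      have := hcpos g hg
      simp only [c']; linarith
  have hc'g₀ : c' g₀ = 0 := by
    simp only [c', ht]
    field_simp
    ring
  have hxc' : x = ∑ g ∈ T, c' g • iv g := by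
    have : ∑ g ∈ T, c' g • iv g = ∑ g ∈ T, c g • iv g - t • ∑ g ∈ T, d g • iv g := by
      rw [Finset.smul_sum, ← Finset.sum_sub_distrib]
      refine Finset.sum_congr rfl fun g _ => ?_
      simp only [c', sub_smul, mul_smul]
    rw [this, hd0, smul_zero, sub_zero, hxc]
  let T' := T.filter (fun g => 0 < c' g)
  have hT'adm : Adm T' := by
    refine ⟨(Finset.filter_subset _ _).trans hTG, c', fun g hg => (Finset.mem_filter.mp hg).2, ?_⟩
    rw [hxc', Finset.sum_filter]
    refine Finset.sum_congr rfl fun g hg => ?_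
    split_ifs with h
    · rfl
    · have : c' g = 0 := le_antisymm (not_lt.mp h) (hc'0 g hg)
      rw [this, zero_smul]
  have hlt : T'.card < T.card := by
    apply Finset.card_lt_card
    refine ⟨Finset.filter_subset _ _, fun hsub => ?_⟩
    have := hsub hg₀T
    have := (Finset.mem_filter.mp this).2
    rw [hc'g₀] at this
    exact lt_irrefl _ this
  exact absurd (hmin T' hT'adm) (not_le.mpr hlt)

end Groth.Agent.H29.Fan
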