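import Mathlib
import Groth.Prelude.Def_W4c6instabfans3FanCvx
import Groth.Agent.Lib.helper29.Fan10a

/-! Fan10b (helper29): the fan of a family of rational polyhedral cones: simplicial cones. -/

set_option autoImplicit false

universe u

namespace Groth.Agent.H29.Fan

open CategoryTheory Opposite Instab Instab.Fan Limits Filter Topology

variable {N : ℕ}

/-- the integer linear map with prescribed columns -/
def coneOf {n : ℕ} (z : Fin n → (Fin N → ℤ)) : (Fin n → ℤ) →ₗ[ℤ] (Fin N → ℤ) where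
  toFun r := ∑ i, r i • z i
  map_add' r s := by simp only [Pi.add_apply, add_smul, Finset.sum_add_distrib]
  map_smul' t r := by
    simp only [Pi.smul_apply, smul_eq_mul, RingHom.id_apply, Finset.smul_sum, mul_smul]

lemma coneOf_apply {n : ℕ} (z : Fin n → (Fin N → ℤ)) (r : Fin n → ℤ) :
    coneOf z r = ∑ i, r i • z i := rfl

lemma coneOf_single {n : ℕ} (z : Fin n → (Fin N → ℤ)) (i : Fin n) :
    coneOf z (Pi.single i 1) = z i := by
  classical
  rw [coneOf_apply, Finset.sum_eq_single i]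
  · simp
  · intro j _ hj
    simp [Pi.single_apply, hj]
  · intro h; exact absurd (Finset.mem_univ i) h

lemma linReal_coneOf {n : ℕ} (z : Fin n → (Fin N → ℤ)) (v : Fin n → ℝ) :
    linReal (coneOf z) v = ∑ i, v i • iv (z i) := by
  funext j
  rw [linReal_apply, Finset.sum_apply]
  refine Finset.sum_congr rfl fun i _ => ?_
  rw [coneOf_single]
  simp only [Pi.smul_apply, smul_eq_mul, iv]
  ring

lemma intCast_coneOf {n : ℕ} (z : Fin n → (Fin N → ℤ)) (r : Fin n → ℤ) :
    (fun j => ((coneOf z r) j : ℝ)) = ∑ i, (r i : ℝ) • iv (z i) := by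
  rw [← linReal_coneOf]
  funext j
  rw [linReal_intCast]

variable {ι : Type} (K : ι → Set (Fin N → ℝ))

theorem exists_simpCone (a : ι) (G : Finset (Fin N → ℤ)) (hG : fgCone G ⊆ K a)
    (T : Finset (Fin N → ℤ)) (hTG : T ⊆ G) (hne : T.Nonempty)
    (hLI : ∀ d : (Fin N → ℤ) → ℝ, (∑ g ∈ T, d g • iv g) = 0 → ∀ g ∈ T, d g = 0) :
    ∃ (n : ICone) (φ : RFan.Cone K n), ∀ w : Fin N → ℝ, w ≠ 0 →
      ((∃ c : (Fin N → ℤ) → ℝ, (∀ g, 0 ≤ c g) ∧ w = ∑ g ∈ T, c g • iv g) ↔
        ∃ v : Orth n, w = linReal φ.1 v.1) := by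
  classical
  have hcard : 0 < T.card := Finset.card_pos.mpr hne
  let n : ICone := ⟨⟨T.card, hcard⟩⟩
  let e : ↥T ≃ Fin T.card := T.equivFin
  let z : Fin T.card → (Fin N → ℤ) := fun i => (e.symm i).1
  have hzT : ∀ i, z i ∈ T := fun i => (e.symm i).2
  have hez : ∀ i, e ⟨z i, hzT i⟩ = i := fun i => by simp [z]
  have hsum : ∀ F : (Fin N → ℤ) → (Fin N → ℝ), ∑ g ∈ T, F g = ∑ i, F (z i) := by
    intro F
    rw [← Finset.sum_coe_sort T F]
    exact (Equiv.sum_comp e.symm (fun t : ↥T => F t.1)).symm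
  -- extension of a function on Fin to a function on integer vectors
  let ext : (Fin T.card → ℝ) → (Fin N → ℤ) → ℝ := fun v g =>
    if h : g ∈ T then v (e ⟨g, h⟩) else 0
  have hext : ∀ v i, ext v (z i) = v i := by
    intro v i
    simp only [ext, dif_pos (hzT i), hez]
  have hinj : Function.Injective (coneOf z) := by
    rw [injective_iff_map_eq_zero]
    intro r hr
    have h1 : ∑ i, (r i : ℝ) • iv (z i) = 0 := by
      rw [← intCast_coneOf, hr]
      funext j; simp
    have h2 : ∑ g ∈ T, ext (fun i => (r i : ℝ)) g • iv g = 0 := by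
      rw [hsum fun g => ext (fun i => (r i : ℝ)) g • iv g]
      simp only [hext]
      exact h1
    funext i
    have h3 := hLI _ h2 (z i) (hzT i)
    have h4 : ((r i : ℤ) : ℝ) = 0 := (hext (fun i => (r i : ℝ)) i).symm.trans h3
    exact_mod_cast h4
  have hmem : ∀ v : Fin T.card → ℝ, (∀ i, 0 ≤ v i) → ∑ i, v i • iv (z i) ∈ K a := by
    intro v hv
    apply hG
    refine ⟨ext v, fun g => ?_, ?_⟩
    · simp only [ext]
      split_ifs
      · exact hv _
      · exact le_rfl
    · rw [← Finset.sum_subset hTG (fun g _ hgT => by simp only [ext, dif_neg hgT, zero_smul]),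
        hsum fun g => ext v g • iv g]
      simp only [hext]
  let φ : RFan.Cone K n := ⟨coneOf z, hinj, a, fun r hr => by
    rw [intCast_coneOf]
    exact hmem _ fun i => by exact_mod_cast hr i⟩
  refine ⟨n, φ, fun w hw => ?_⟩
  constructor
  · rintro ⟨c, hc, hwc⟩
    have hw' : w = linReal (coneOf z) (fun i => c (z i)) := by
      rw [linReal_coneOf, hwc, hsum fun g => c g • iv g]
    refine ⟨⟨fun i => c (z i), fun i => hc _, fun h0 => hw ?_⟩, hw'⟩
    rw [hw']
    exact (congrArg (linReal (coneOf z)) h0).trans (map_zero _)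
  · rintro ⟨v, hv⟩
    refine ⟨ext v.1, fun g => ?_, ?_⟩
    · simp only [ext]
      split_ifs
      · exact v.2.1 _
      · exact le_rfl
    · rw [hv, hsum fun g => ext v.1 g • iv g]
      simp only [hext]
      exact linReal_coneOf z v.1

end Groth.Agent.H29.Fan
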