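import Mathlib
import Groth.Prelude.Def_W4c6instabfans3FanCvx
import Groth.Agent.Lib.helper29.Fan10b

/-! Fan10c (helper29): the fan of a family of rational polyhedral cones: the map to rays. -/

set_option autoImplicit false

universe u

namespace Groth.Agent.H29.Fan

open CategoryTheory Opposite Instab Instab.Fan Limits Filter Topology

variable {N : ℕ}

/-- the ray relation -/
def rayRel (N : ℕ) : {v : Fin N → ℝ // v ≠ 0} → {v : Fin N → ℝ // v ≠ 0} → Prop :=
  fun v w => ∃ c : ℝ, 0 < c ∧ w.1 = c • v.1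

lemma rayRel_equiv : Equivalence (rayRel N) where
  refl v := ⟨1, one_pos, by simp⟩
  symm := by
    rintro v w ⟨c, hc, h⟩
    exact ⟨1 / c, by positivity, by rw [h, smul_smul, one_div, inv_mul_cancel₀ hc.ne', one_smul]⟩
  trans := by
    rintro u v w ⟨c, hc, h⟩ ⟨d, hd, h'⟩
    exact ⟨d * c, mul_pos hd hc, by rw [h', h, smul_smul]⟩

/-- the ray of a nonzero vector -/
def ray (v : {v : Fin N → ℝ // v ≠ 0}) : Rays N := Quot.mk _ v

lemma ray_eq_iff (v w : {v : Fin N → ℝ // v ≠ 0}) :
    ray v = ray w ↔ ∃ c : ℝ, 0 < c ∧ w.1 = c • v.1 := by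
  constructor
  · intro h
    have h1 : Relation.EqvGen (rayRel N) v w := Quot.eqvGen_exact h
    exact (rayRel_equiv.eqvGen_iff).mp h1
  · intro h
    exact Quot.sound h

lemma ray_surj (r : Rays N) : ∃ v, r = ray v := by
  induction r using Quot.inductionOn with
  | h v => exact ⟨v, rfl⟩

lemma continuous_ray : Continuous (ray (N := N)) := continuous_quot_mk

lemma isClosed_rays_iff (S : Set (Rays N)) : IsClosed S ↔ IsClosed (ray ⁻¹' S) :=
  ((isQuotientMap_quot_mk (r := rayRel N)).isClosed_preimage (s := S)).symm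

variable {ι : Type} (K : ι → Set (Fin N → ℝ))

/-- the nonzero vector of a point of a cone of `R(K)` -/
def rvec {n : ICone} (φ : RFan.Cone K n) (v : Orth n) : {w : Fin N → ℝ // w ≠ 0} :=
  ⟨linReal φ.1 v.1, fun h => v.2.2 (linReal_eq_zero φ.1 φ.2.1 _ h)⟩

lemma rvec_val {n : ICone} (φ : RFan.Cone K n) (v : Orth n) :
    (rvec K φ v).1 = linReal φ.1 v.1 := rfl

lemma map_val {k n : ICone} (ψ : k ⟶ n) (φ : RFan.Cone K n) :
    ((RFan K).map ψ.op φ : RFan.Cone K k).1 = φ.1.comp ψ.toLin := rfl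

/-- the map on the disjoint union -/
def gPt : Pt (RFan K) → Rays N := fun p => ray (rvec K (n := p.1.1) p.1.2 p.2)

lemma gPt_rel (p q : Pt (RFan K)) (h : Rel (RFan K) p q) : gPt K p = gPt K q := by
  obtain ⟨ψ, ξ, v, w, c, hc, h⟩ := h
  show ray (rvec K ((RFan K).map ψ.op ξ) v) = ray (rvec K ξ w)
  rw [ray_eq_iff]
  refine ⟨c, hc, ?_⟩
  rw [rvec_val, rvec_val, map_val, linReal_comp, h, map_smul]
  rfl

/-- the canonical map from the projective realization of `R(K)` to the space of rays -/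
def gMap : P (RFan K) → Rays N := Quot.lift (gPt K) (gPt_rel K)

lemma gMap_mk {n : ICone} (φ : RFan.Cone K n) (v : Orth n) :
    gMap K (P.mk (F := RFan K) φ v) = ray (rvec K φ v) := rfl

lemma gMap_injective : Function.Injective (gMap K) := by
  intro x x' hxx'
  obtain ⟨n, φ, v, rfl⟩ := mk_surj x
  obtain ⟨n', φ', v', rfl⟩ := mk_surj x'
  change gMap K (P.mk (F := RFan K) (φ : RFan.Cone K n) v) =
    gMap K (P.mk (F := RFan K) (φ' : RFan.Cone K n') v') at hxx'
  rw [gMap_mk, gMap_mk, ray_eq_iff] at hxx'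
  obtain ⟨c, hc, h⟩ := hxx'
  rw [rvec_val, rvec_val] at h
  have h' : linReal (φ : RFan.Cone K n).1 (orthSmul c hc v).1 = linReal (φ' : RFan.Cone K n').1 v'.1 := by
    rw [orthSmul_val, map_smul]; exact h.symm
  obtain ⟨k, ψ₁, ψ₂, y, hcomm, hy₁, hy₂⟩ := exists_fibre' _ _ (φ : RFan.Cone K n).2.1
    (φ' : RFan.Cone K n').2.1 _ _ h'
  have heq : (RFan K).map ψ₁.op φ = (RFan K).map ψ₂.op φ' := by
    apply Subtype.ext
    exact hcomm
  rw [← mk_map_eq (F := RFan K) ψ₁ φ y v (1 / c) (by positivity) (by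
      rw [← hy₁, orthSmul_val, smul_smul, one_div, inv_mul_cancel₀ hc.ne', one_smul]),
    ← mk_map_eq (F := RFan K) ψ₂ φ' y v' 1 one_pos (by rw [one_smul]; exact hy₂), heq]

lemma continuous_gMap : Continuous (gMap K) := by
  refine (isQuotientMap_quot_mk (r := Rel (RFan K))).continuous_iff.mpr ?_
  show Continuous (gPt K)
  refine continuous_sigma (σ := fun e : (Σ n : ICone, (RFan K).obj (op n)) => Orth e.1) ?_
  rintro ⟨n, φ⟩
  show Continuous fun v : Orth n => ray (rvec K (φ : RFan.Cone K n) v)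
  refine continuous_ray.comp (Continuous.subtype_mk ?_ _)
  exact (LinearMap.continuous_of_finiteDimensional _).comp continuous_subtype_val

end Groth.Agent.H29.Fan
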