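import Mathlib
import Groth.Prelude.Def_W4c6instabfans3FanCvx
import Groth.Agent.Lib.helper29.Fan10c

/-! Fan10d (helper29): the fan of a family of rational polyhedral cones: embedding into rays. -/

set_option autoImplicit false

universe u

namespace Groth.Agent.H29.Fan

open CategoryTheory Opposite Instab Instab.Fan Limits Filter Topology

variable {N : ℕ}

/-- image of a closed subset of the punctured orthant under an injective linear map -/
theorem isClosed_linImage {k : ICone} (L : (Fin k.dim → ℝ) →ₗ[ℝ] (Fin N → ℝ))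
    (hL : LinearMap.ker L = ⊥) (C : Set (Orth k)) (hC : IsClosed C) :
    IsClosed {w : {w : Fin N → ℝ // w ≠ 0} | ∃ v ∈ C, w.1 = L v.1} := by
  obtain ⟨Z, hZ, hZC⟩ := isClosed_induced_iff.mp hC
  have hval : (fun v : Orth k => v.1) '' C ⊆ Z := by
    rintro _ ⟨v, hv, rfl⟩
    rw [← hZC] at hv
    exact hv
  have horth : IsClosed {u : Fin k.dim → ℝ | ∀ i, 0 ≤ u i} := by
    have : {u : Fin k.dim → ℝ | ∀ i, 0 ≤ u i} = ⋂ i, {u | 0 ≤ u i} := by
      ext u; simp
    rw [this]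
    exact isClosed_iInter fun i => isClosed_le continuous_const (continuous_apply i)
  have hval2 : (fun v : Orth k => v.1) '' C ⊆ {u : Fin k.dim → ℝ | ∀ i, 0 ≤ u i} := by
    rintro _ ⟨v, _, rfl⟩
    exact v.2.1
  have hT : {w : {w : Fin N → ℝ // w ≠ 0} | ∃ v ∈ C, w.1 = L v.1} =
      (fun w : {w : Fin N → ℝ // w ≠ 0} => w.1) ⁻¹'
        (L '' closure ((fun v : Orth k => v.1) '' C)) := by
    ext w
    constructor
    · rintro ⟨v, hv, hw⟩
      exact ⟨v.1, subset_closure ⟨v, hv, rfl⟩, hw.symm⟩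
    · rintro ⟨u, hu, huw⟩
      have hu0 : ∀ i, 0 ≤ u i := closure_minimal hval2 horth hu
      have hune : u ≠ 0 := by
        rintro rfl
        apply w.2
        exact huw.symm.trans (map_zero L)
      have huZ : u ∈ Z := closure_minimal hval hZ hu
      refine ⟨⟨u, hu0, hune⟩, ?_, huw.symm⟩
      rw [← hZC]; exact huZ
  rw [hT]
  exact ((LinearMap.isClosedEmbedding_of_injective hL).isClosedMap _ isClosed_closure).preimage
    continuous_subtype_val

variable {ι : Type} (K : ι → Set (Fin N → ℝ))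

lemma fgCone_smul (G : Finset (Fin N → ℤ)) (f : (Fin N → ℝ) →ₗ[ℝ] ℝ)
    (hf : ∀ g ∈ G, f (iv g) ≤ 0) (x : Fin N → ℝ) (hx : x ∈ fgCone G) : f x ≤ 0 := by
  obtain ⟨c, hc, rfl⟩ := hx
  rw [map_sum]
  refine Finset.sum_nonpos fun g hg => ?_
  rw [map_smul, smul_eq_mul]
  exact mul_nonpos_of_nonneg_of_nonpos (hc g) (hf g hg)

/-- the real orthant of a cone of `R(K)` maps into the same `K a` -/
theorem mem_K_of_cone
    (hK : ∀ a, ∃ (m : ℕ) (gen : Fin m → Finset (Fin N → ℤ)), K a = ⋃ l, fgCone (gen l))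
    {n : ICone} (φ : RFan.Cone K n) (v : Orth n) : ∃ a, linReal φ.1 v.1 ∈ K a := by
  obtain ⟨a, ha⟩ := φ.2.2
  refine ⟨a, ?_⟩
  obtain ⟨m, gen, hKa⟩ := hK a
  by_contra hnot
  rw [hKa, Set.mem_iUnion, not_exists] at hnot
  have hsep := fun l => exists_sep (gen l) _ (hnot l)
  choose f hf hfpos using hsep
  let E : Set (Orth n) := ⋃ l, {v' : Orth n | f l (linReal φ.1 v'.1) ≤ 0}
  have hE : IsClosed E := by
    refine isClosed_iUnion_of_finite fun l => ?_
    refine isClosed_le ?_ continuous_const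
    exact ((LinearMap.continuous_of_finiteDimensional (f l)).comp
      (LinearMap.continuous_of_finiteDimensional (linReal φ.1))).comp continuous_subtype_val
  have hEcone : ∀ v w : Orth n, v ∈ E → ∀ c : ℝ, 0 < c → w.1 = c • v.1 → w ∈ E := by
    intro v w hv c hc hw
    obtain ⟨l, hl⟩ := Set.mem_iUnion.mp hv
    refine Set.mem_iUnion.mpr ⟨l, ?_⟩
    show f l (linReal φ.1 w.1) ≤ 0
    rw [hw, map_smul, map_smul, smul_eq_mul]
    exact mul_nonpos_of_nonneg_of_nonpos hc.le hl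
  have hEint : ∀ (r : Fin n.dim → ℤ) (hr : ∀ i, 0 ≤ r i) (hr0 : r ≠ 0), intPt r hr hr0 ∈ E := by
    intro r hr hr0
    have h1 := ha r hr
    rw [hKa, Set.mem_iUnion] at h1
    obtain ⟨l, hl⟩ := h1
    refine Set.mem_iUnion.mpr ⟨l, ?_⟩
    show f l (linReal φ.1 (intPt r hr hr0).1) ≤ 0
    have h2 : linReal φ.1 (intPt r hr hr0).1 = fun j => (φ.1 r j : ℝ) := by
      funext j
      exact linReal_intCast φ.1 r j
    rw [h2]
    exact fgCone_smul (gen l) (f l) (hf l) _ hl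
  have hv := eq_univ_of_intPt E hE hEcone hEint v
  obtain ⟨l, hl⟩ := Set.mem_iUnion.mp hv
  exact absurd (hfpos l) (not_lt.mpr hl)

/-- every nonzero vector of a finitely generated cone inside `K a` comes from a simplicial cone -/
theorem exists_cone_of_mem_fgCone (a : ι) (G : Finset (Fin N → ℤ)) (hG : fgCone G ⊆ K a)
    (w : Fin N → ℝ) (hw : w ∈ fgCone G) (hw0 : w ≠ 0) :
    ∃ (T : Finset (Fin N → ℤ)), T ⊆ G ∧ T.Nonempty ∧
      (∀ d : (Fin N → ℤ) → ℝ, (∑ g ∈ T, d g • iv g) = 0 → ∀ g ∈ T, d g = 0) ∧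
      ∃ c : (Fin N → ℤ) → ℝ, (∀ g, 0 ≤ c g) ∧ w = ∑ g ∈ T, c g • iv g := by
  classical
  obtain ⟨T, c, hTG, hcpos, hwc, hLI⟩ := exists_indep_subset G w hw
  refine ⟨T, hTG, ?_, hLI, fun g => if g ∈ T then c g else 0, fun g => ?_, ?_⟩
  · rw [Finset.nonempty_iff_ne_empty]
    rintro rfl
    apply hw0
    rw [hwc, Finset.sum_empty]
  · show 0 ≤ if g ∈ T then c g else 0
    split_ifs with h
    · exact (hcpos g h).le
    · exact le_rfl
  · rw [hwc]
    refine Finset.sum_congr rfl fun g hg => ?_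
    show c g • iv g = (if g ∈ T then c g else 0) • iv g
    rw [if_pos hg]

theorem isClosedMap_gMap [Finite ι]
    (hK : ∀ a, ∃ (m : ℕ) (gen : Fin m → Finset (Fin N → ℤ)), K a = ⋃ l, fgCone (gen l)) :
    IsClosedMap (gMap K) := by
  classical
  intro C hC
  rw [isClosed_rays_iff]
  choose m gen hKa using hK
  let LI : Finset (Fin N → ℤ) → Prop := fun T =>
    ∀ d : (Fin N → ℤ) → ℝ, (∑ g ∈ T, d g • iv g) = 0 → ∀ g ∈ T, d g = 0
  let Z : (Σ a : ι, Σ l : Fin (m a), ↥(gen a l).powerset) → Set {w : Fin N → ℝ // w ≠ 0} :=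
    fun j => {w | (∃ c : (Fin N → ℤ) → ℝ, (∀ g, 0 ≤ c g) ∧ w.1 = ∑ g ∈ j.2.2.1, c g • iv g) ∧
      LI j.2.2.1 ∧ ray w ∈ gMap K '' C}
  have hunion : ray ⁻¹' (gMap K '' C) = ⋃ j, Z j := by
    ext w
    simp only [Set.mem_preimage, Set.mem_iUnion]
    constructor
    · intro hw
      obtain ⟨x, hxC, hx⟩ := hw
      obtain ⟨n, φ, v, rfl⟩ := mk_surj x
      change gMap K (P.mk (F := RFan K) (φ : RFan.Cone K n) v) = ray w at hx
      rw [gMap_mk, ray_eq_iff] at hx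
      obtain ⟨c, hc, hwc⟩ := hx
      obtain ⟨a, ha⟩ := mem_K_of_cone K (fun a => ⟨m a, gen a, hKa a⟩) (φ : RFan.Cone K n)
        (orthSmul c hc v)
      rw [orthSmul_val, map_smul, ← rvec_val, ← hwc, hKa a, Set.mem_iUnion] at ha
      obtain ⟨l, hl⟩ := ha
      have hsub : fgCone (gen a l) ⊆ K a := by
        rw [hKa a]; exact Set.subset_iUnion (fun l => fgCone (gen a l)) l
      obtain ⟨T, hTG, _, hLI, c', hc', hwc'⟩ :=
        exists_cone_of_mem_fgCone K a (gen a l) hsub w.1 hl w.2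
      exact ⟨⟨a, l, ⟨T, Finset.mem_powerset.mpr hTG⟩⟩, ⟨c', hc', hwc'⟩, hLI,
        ⟨_, hxC, by rw [gMap_mk, ray_eq_iff]; exact ⟨c, hc, hwc⟩⟩⟩
    · rintro ⟨j, _, _, h⟩
      exact h
  rw [hunion]
  refine isClosed_iUnion_of_finite fun j => ?_
  obtain ⟨a, l, ⟨T, hT⟩⟩ := j
  have hTG : T ⊆ gen a l := Finset.mem_powerset.mp hT
  by_cases hLI : LI T
  swap
  · have : Z ⟨a, l, ⟨T, hT⟩⟩ = ∅ := by
      ext w
      simp only [Z, Set.mem_setOf_eq, Set.mem_empty_iff_false, iff_false]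
      rintro ⟨_, h, _⟩
      exact hLI h
    rw [this]; exact isClosed_empty
  by_cases hne : T.Nonempty
  swap
  · have : Z ⟨a, l, ⟨T, hT⟩⟩ = ∅ := by
      ext w
      simp only [Z, Set.mem_setOf_eq, Set.mem_empty_iff_false, iff_false]
      rintro ⟨⟨c, _, hwc⟩, _, _⟩
      rw [Finset.not_nonempty_iff_eq_empty.mp hne, Finset.sum_empty] at hwc
      exact w.2 hwc
    rw [this]; exact isClosed_empty
  have hsub : fgCone (gen a l) ⊆ K a := by
    rw [hKa a]; exact Set.subset_iUnion (fun l => fgCone (gen a l)) l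
  obtain ⟨n, φ, hiff⟩ := exists_simpCone K a (gen a l) hsub T hTG hne hLI
  have hZ : Z ⟨a, l, ⟨T, hT⟩⟩ =
      {w | ∃ v ∈ (P.mk (F := RFan K) φ ⁻¹' C), w.1 = linReal φ.1 v.1} := by
    ext w
    simp only [Z, Set.mem_setOf_eq, Set.mem_preimage]
    constructor
    · rintro ⟨hc, _, x, hxC, hx⟩
      obtain ⟨v, hv⟩ := (hiff w.1 w.2).mp hc
      refine ⟨v, ?_, hv⟩
      have h1 : ray w = gMap K (P.mk (F := RFan K) φ v) := by
        rw [gMap_mk]
        congr 1
        exact Subtype.ext hv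
      have h2 := gMap_injective K (hx.trans h1)
      rw [← h2]; exact hxC
    · rintro ⟨v, hvC, hv⟩
      refine ⟨(hiff w.1 w.2).mpr ⟨v, hv⟩, hLI, _, hvC, ?_⟩
      rw [gMap_mk]
      congr 1
      exact (Subtype.ext hv).symm
  rw [hZ]
  exact isClosed_linImage _ (linReal_ker φ.1 φ.2.1) _ (hC.preimage (continuous_mk (F := RFan K) φ))

theorem range_gMap
    (hK : ∀ a, ∃ (m : ℕ) (gen : Fin m → Finset (Fin N → ℤ)), K a = ⋃ l, fgCone (gen l)) :
    Set.range (gMap K) =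
      {r | ∃ w : {w : Fin N → ℝ // w ≠ 0}, r = Quot.mk _ w ∧ w.1 ∈ Set.iUnion K} := by
  ext r
  constructor
  · rintro ⟨x, rfl⟩
    obtain ⟨n, φ, v, rfl⟩ := mk_surj x
    refine ⟨rvec K (φ : RFan.Cone K n) v, rfl, ?_⟩
    obtain ⟨a, ha⟩ := mem_K_of_cone K hK (φ : RFan.Cone K n) v
    exact Set.mem_iUnion.mpr ⟨a, ha⟩
  · rintro ⟨w, rfl, hw⟩
    obtain ⟨a, ha⟩ := Set.mem_iUnion.mp hw
    obtain ⟨m, gen, hKa⟩ := hK a
    rw [hKa, Set.mem_iUnion] at ha
    obtain ⟨l, hl⟩ := ha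
    have hsub : fgCone (gen l) ⊆ K a := by
      rw [hKa]; exact Set.subset_iUnion (fun l => fgCone (gen l)) l
    obtain ⟨T, hTG, hne, hLI, hc⟩ := exists_cone_of_mem_fgCone K a (gen l) hsub w.1 hl w.2
    obtain ⟨n, φ, hiff⟩ := exists_simpCone K a (gen l) hsub T hTG hne hLI
    obtain ⟨v, hv⟩ := (hiff w.1 w.2).mp hc
    refine ⟨P.mk (F := RFan K) φ v, ?_⟩
    rw [gMap_mk]
    show ray _ = ray w
    congr 1
    exact (Subtype.ext hv).symm

theorem isEmbedding_gMap [Finite ι]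
    (hK : ∀ a, ∃ (m : ℕ) (gen : Fin m → Finset (Fin N → ℤ)), K a = ⋃ l, fgCone (gen l)) :
    Topology.IsEmbedding (gMap K) :=
  (Topology.IsClosedEmbedding.of_continuous_injective_isClosedMap (continuous_gMap K)
    (gMap_injective K) (isClosedMap_gMap K hK)).isEmbedding

end Groth.Agent.H29.Fan
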