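import Mathlib
import Groth.Prelude.Def_W4c6instabfans3FanCvx
import Groth.Agent.Lib.helper29.Fan4

/-! Fan5 (helper29): bounded maps of fans: image, fibres, closedness. -/

set_option autoImplicit false

universe u

namespace Groth.Agent.H29.Fan

open CategoryTheory Opposite Instab Instab.Fan Limits Filter Topology

variable {F G : Fan.{u}}

lemma coneMap_yId {n : ICone} (ξ : G.obj (op n)) : (coneMap ξ).app _ (yId.{u} n) = ξ := by
  rw [coneMap_app]
  show G.map (𝟙 n).op ξ = ξ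
  rw [op_id, Functor.map_id_apply]

theorem fibre_desc (ψ : F ⟶ G) {n : ICone} (ξ : G.obj (op n))
    (t : Finset (Σ k : ICone, (pullback ψ (coneMap ξ)).obj (op k)))
    (ht : ∀ x : P (pullback ψ (coneMap ξ)), ∃ e ∈ t, x ∈ P.cell e.2) (x : P F) (v : Orth n) :
    P.map ψ x = P.mk ξ v ↔ ∃ e ∈ t, ∃ (y : Orth e.1) (c : ℝ), 0 < c ∧
      x = P.mk ((pullback.fst ψ (coneMap ξ)).app _ e.2) y ∧
      v.1 = c • ((pullback.snd ψ (coneMap ξ)).app _ e.2).down.realMap y.1 := by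
  constructor
  · intro h
    have h0 : P.mk ξ v = P.map (coneMap ξ) (P.mk (yId.{u} n) v) := by
      rw [map_mk, coneMap_yId]
    rw [h0] at h
    obtain ⟨q, hq1, hq2⟩ := exists_pullback_lift ψ (coneMap ξ) x _ h
    obtain ⟨e, he, ⟨y, rfl⟩⟩ := ht q
    rw [map_mk] at hq1 hq2
    obtain ⟨c, hc, hv⟩ := (yoneda_mk_eq_iff _ y v).mp hq2
    exact ⟨e, he, y, c, hc, hq1.symm, hv⟩
  · rintro ⟨e, he, y, c, hc, rfl, hv⟩
    rw [map_mk, pb_condition, coneMap_app]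
    exact mk_map_eq _ ξ y v c hc hv

/-- S19363, third part -/
theorem range_desc (ψ : F ⟶ G) (hψ : Fan.IsBoundedMap ψ) (n : ICone) (ξ : G.obj (op n)) :
    ∃ s : Finset (Σ k : ICone, k ⟶ n),
      {v : Fan.Orth n | Fan.P.mk ξ v ∈ Set.range (Fan.P.map ψ)} =
        ⋃ e ∈ s, {v : Fan.Orth n | ∃ (y : Fan.Orth e.1) (c : ℝ), 0 < c ∧ v.1 = c • e.2.realMap y.1} := by
  classical
  obtain ⟨t, ht⟩ := hψ n ξ
  refine ⟨t.image fun e => ⟨e.1, ((pullback.snd ψ (coneMap ξ)).app _ e.2).down⟩, ?_⟩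
  ext v
  simp only [Set.mem_setOf_eq, Set.mem_range, Set.mem_iUnion, Finset.mem_image, exists_prop]
  constructor
  · rintro ⟨x, hx⟩
    obtain ⟨e, he, y, c, hc, _, hv⟩ := (fibre_desc ψ ξ t ht x v).mp hx
    exact ⟨_, ⟨e, he, rfl⟩, y, c, hc, hv⟩
  · rintro ⟨_, ⟨e, he, rfl⟩, y, c, hc, hv⟩
    exact ⟨_, (fibre_desc ψ ξ t ht _ v).mpr ⟨e, he, y, c, hc, rfl, hv⟩⟩

/-- S19363, second part -/
theorem finite_fibres (ψ : F ⟶ G) (hψ : Fan.IsBoundedMap ψ) (y : P G) :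
    (Fan.P.map ψ ⁻¹' {y}).Finite := by
  classical
  obtain ⟨n, ξ, v, rfl⟩ := mk_surj y
  obtain ⟨t, ht⟩ := hψ n ξ
  let A : (Σ k : ICone, (pullback ψ (coneMap ξ)).obj (op k)) → Set (P F) := fun e =>
    {x | ∃ (y : Orth e.1) (c : ℝ), 0 < c ∧
      x = P.mk ((pullback.fst ψ (coneMap ξ)).app _ e.2) y ∧
      v.1 = c • ((pullback.snd ψ (coneMap ξ)).app _ e.2).down.realMap y.1}
  have hA : ∀ e, (A e).Subsingleton := by
    rintro e _ ⟨y, c, hc, rfl, hv⟩ _ ⟨y', c', hc', rfl, hv'⟩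
    apply mk_smul_eq _ _ _ (c / c') (div_pos hc hc')
    have h1 : ((pullback.snd ψ (coneMap ξ)).app _ e.2).down.realMap (c • y.1) =
        ((pullback.snd ψ (coneMap ξ)).app _ e.2).down.realMap (c' • y'.1) := by
      rw [realMap_smul, realMap_smul, ← hv, ← hv']
    have h2 := realMap_injective _ h1
    rw [div_eq_inv_mul, ← smul_smul, h2, smul_smul, inv_mul_cancel₀ hc'.ne', one_smul]
  refine Set.Finite.subset (Set.Finite.biUnion t.finite_toSet (fun e _ => (hA e).finite)) ?_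
  intro x hx
  have hx' : P.map ψ x = P.mk ξ v := hx
  obtain ⟨e, he, y, c, hc, hxe, hv⟩ := (fibre_desc ψ ξ t ht x v).mp hx'
  exact Set.mem_biUnion (Finset.mem_coe.mpr he) ⟨y, c, hc, hxe, hv⟩

/-- S19363, first part -/
theorem isClosedMap_of_isBoundedMap (ψ : F ⟶ G) (hψ : Fan.IsBoundedMap ψ) :
    IsClosedMap (Fan.P.map ψ) := by
  classical
  intro C hC
  rw [isClosed_iff]
  intro n ξ
  obtain ⟨t, ht⟩ := hψ n ξ
  have hset : P.mk ξ ⁻¹' (P.map ψ '' C) =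
      ⋃ e ∈ t, {v : Orth n | ∃ w ∈ (P.mk ((pullback.fst ψ (coneMap ξ)).app _ e.2) ⁻¹' C),
        ∃ c : ℝ, 0 < c ∧ v.1 = c • ((pullback.snd ψ (coneMap ξ)).app _ e.2).down.realMap w.1} := by
    ext v
    simp only [Set.mem_preimage, Set.mem_image, Set.mem_iUnion, Set.mem_setOf_eq, exists_prop]
    constructor
    · rintro ⟨x, hxC, hx⟩
      obtain ⟨e, he, y, c, hc, rfl, hv⟩ := (fibre_desc ψ ξ t ht x v).mp hx
      exact ⟨e, he, y, hxC, c, hc, hv⟩
    · rintro ⟨e, he, y, hyC, c, hc, hv⟩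
      exact ⟨_, hyC, (fibre_desc ψ ξ t ht _ v).mpr ⟨e, he, y, c, hc, rfl, hv⟩⟩
  rw [hset]
  refine isClosed_biUnion_finset fun e _ => ?_
  apply isClosed_coneImage
  · exact hC.preimage (continuous_mk _)
  · intro v w hv c hc hw
    show P.mk _ w ∈ C
    rw [← mk_smul_eq _ v w c hc hw]
    exact hv

/-- S19364 -/
theorem surjective_iff_rational (ψ : F ⟶ G) (hψ : Fan.IsBoundedMap ψ) :
    Function.Surjective (Fan.P.map ψ) ↔
      ∀ y : Fan.P G, y.IsRational → y ∈ Set.range (Fan.P.map ψ) := by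
  constructor
  · intro h y _
    exact h y
  · intro h y
    obtain ⟨n, ξ, v, rfl⟩ := mk_surj y
    have hclosed : IsClosed (P.mk ξ ⁻¹' (Set.range (P.map ψ))) := by
      have := isClosedMap_of_isBoundedMap ψ hψ Set.univ isClosed_univ
      rw [Set.image_univ] at this
      exact this.preimage (continuous_mk ξ)
    refine eq_univ_of_intPt _ hclosed ?_ ?_ v
    · intro v w hv c hc hw
      show P.mk ξ w ∈ Set.range (P.map ψ)
      rw [← mk_smul_eq ξ v w c hc hw]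
      exact hv
    · intro r hr hr0
      exact h _ (isRational_mk_intPt ξ r hr hr0)

/-- S19365 -/
theorem isClosedEmbedding_of_isBoundedMap (ψ : F ⟶ G) (hψ : Fan.IsBoundedMap ψ)
    (hinj : ∀ n : ICone, Function.Injective (ψ.app (op n))) :
    Topology.IsClosedEmbedding (Fan.P.map ψ) := by
  refine Topology.IsClosedEmbedding.of_continuous_injective_isClosedMap (continuous_map ψ) ?_
    (isClosedMap_of_isBoundedMap ψ hψ)
  intro x x' hxx'
  obtain ⟨n, ξ, v, rfl⟩ := mk_surj x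
  obtain ⟨n', ξ', v', rfl⟩ := mk_surj x'
  rw [map_mk, map_mk] at hxx'
  obtain ⟨k, φ₁, φ₂, y, c₁, c₂, h1, h2, h3, h4, h5⟩ := common_of_mk_eq hxx'
  rw [← NatTrans.naturality_apply, ← NatTrans.naturality_apply] at h1
  have h1' := hinj k h1
  rw [← mk_map_eq φ₁ ξ y v c₁ h2 h4, ← mk_map_eq φ₂ ξ' y v' c₂ h3 h5, h1']

end Groth.Agent.H29.Fan
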