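import Mathlib
import Groth.Prelude.Def_W4c6instabfans3FanCvx
import Groth.Agent.Lib.helper29.Fan5

/-! Fan6 (helper29): quasi-separated fans: closed cells, coherent topology, injectivity. -/

set_option autoImplicit false

universe u

namespace Groth.Agent.H29.Fan

open CategoryTheory Opposite Instab Instab.Fan Limits Filter Topology

variable {F G : Fan.{u}}

lemma continuous_realMap {k n : ICone} (φ : k ⟶ n) : Continuous φ.realMap :=
  (isClosedEmbedding_realMap φ).continuous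

lemma continuous_orthMap {k n : ICone} (φ : k ⟶ n) : Continuous (orthMap φ) :=
  Continuous.subtype_mk ((continuous_realMap φ).comp continuous_subtype_val) _

/-- S19366, first part -/
theorem isClosed_image_mk (hF : F.IsQuasiSeparated) {n : ICone} (ξ : F.obj (op n))
    (S : Set (Orth n)) (hS : IsClosed S)
    (hcone : ∀ v w : Fan.Orth n, v ∈ S → ∀ c : ℝ, 0 < c → w.1 = c • v.1 → w ∈ S) :
    IsClosed (P.mk ξ '' S) := by
  rw [isClosed_iff]
  intro n' ξ'
  obtain ⟨s, _, hs⟩ := exists_finset_subcone_pairs F hF ξ ξ'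
  have hset : P.mk ξ' ⁻¹' (P.mk ξ '' S) =
      ⋃ e ∈ s, {w : Orth n' | ∃ y ∈ (orthMap e.2.1 ⁻¹' S), ∃ c : ℝ, 0 < c ∧
        w.1 = c • e.2.2.realMap y.1} := by
    ext w
    simp only [Set.mem_preimage, Set.mem_image, Set.mem_iUnion, Set.mem_setOf_eq, exists_prop]
    constructor
    · rintro ⟨v, hvS, hv⟩
      obtain ⟨e, he, y, c, c', hc, hc', h1, h2⟩ := (hs v w).mp hv
      refine ⟨e, he, y, ?_, c', hc', h2⟩
      refine hcone v _ hvS (1 / c) (by positivity) ?_
      show e.2.1.realMap y.1 = (1 / c) • v.1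
      rw [h1, smul_smul, one_div, inv_mul_cancel₀ hc.ne', one_smul]
    · rintro ⟨e, he, y, hy, c', hc', h2⟩
      exact ⟨orthMap e.2.1 y, hy, (hs _ w).mpr ⟨e, he, y, 1, c', one_pos, hc', by simp, h2⟩⟩
  rw [hset]
  refine isClosed_biUnion_finset fun e _ => ?_
  apply isClosed_coneImage
  · exact hS.preimage (continuous_orthMap _)
  · intro v w hv c hc hw
    refine hcone _ _ hv c hc ?_
    show e.2.1.realMap w.1 = c • e.2.1.realMap v.1
    rw [hw, realMap_smul]

/-- S19366, second part -/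
theorem isClosed_iff_cells (hF : F.IsQuasiSeparated) (S : Set (P F)) :
    IsClosed S ↔ ∀ (n : ICone) (ξ : F.obj (op n)), IsClosed (S ∩ Fan.P.cell ξ) := by
  constructor
  · intro hS n ξ
    refine hS.inter ?_
    have := isClosed_image_mk hF ξ Set.univ isClosed_univ (fun _ _ _ _ _ _ => trivial)
    rwa [Set.image_univ] at this
  · intro h
    rw [isClosed_iff]
    intro n ξ
    have : P.mk ξ ⁻¹' S = P.mk ξ ⁻¹' (S ∩ Fan.P.cell ξ) := by
      ext v
      simp only [Set.mem_preimage, Set.mem_inter_iff, iff_self_and]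
      intro _
      exact ⟨v, rfl⟩
    rw [this]
    exact (h n ξ).preimage (continuous_mk ξ)

lemma posProp_iff {k : ℕ} (a b : Fin k → ℝ) (ha : ∀ i, 0 ≤ a i) (hb : ∀ i, 0 ≤ b i)
    (ha0 : a ≠ 0) (hb0 : b ≠ 0) :
    (∃ d : ℝ, 0 < d ∧ a = d • b) ↔ ∀ i j, a i * b j = a j * b i := by
  constructor
  · rintro ⟨d, _, rfl⟩ i j
    simp only [Pi.smul_apply, smul_eq_mul]
    ring
  · intro h
    obtain ⟨j, hj⟩ := Function.ne_iff.mp hb0
    have hjpos : 0 < b j := lt_of_le_of_ne (hb j) (Ne.symm hj)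
    have hab : a = (a j / b j) • b := by
      funext i
      simp only [Pi.smul_apply, smul_eq_mul]
      have := h i j
      field_simp
      linarith
    have hd0 : a j / b j ≠ 0 := by
      intro h0
      apply ha0
      rw [hab, h0, zero_smul]
    exact ⟨a j / b j, lt_of_le_of_ne (div_nonneg (ha j) (hb j)) (Ne.symm hd0), hab⟩

/-- the locus where two cones of a quasi-separated fan give the same point is closed -/
theorem isClosed_eqLocus (hF : F.IsQuasiSeparated) {k : ICone} (η η' : F.obj (op k)) :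
    IsClosed {y : Orth k | P.mk η y = P.mk η' y} := by
  obtain ⟨s, _, hs⟩ := exists_finset_subcone_pairs F hF η η'
  let W : ∀ e : (Σ k' : ICone, (k' ⟶ k) × (k' ⟶ k)), Set (Orth e.1) := fun e =>
    {w | ∀ i j, e.2.1.realMap w.1 i * e.2.2.realMap w.1 j = e.2.1.realMap w.1 j * e.2.2.realMap w.1 i}
  have hW : ∀ e (w : Orth e.1), w ∈ W e ↔ ∃ d : ℝ, 0 < d ∧ e.2.1.realMap w.1 = d • e.2.2.realMap w.1 :=
    fun e w => (posProp_iff _ _ (realMap_nonneg _ _ w.2.1) (realMap_nonneg _ _ w.2.1)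
      (realMap_ne_zero _ _ w.2.1 w.2.2) (realMap_ne_zero _ _ w.2.1 w.2.2)).symm
  have hset : {y : Orth k | P.mk η y = P.mk η' y} =
      ⋃ e ∈ s, {y : Orth k | ∃ w ∈ W e, ∃ c : ℝ, 0 < c ∧ y.1 = c • e.2.1.realMap w.1} := by
    ext y
    simp only [Set.mem_setOf_eq, Set.mem_iUnion, exists_prop]
    rw [hs y y]
    constructor
    · rintro ⟨e, he, w, c, c', hc, hc', h1, h2⟩
      refine ⟨e, he, w, (hW e w).mpr ⟨c' / c, div_pos hc' hc, ?_⟩, c, hc, h1⟩
      have : c • e.2.1.realMap w.1 = c' • e.2.2.realMap w.1 := by rw [← h1, ← h2]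
      rw [div_eq_inv_mul, ← smul_smul, ← this, smul_smul, inv_mul_cancel₀ hc.ne', one_smul]
    · rintro ⟨e, he, w, hw, c, hc, h1⟩
      obtain ⟨d, hd, hwd⟩ := (hW e w).mp hw
      exact ⟨e, he, w, c, c * d, hc, mul_pos hc hd, h1, by rw [h1, hwd, smul_smul]⟩
  rw [hset]
  refine isClosed_biUnion_finset fun e _ => ?_
  apply isClosed_coneImage
  · have : W e = ⋂ i, ⋂ j, {w : Orth e.1 | e.2.1.realMap w.1 i * e.2.2.realMap w.1 j =
        e.2.1.realMap w.1 j * e.2.2.realMap w.1 i} := by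
      ext w; simp [W]
    rw [this]
    refine isClosed_iInter fun i => isClosed_iInter fun j => ?_
    have c1 : ∀ (φ : e.1 ⟶ k) (i : Fin k.dim), Continuous fun w : Orth e.1 => φ.realMap w.1 i :=
      fun φ i => (continuous_apply i).comp ((continuous_realMap φ).comp continuous_subtype_val)
    exact isClosed_eq ((c1 _ i).mul (c1 _ j)) ((c1 _ j).mul (c1 _ i))
  · intro v w hv c hc hw
    rw [hW] at hv ⊢
    obtain ⟨d, hd, hvd⟩ := hv
    exact ⟨d, hd, by rw [hw, realMap_smul, realMap_smul, hvd, smul_comm]⟩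

/-- S19367 -/
theorem injective_iff_rational (ψ : F ⟶ G) (hF : F.IsQuasiSeparated) :
    Function.Injective (Fan.P.map ψ) ↔
      ∀ x y : Fan.P F, x.IsRational → y.IsRational → Fan.P.map ψ x = Fan.P.map ψ y → x = y := by
  constructor
  · intro h x y _ _ hxy
    exact h hxy
  · intro h x x' hxx'
    obtain ⟨n, ξ, v, rfl⟩ := mk_surj x
    obtain ⟨n', ξ', v', rfl⟩ := mk_surj x'
    rw [map_mk, map_mk] at hxx'
    obtain ⟨k, φ₁, φ₂, y, c₁, c₂, h1, h2, h3, h4, h5⟩ := common_of_mk_eq hxx'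
    rw [← NatTrans.naturality_apply, ← NatTrans.naturality_apply] at h1
    rw [← mk_map_eq φ₁ ξ y v c₁ h2 h4, ← mk_map_eq φ₂ ξ' y v' c₂ h3 h5]
    set η := F.map φ₁.op ξ with hη
    set η' := F.map φ₂.op ξ' with hη'
    refine eq_univ_of_intPt {y : Orth k | P.mk η y = P.mk η' y} (isClosed_eqLocus hF η η') ?_ ?_ y
    · intro v w hv c hc hw
      show P.mk η w = P.mk η' w
      rw [← mk_smul_eq η v w c hc hw, ← mk_smul_eq η' v w c hc hw]
      exact hv
    · intro r hr hr0
      apply h _ _ (isRational_mk_intPt η r hr hr0) (isRational_mk_intPt η' r hr hr0)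
      rw [map_mk, map_mk, h1]

end Groth.Agent.H29.Fan
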