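import Mathlib
import Groth.Prelude.Def_W4c6instabfans3FanCvx
import Groth.Agent.Lib.helper29.Fan6

/-! Fan7 (helper29): quasi-concave functions on convex subsets of `P F`. -/

set_option autoImplicit false

universe u v

namespace Groth.Agent.H29.Fan

open CategoryTheory Opposite Instab Instab.Fan Limits Filter Topology

variable {F : Fan.{u}}

lemma two_zero_ne_one : (0 : Fin Fan.two.dim) ≠ 1 := by
  show (0 : Fin 2) ≠ 1
  decide

lemma basis_apply {n : ICone} (i j : Fin n.dim) :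
    (Orth.basis n i).1 j = if j = i then 1 else 0 := rfl

/-- the point `e₀ + |t| e₁` of the punctured orthant of `ℝ²` -/
noncomputable def seg (t : ℝ) : Orth Fan.two :=
  ⟨(Orth.basis Fan.two 0).1 + |t| • (Orth.basis Fan.two 1).1, fun i => by
    simp only [Pi.add_apply, Pi.smul_apply, smul_eq_mul]
    exact add_nonneg ((Orth.basis Fan.two 0).2.1 i)
      (mul_nonneg (abs_nonneg t) ((Orth.basis Fan.two 1).2.1 i)), fun h => by
    have := congrFun h 0
    simp only [Pi.add_apply, Pi.smul_apply, smul_eq_mul, basis_apply, if_true, Pi.zero_apply,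
      if_neg two_zero_ne_one] at this
    linarith⟩

lemma seg_val (t : ℝ) :
    (seg t).1 = (Orth.basis Fan.two 0).1 + |t| • (Orth.basis Fan.two 1).1 := rfl

lemma seg_zero : seg 0 = Orth.basis Fan.two 0 := by
  apply Subtype.ext
  rw [seg_val, abs_zero, zero_smul, add_zero]

lemma continuous_seg : Continuous seg :=
  Continuous.subtype_mk (continuous_const.add (continuous_abs.smul continuous_const)) _

lemma basis_not_prop : ¬ ∃ c : ℝ, (Orth.basis Fan.two 1).1 = c • (Orth.basis Fan.two 0).1 := by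
  rintro ⟨c, hc⟩
  have := congrFun hc 1
  simp only [Pi.smul_apply, smul_eq_mul, basis_apply, if_true,
    if_neg (Ne.symm two_zero_ne_one)] at this
  linarith

section qc

variable {Γ : Type v} [LinearOrder Γ] {U : Set (P F)} (Φ : U → Γ)

/-- moving along a segment towards a point with a bigger value increases a quasi-concave
function -/
lemma not_isLocalMax_of_lt (hΦ : Fan.IsQuasiConcaveOn U Φ) (τ : F.obj (op Fan.two))
    (hτ : P.cell τ ⊆ U)
    (hlt : Φ ⟨P.mk τ (Orth.basis Fan.two 0), hτ ⟨_, rfl⟩⟩ < Φ ⟨P.mk τ (Orth.basis Fan.two 1), hτ ⟨_, rfl⟩⟩) :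
    ¬ IsLocalMax Φ ⟨P.mk τ (Orth.basis Fan.two 0), hτ ⟨_, rfl⟩⟩ := by
  intro hmax
  let Gm : ℝ → U := fun t => ⟨P.mk τ (seg t), hτ ⟨_, rfl⟩⟩
  have hG : Continuous Gm := Continuous.subtype_mk ((continuous_mk τ).comp continuous_seg) _
  have hG0 : Gm 0 = ⟨P.mk τ (Orth.basis Fan.two 0), hτ ⟨_, rfl⟩⟩ := by
    apply Subtype.ext
    show P.mk τ (seg 0) = _
    rw [seg_zero]
  have hev : ∀ᶠ t in 𝓝 (0 : ℝ), Φ (Gm t) ≤ Φ (Gm 0) := by
    have : Tendsto Gm (𝓝 0) (𝓝 (Gm 0)) := hG.continuousAt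
    rw [hG0] at this ⊢
    exact this.eventually hmax
  obtain ⟨ε, hε, hball⟩ := Metric.eventually_nhds_iff.mp hev
  have h1 : Φ (Gm (ε / 2)) ≤ Φ (Gm 0) := hball (by
    rw [Real.dist_eq, sub_zero, abs_of_pos (half_pos hε)]; linarith)
  have hq := hΦ Fan.two τ (Orth.basis Fan.two 0) (seg (ε / 2)) (Orth.basis Fan.two 1)
    (hτ ⟨_, rfl⟩) (hτ ⟨_, rfl⟩) (hτ ⟨_, rfl⟩) basis_not_prop
    ⟨1, |ε / 2|, one_pos, abs_pos.mpr (half_pos hε).ne', by rw [seg_val, one_smul]⟩
  rw [min_eq_left hlt.le] at hq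
  rw [hG0] at h1
  have h2 : Φ (Gm (ε / 2)) = Φ ⟨P.mk τ (Orth.basis Fan.two 0), hτ ⟨_, rfl⟩⟩ := le_antisymm h1 hq.1
  exact hlt.ne (hq.2 h2)

end qc

end Groth.Agent.H29.Fan
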