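import Mathlib
import Groth.Prelude.Def_W4c6instabfans3FanCvx
import Groth.Agent.Lib.helper29.Fan6

/-! Fan8 (helper29): sequences in the projective realization of a quasi-separated fan. -/

set_option autoImplicit false

universe u

namespace Groth.Agent.H29.Fan

open CategoryTheory Opposite Instab Instab.Fan Limits Filter Topology

variable {F : Fan.{u}}

/-- sum of the coordinates -/
def osum {n : ICone} (w : Orth n) : ℝ := ∑ i, w.1 i

lemma osum_pos {n : ICone} (w : Orth n) : 0 < osum w := by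
  obtain ⟨i, hi⟩ := Function.ne_iff.mp w.2.2
  have hipos : 0 < w.1 i := lt_of_le_of_ne (w.2.1 i) (Ne.symm hi)
  exact lt_of_lt_of_le hipos
    (Finset.single_le_sum (f := fun i => w.1 i) (fun j _ => w.2.1 j) (Finset.mem_univ i))

lemma continuous_osum {n : ICone} : Continuous (osum (n := n)) :=
  continuous_finset_sum _ fun i _ => (continuous_apply i).comp continuous_subtype_val

/-- normalization to the standard simplex -/
noncomputable def norm1 {n : ICone} (w : Orth n) : Orth n :=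
  orthSmul (1 / osum w) (one_div_pos.mpr (osum_pos w)) w

lemma norm1_val {n : ICone} (w : Orth n) : (norm1 w).1 = (1 / osum w) • w.1 := rfl

lemma mk_norm1 {n : ICone} (ξ : F.obj (op n)) (w : Orth n) : P.mk ξ (norm1 w) = P.mk ξ w :=
  (mk_smul_eq ξ w (norm1 w) _ (one_div_pos.mpr (osum_pos w)) rfl).symm

lemma norm1_mem_stdSimplex {n : ICone} (w : Orth n) : (norm1 w).1 ∈ stdSimplex ℝ (Fin n.dim) := by
  refine ⟨(norm1 w).2.1, ?_⟩
  simp only [norm1_val, Pi.smul_apply, smul_eq_mul]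
  rw [← Finset.mul_sum]
  exact one_div_mul_cancel (osum_pos w).ne'

lemma continuous_norm1_val {n : ICone} : Continuous (fun w : Orth n => (norm1 w).1) := by
  simp only [norm1_val]
  exact ((continuous_const.div continuous_osum fun w => (osum_pos w).ne').smul
    continuous_subtype_val)

lemma norm1_smul {n : ICone} (w w' : Orth n) (c : ℝ) (hc : 0 < c) (h : w'.1 = c • w.1) :
    norm1 w' = norm1 w := by
  apply Subtype.ext
  have hs : osum w' = c * osum w := by
    simp only [osum, h, Pi.smul_apply, smul_eq_mul, Finset.mul_sum]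
  rw [norm1_val, norm1_val, hs, h, smul_smul]
  congr 1
  have := (osum_pos w).ne'
  field_simp

lemma norm1_of_mem {n : ICone} (w : Orth n) (h : w.1 ∈ stdSimplex ℝ (Fin n.dim)) : norm1 w = w := by
  apply Subtype.ext
  have : osum w = 1 := h.2
  rw [norm1_val, this, div_one, one_smul]

lemma isClosed_ray {n : ICone} (w : Orth n) :
    IsClosed {w' : Orth n | ∃ c : ℝ, 0 < c ∧ w'.1 = c • w.1} := by
  have : {w' : Orth n | ∃ c : ℝ, 0 < c ∧ w'.1 = c • w.1} =
      ⋂ i, ⋂ j, {w' : Orth n | w'.1 i * w.1 j = w'.1 j * w.1 i} := by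
    ext w'
    simp only [Set.mem_setOf_eq, Set.mem_iInter]
    exact posProp_iff _ _ w'.2.1 w.2.1 w'.2.2 w.2.2
  rw [this]
  refine isClosed_iInter fun i => isClosed_iInter fun j => ?_
  have c1 : ∀ i : Fin n.dim, Continuous fun w' : Orth n => w'.1 i :=
    fun i => (continuous_apply i).comp continuous_subtype_val
  exact isClosed_eq ((c1 i).mul continuous_const) ((c1 j).mul continuous_const)

theorem isClosed_singleton_pt (hF : F.IsQuasiSeparated) (p : P F) : IsClosed ({p} : Set (P F)) := by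
  obtain ⟨n, ξ, w, rfl⟩ := mk_surj p
  have h := isClosed_image_mk hF ξ _ (isClosed_ray w) (by
    rintro v v' ⟨c, hc, hv⟩ d hd hv'
    exact ⟨d * c, mul_pos hd hc, by rw [hv', hv, smul_smul]⟩)
  have : P.mk ξ '' {w' : Orth n | ∃ c : ℝ, 0 < c ∧ w'.1 = c • w.1} = {P.mk ξ w} := by
    ext q
    simp only [Set.mem_image, Set.mem_setOf_eq, Set.mem_singleton_iff]
    constructor
    · rintro ⟨w', ⟨c, hc, hw'⟩, rfl⟩
      exact (mk_smul_eq ξ w w' c hc hw').symm
    · rintro rfl
      exact ⟨w, ⟨1, one_pos, by simp⟩, rfl⟩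
  rwa [this] at h

/-- S19369 -/
theorem exists_subseq_lift (hF : F.IsQuasiSeparated)
    (x : ℕ → Fan.P F) (x₀ : Fan.P F) (hx : Filter.Tendsto x Filter.atTop (nhds x₀)) :
    ∃ (n : ICone) (σ : F.obj (op n)) (r : ℕ → ℕ) (v : ℕ → Fan.Orth n) (v₀ : Fan.Orth n),
      StrictMono r ∧ (∀ j, Fan.P.mk σ (v j) = x (r j)) ∧ Fan.P.mk σ v₀ = x₀ ∧
        Filter.Tendsto v Filter.atTop (nhds v₀) := by
  classical
  by_cases hfreq : ∃ᶠ j in atTop, x j = x₀
  · obtain ⟨r, hr, hrx⟩ := extraction_of_frequently_atTop hfreq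
    obtain ⟨n, σ, v₀, rfl⟩ := mk_surj x₀
    exact ⟨n, σ, r, fun _ => v₀, v₀, hr, fun j => (hrx j).symm, rfl, tendsto_const_nhds⟩
  rw [not_frequently] at hfreq
  -- some cell contains infinitely many terms
  have hcellfreq : ∃ (n : ICone) (σ : F.obj (op n)), ∃ᶠ j in atTop, x j ∈ P.cell σ := by
    by_contra hno
    push Not at hno
    have hev : ∀ (n : ICone) (σ : F.obj (op n)), ∀ᶠ j in atTop, x j ∉ P.cell σ :=
      fun n σ => hno n σ
    let T : Set (P F) := {p | ∃ j, x j = p ∧ p ≠ x₀}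
    have hT : IsClosed T := by
      rw [isClosed_iff]
      intro n ξ
      obtain ⟨J, hJ⟩ := eventually_atTop.mp (hev n ξ)
      have hset : P.mk ξ ⁻¹' T = ⋃ j ∈ Finset.range J,
          (if x j ≠ x₀ then P.mk ξ ⁻¹' {x j} else ∅) := by
        ext w
        simp only [Set.mem_preimage, Set.mem_iUnion, Finset.mem_range, exists_prop, T,
          Set.mem_setOf_eq]
        constructor
        · rintro ⟨j, hj, hne⟩
          have hjJ : j < J := by
            by_contra hge
            exact hJ j (not_lt.mp hge) (hj ▸ ⟨w, rfl⟩)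
          refine ⟨j, hjJ, ?_⟩
          rw [if_pos (hj ▸ hne)]
          exact hj.symm
        · rintro ⟨j, _, hw⟩
          by_cases hne : x j ≠ x₀
          · rw [if_pos hne] at hw
            exact ⟨j, hw.symm, hw ▸ hne⟩
          · rw [if_neg hne] at hw
            exact absurd hw (Set.notMem_empty _)
      rw [hset]
      refine isClosed_biUnion_finset fun j _ => ?_
      split_ifs
      · exact (isClosed_singleton_pt hF (x j)).preimage (continuous_mk ξ)
      · exact isClosed_empty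
    have hx₀T : x₀ ∉ T := fun ⟨j, _, hne⟩ => hne rfl
    have : ∀ᶠ j in atTop, x j ∈ Tᶜ := hx.eventually (hT.isOpen_compl.mem_nhds hx₀T)
    obtain ⟨j, hj1, hj2⟩ := (this.and hfreq).exists
    exact hj1 ⟨j, rfl, hj2⟩
  obtain ⟨n, σ, hσfreq⟩ := hcellfreq
  obtain ⟨r₁, hr₁, hr₁x⟩ := extraction_of_frequently_atTop hσfreq
  choose w hw using hr₁x
  -- w j : Orth n with mk σ (w j) = x (r₁ j)
  obtain ⟨a, ha, r₂, hr₂, hlim⟩ := (isCompact_stdSimplex ℝ (Fin n.dim)).tendsto_subseq
    (x := fun j => (norm1 (w j)).1) (fun j => norm1_mem_stdSimplex (w j))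
  have ha0 : a ≠ 0 := by
    rintro rfl
    have := ha.2
    simp at this
  let v₀ : Orth n := ⟨a, ha.1, ha0⟩
  let v : ℕ → Orth n := fun j => norm1 (w (r₂ j))
  have hv : Tendsto v atTop (𝓝 v₀) := tendsto_subtype_rng.mpr hlim
  have hvx : ∀ j, P.mk σ (v j) = x (r₁ (r₂ j)) := fun j => by
    rw [mk_norm1]; exact hw (r₂ j)
  have hr : StrictMono (r₁ ∘ r₂) := hr₁.comp hr₂
  refine ⟨n, σ, r₁ ∘ r₂, v, v₀, hr, hvx, ?_, hv⟩
  by_contra hne
  -- eventually x (r j) ≠ x₀
  obtain ⟨J₀, hJ₀⟩ := eventually_atTop.mp hfreq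
  let K : Set (Fin n.dim → ℝ) := insert a (Set.range fun j => (v (j + J₀)).1)
  have hK : IsCompact K := by
    have : Tendsto (fun j => (v (j + J₀)).1) atTop (𝓝 a) :=
      (tendsto_subtype_rng.mp hv).comp (tendsto_add_atTop_nat J₀)
    exact this.isCompact_insert_range
  let S : Set (Orth n) := (fun w : Orth n => (norm1 w).1) ⁻¹' K
  have hS : IsClosed S := hK.isClosed.preimage continuous_norm1_val
  have hScone : ∀ v w : Fan.Orth n, v ∈ S → ∀ c : ℝ, 0 < c → w.1 = c • v.1 → w ∈ S := by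
    intro v w hv c hc hw
    show (norm1 w).1 ∈ K
    rw [norm1_smul v w c hc hw]
    exact hv
  have hTS := isClosed_image_mk hF σ S hS hScone
  have hx₀S : x₀ ∉ P.mk σ '' S := by
    rintro ⟨w', hw', hw'x⟩
    have hw'K : (norm1 w').1 ∈ K := hw'
    rcases hw'K with h | ⟨j, hj⟩
    · apply hne
      rw [← hw'x, ← mk_norm1 σ w']
      congr 1
      exact Subtype.ext h.symm
    · have h1 : P.mk σ w' = x (r₁ (r₂ (j + J₀))) := by
        rw [← mk_norm1 σ w', ← hvx]
        congr 1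
        exact Subtype.ext hj.symm
      have h2 : J₀ ≤ r₁ (r₂ (j + J₀)) :=
        le_trans (Nat.le_add_left _ _) (hr.id_le (j + J₀))
      exact hJ₀ _ h2 (h1.symm.trans hw'x)
  have hsub : Tendsto (x ∘ (r₁ ∘ r₂)) atTop (𝓝 x₀) := hx.comp hr.tendsto_atTop
  have hev : ∀ᶠ j in atTop, (x ∘ (r₁ ∘ r₂)) j ∈ (P.mk σ '' S)ᶜ :=
    hsub.eventually (hTS.isOpen_compl.mem_nhds hx₀S)
  obtain ⟨J₁, hJ₁⟩ := eventually_atTop.mp hev
  apply hJ₁ (J₁ + J₀) (Nat.le_add_right _ _)
  refine ⟨v (J₁ + J₀), ?_, hvx _⟩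
  show (norm1 (v (J₁ + J₀))).1 ∈ K
  rw [norm1_of_mem _ (norm1_mem_stdSimplex _)]
  exact Set.mem_insert_of_mem _ ⟨J₁, rfl⟩

end Groth.Agent.H29.Fan
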