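import Mathlib
import Groth.Prelude.Def_W4c6instabfans3FanCvx
import Groth.Agent.Lib.helper29.Fan7

/-! Fan9 (helper29): uniqueness of local maxima of strictly quasi-concave functions on compact
convex subsets of a Hausdorff projective realization. -/

set_option autoImplicit false

universe u v

namespace Groth.Agent.H29.Fan

open CategoryTheory Opposite Instab Instab.Fan Limits Filter Topology

variable {F : Fan.{u}}

lemma orth_add_nonneg {n : ICone} (a b : Fin n.dim → ℝ) (ha : ∀ i, 0 ≤ a i) (hb : ∀ i, 0 ≤ b i)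
    (ha0 : a ≠ 0) : a + b ≠ 0 := by
  intro h
  apply ha0
  funext i
  have := congrFun h i
  simp only [Pi.add_apply, Pi.zero_apply] at this
  have h1 := ha i
  have h2 := hb i
  show a i = 0
  linarith

instance orth_preconnected (n : ICone) : PreconnectedSpace (Orth n) := by
  have hconv : Convex ℝ {v : Fin n.dim → ℝ | (∀ i, 0 ≤ v i) ∧ v ≠ 0} := by
    intro x hx y hy a b ha hb hab
    refine ⟨fun i => ?_, ?_⟩
    · simp only [Pi.add_apply, Pi.smul_apply, smul_eq_mul]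
      exact add_nonneg (mul_nonneg ha (hx.1 i)) (mul_nonneg hb (hy.1 i))
    · rcases ha.eq_or_lt with ha0 | ha0
      · subst ha0
        have : b = 1 := by linarith
        subst this
        simpa using hy.2
      · apply orth_add_nonneg
        · intro i; exact mul_nonneg ha (hx.1 i)
        · intro i; exact mul_nonneg hb (hy.1 i)
        · intro h
          apply hx.2
          have := smul_eq_zero.mp h
          rcases this with h | h
          · exact absurd h ha0.ne'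
          · exact h
  exact isPreconnected_iff_preconnectedSpace.mp hconv.isPreconnected

lemma isPreconnected_cell {n : ICone} (ξ : F.obj (op n)) : IsPreconnected (P.cell ξ) :=
  isPreconnected_range (continuous_mk ξ)

/-- the point `u₀ + |s| w₀` -/
noncomputable def segN {n : ICone} (u₀ w₀ : Orth n) (s : ℝ) : Orth n :=
  ⟨u₀.1 + |s| • w₀.1, fun i => add_nonneg (u₀.2.1 i) (mul_nonneg (abs_nonneg s) (w₀.2.1 i)),
    orth_add_nonneg _ _ u₀.2.1 (fun i => mul_nonneg (abs_nonneg s) (w₀.2.1 i)) u₀.2.2⟩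

lemma segN_val {n : ICone} (u₀ w₀ : Orth n) (s : ℝ) : (segN u₀ w₀ s).1 = u₀.1 + |s| • w₀.1 := rfl

lemma segN_zero {n : ICone} (u₀ w₀ : Orth n) : segN u₀ w₀ 0 = u₀ := by
  apply Subtype.ext
  rw [segN_val, abs_zero, zero_smul, add_zero]

lemma continuous_segN {n : ICone} (u₀ w₀ : Orth n) : Continuous (segN u₀ w₀) :=
  Continuous.subtype_mk (continuous_const.add (continuous_abs.smul continuous_const)) _

section main

variable {Γ : Type v} [LinearOrder Γ] {U : Set (P F)} (Φ : U → Γ)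

/-- at a local maximum, every other point of a cell through it has a strictly smaller value -/
theorem lt_of_isLocalMax (hlc : Fan.IsLocallyConvex U) (hΦ : Fan.IsStrictQuasiConcaveOn U Φ)
    (x : U) (hx : IsLocalMax Φ x) {n : ICone} (ζ : F.obj (op n)) (u₀ w₀ : Orth n)
    (h0 : P.mk ζ u₀ = x.1) (hq : P.mk ζ w₀ ∈ U) (hne : P.mk ζ w₀ ≠ x.1) : Φ ⟨_, hq⟩ < Φ x := by
  by_contra hge
  rw [not_lt] at hge
  have hu₀U : P.mk ζ u₀ ∈ U := h0 ▸ x.2
  have hx0 : (⟨P.mk ζ u₀, hu₀U⟩ : U) = x := Subtype.ext h0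
  have hnp : ¬ ∃ c : ℝ, w₀.1 = c • u₀.1 := by
    rintro ⟨c, hc⟩
    apply hne
    rw [← h0]
    obtain ⟨i, hi⟩ := Function.ne_iff.mp u₀.2.2
    have hipos : 0 < u₀.1 i := lt_of_le_of_ne (u₀.2.1 i) (Ne.symm hi)
    have hcpos : 0 < c := by
      rcases lt_trichotomy c 0 with h | h | h
      · have h1 := w₀.2.1 i
        rw [hc] at h1
        simp only [Pi.smul_apply, smul_eq_mul] at h1
        nlinarith
      · exfalso
        apply w₀.2.2
        rw [hc, h, zero_smul]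
      · exact h
    exact (mk_smul_eq ζ u₀ w₀ c hcpos hc).symm
  have hsegU : ∀ s : ℝ, P.mk ζ (segN u₀ w₀ s) ∈ U := by
    intro s
    by_cases hs : s = 0
    · rw [hs, segN_zero]; exact hu₀U
    · exact hlc n ζ u₀ (segN u₀ w₀ s) w₀ hu₀U hq
        ⟨1, |s|, one_pos, abs_pos.mpr hs, by rw [segN_val, one_smul]⟩
  let Gm : ℝ → U := fun s => ⟨P.mk ζ (segN u₀ w₀ s), hsegU s⟩
  have hG : Continuous Gm := Continuous.subtype_mk ((continuous_mk ζ).comp (continuous_segN u₀ w₀)) _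
  have hG0 : Gm 0 = x := by
    apply Subtype.ext
    show P.mk ζ (segN u₀ w₀ 0) = _
    rw [segN_zero]; exact h0
  have hev : ∀ᶠ t in 𝓝 (0 : ℝ), Φ (Gm t) ≤ Φ x := by
    have : Tendsto Gm (𝓝 0) (𝓝 (Gm 0)) := hG.continuousAt
    rw [hG0] at this
    exact this.eventually hx
  obtain ⟨ε, hε, hball⟩ := Metric.eventually_nhds_iff.mp hev
  have h1 : Φ (Gm (ε / 2)) ≤ Φ x := hball (by
    rw [Real.dist_eq, sub_zero, abs_of_pos (half_pos hε)]; linarith)
  have hq' := hΦ n ζ u₀ (segN u₀ w₀ (ε / 2)) w₀ hu₀U (hsegU _) hq hnp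
    ⟨1, |ε / 2|, one_pos, abs_pos.mpr (half_pos hε).ne', by rw [segN_val, one_smul]⟩
  rw [hx0, min_eq_left hge] at hq'
  exact absurd h1 (not_le.mpr hq')

lemma two_cases : ∀ i : Fin Fan.two.dim, i = 0 ∨ i = 1 := by
  show ∀ i : Fin 2, i = 0 ∨ i = 1
  decide

lemma orth_two_decomp (u : Orth Fan.two) :
    u.1 = u.1 0 • (Orth.basis Fan.two 0).1 + u.1 1 • (Orth.basis Fan.two 1).1 := by
  funext i
  simp only [Pi.add_apply, Pi.smul_apply, smul_eq_mul, basis_apply]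
  rcases two_cases i with rfl | rfl
  · simp [two_zero_ne_one]
  · simp [Ne.symm two_zero_ne_one]

/-- rational points are dense in a realizable set -/
lemma exists_rational_mem_open (S : Subfunctor F) (hS : U = Set.range (P.map S.ι))
    (O : Set U) (hO : IsOpen O) (z : U) (hz : z ∈ O) : ∃ a : U, a ∈ O ∧ a.1.IsRational := by
  have hzU : z.1 ∈ Set.range (P.map S.ι) := hS ▸ z.2
  obtain ⟨n, ξ, v, hξ, hzv⟩ := (mem_range_map_ι S _).mp hzU
  have hcell : ∀ w : Orth n, P.mk ξ w ∈ U := by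
    intro w
    rw [hS, mem_range_map_ι]
    exact ⟨n, ξ, w, hξ, rfl⟩
  let g : Orth n → U := fun w => ⟨P.mk ξ w, hcell w⟩
  have hg : Continuous g := Continuous.subtype_mk (continuous_mk ξ) _
  have hgv : g v = z := Subtype.ext hzv.symm
  have hE : IsClosed (g ⁻¹' Oᶜ) := hO.isClosed_compl.preimage hg
  by_contra hno
  push Not at hno
  have := eq_univ_of_intPt _ hE (fun v w hv c hc hw => by
      have : g w = g v := Subtype.ext (mk_smul_eq ξ v w c hc hw).symm
      show g w ∈ Oᶜ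
      rw [this]; exact hv)
    (fun r hr hr0 => fun h => hno (g (intPt r hr hr0)) h (isRational_mk_intPt ξ r hr hr0)) v
  have h1 : g v ∈ Oᶜ := this
  rw [hgv] at h1
  exact h1 hz

variable [TopologicalSpace Γ] [OrderTopology Γ]

theorem eq_of_isLocalMax_of_le [T2Space (P F)] (hUc : IsCompact U) (hU : Fan.IsConvex U)
    (hΦc : Continuous Φ) (hΦ : Fan.IsStrictQuasiConcaveOn U Φ) (x y : U)
    (hx : IsLocalMax Φ x) (hxy : Φ x ≤ Φ y) : x = y := by
  by_contra hne
  have H : ∀ {n : ICone} (ζ : F.obj (op n)) (u₀ w₀ : Orth n), P.mk ζ u₀ = x.1 →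
      ∀ hq : P.mk ζ w₀ ∈ U, P.mk ζ w₀ ≠ x.1 → Φ ⟨_, hq⟩ < Φ x :=
    fun ζ u₀ w₀ h0 hq hne => lt_of_isLocalMax Φ hU.1 hΦ x hx ζ u₀ w₀ h0 hq hne
  obtain ⟨hlc, ⟨S, hS⟩, hconv⟩ := hU
  have hUcl : IsClosed U := hUc.isClosed
  let W'' : Set (P F) := Subtype.val '' {q : U | Φ x ≤ Φ q}
  have hW''cl : IsClosed W'' :=
    hUcl.isClosedEmbedding_subtypeVal.isClosedMap _ (isClosed_le continuous_const hΦc)
  let W : Set (P F) := W'' \ {x.1}
  have hWcl : IsClosed W := by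
    rw [isClosed_iff]
    intro n ξ
    by_cases hxc : ∃ u₀, P.mk ξ u₀ = x.1
    · obtain ⟨u₀, hu₀⟩ := hxc
      have : P.mk ξ ⁻¹' W = ∅ := by
        ext w
        simp only [Set.mem_preimage, Set.mem_empty_iff_false, iff_false]
        rintro ⟨⟨q, hq, hqw⟩, hnex⟩
        have hwU : P.mk ξ w ∈ U := hqw ▸ q.2
        have h1 := H ξ u₀ w hu₀ hwU hnex
        have h2 : (⟨P.mk ξ w, hwU⟩ : U) = q := Subtype.ext hqw.symm
        rw [h2] at h1
        exact absurd hq (not_le.mpr h1)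
      rw [this]; exact isClosed_empty
    · have : P.mk ξ ⁻¹' W = P.mk ξ ⁻¹' W'' := by
        ext w
        simp only [Set.mem_preimage, W, Set.mem_diff, Set.mem_singleton_iff, and_iff_left_iff_imp]
        intro _ h
        exact hxc ⟨w, h⟩
      rw [this]; exact hW''cl.preimage (continuous_mk ξ)
  have hWU : W ⊆ U := by
    rintro _ ⟨⟨q, _, rfl⟩, _⟩
    exact q.2
  have hWc : IsCompact W := hUc.of_isClosed_subset hWcl hWU
  have hyW : y.1 ∈ W := ⟨⟨y, hxy, rfl⟩, fun h => hne (Subtype.ext h).symm⟩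
  have hdisj0 : Disjoint ({x.1} : Set (P F)) W := by
    rw [Set.disjoint_singleton_left]
    exact fun h => h.2 rfl
  obtain ⟨V₁, V₂, hV₁, hV₂, hxV₁, hWV₂, hdisj⟩ :=
    SeparatedNhds.of_isCompact_isCompact isCompact_singleton hWc hdisj0
  have hxV₁' : x.1 ∈ V₁ := hxV₁ rfl
  let K : Set (P F) := U \ (V₁ ∪ V₂)
  have hKc : IsCompact K := hUc.diff (hV₁.union hV₂)
  have hKlt : ∀ k : U, k.1 ∈ K → Φ k < Φ x := by
    intro k hk
    by_contra hge
    rw [not_lt] at hge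
    by_cases hkx : k.1 = x.1
    · exact hk.2 (Or.inl (hkx ▸ hxV₁'))
    · exact hk.2 (Or.inr (hWV₂ ⟨⟨k, hge, rfl⟩, hkx⟩))
  have hN : ∃ N : Set U, IsOpen N ∧ x ∈ N ∧ y ∈ N ∧ ∀ q ∈ N, ∀ p : U, Φ q ≤ Φ p → p.1 ∉ K := by
    rcases K.eq_empty_or_nonempty with hK | hK
    · exact ⟨Set.univ, isOpen_univ, trivial, trivial, fun _ _ p _ hp => by
        rw [hK] at hp; exact hp⟩
    · have hK'c : IsCompact (Subtype.val ⁻¹' K : Set U) :=
        hUcl.isClosedEmbedding_subtypeVal.isCompact_preimage hKc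
      have hK'ne : (Subtype.val ⁻¹' K : Set U).Nonempty := by
        obtain ⟨k, hk⟩ := hK
        exact ⟨⟨k, hk.1⟩, hk⟩
      obtain ⟨k₀, hk₀, hmax⟩ := hK'c.exists_isMaxOn hK'ne hΦc.continuousOn
      refine ⟨{q | Φ k₀ < Φ q}, isOpen_lt continuous_const hΦc, hKlt k₀ hk₀,
        lt_of_lt_of_le (hKlt k₀ hk₀) hxy, ?_⟩
      intro q hq p hqp hp
      have h1 : Φ p ≤ Φ k₀ := hmax hp
      have h2 : Φ k₀ < Φ q := hq
      exact absurd (lt_of_lt_of_le h2 hqp) (not_lt.mpr h1)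
  obtain ⟨N, hNo, hxN, hyN, hNK⟩ := hN
  obtain ⟨a, ⟨haN, haV⟩, har⟩ := exists_rational_mem_open S hS (N ∩ Subtype.val ⁻¹' V₁)
    (hNo.inter (hV₁.preimage continuous_subtype_val)) x ⟨hxN, hxV₁'⟩
  obtain ⟨b, ⟨hbN, hbV⟩, hbr⟩ := exists_rational_mem_open S hS (N ∩ Subtype.val ⁻¹' V₂)
    (hNo.inter (hV₂.preimage continuous_subtype_val)) y ⟨hyN, hWV₂ hyW⟩
  have hab : a.1 ≠ b.1 := by
    intro h
    have h1 : a.1 ∈ V₁ := haV
    have h2 : a.1 ∈ V₂ := h ▸ hbV
    exact Set.disjoint_left.mp hdisj h1 h2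
  obtain ⟨τ, hτ, hτ0, hτ1⟩ := hconv a.1 b.1 a.2 b.2 har hbr hab
  have ha0 : (⟨P.mk τ (Orth.basis Fan.two 0), hτ ⟨_, rfl⟩⟩ : U) = a := Subtype.ext hτ0
  have hb1 : (⟨P.mk τ (Orth.basis Fan.two 1), hτ ⟨_, rfl⟩⟩ : U) = b := Subtype.ext hτ1
  have hcellV : P.cell τ ⊆ V₁ ∪ V₂ := by
    rintro _ ⟨u, rfl⟩
    have hpU : P.mk τ u ∈ U := hτ ⟨u, rfl⟩
    by_contra hnot
    have hpK : P.mk τ u ∈ K := ⟨hpU, hnot⟩
    have hs := u.2.1 0
    have ht := u.2.1 1
    rcases hs.eq_or_lt with hs0 | hs0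
    · -- u = t e₁
      have htpos : 0 < u.1 1 := by
        rcases ht.eq_or_lt with ht0 | ht0
        · exfalso
          apply u.2.2
          have hd := orth_two_decomp u
          rw [← hs0, ← ht0, zero_smul, zero_smul, add_zero] at hd
          exact hd
        · exact ht0
      have : P.mk τ u = b.1 := by
        rw [← hτ1]
        exact (mk_smul_eq τ _ u (u.1 1) htpos (by
          have hd := orth_two_decomp u
          rw [← hs0, zero_smul, zero_add] at hd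
          exact hd)).symm
      exact hNK b hbN ⟨_, hpU⟩ (by rw [show (⟨P.mk τ u, hpU⟩ : U) = b from Subtype.ext this]) hpK
    rcases ht.eq_or_lt with ht0 | ht0
    · have : P.mk τ u = a.1 := by
        rw [← hτ0]
        exact (mk_smul_eq τ _ u (u.1 0) hs0 (by
          have hd := orth_two_decomp u
          rw [← ht0, zero_smul, add_zero] at hd
          exact hd)).symm
      exact hNK a haN ⟨_, hpU⟩ (by rw [show (⟨P.mk τ u, hpU⟩ : U) = a from Subtype.ext this]) hpK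
    have hq := hΦ Fan.two τ (Orth.basis Fan.two 0) u (Orth.basis Fan.two 1)
      (hτ ⟨_, rfl⟩) hpU (hτ ⟨_, rfl⟩) basis_not_prop ⟨u.1 0, u.1 1, hs0, ht0, orth_two_decomp u⟩
    rw [ha0, hb1] at hq
    rcases le_total (Φ a) (Φ b) with hle | hle
    · rw [min_eq_left hle] at hq
      exact hNK a haN ⟨_, hpU⟩ hq.le hpK
    · rw [min_eq_right hle] at hq
      exact hNK b hbN ⟨_, hpU⟩ hq.le hpK
  have hpre := isPreconnected_cell τ V₁ V₂ hV₁ hV₂ hcellV
    ⟨a.1, ⟨_, hτ0⟩, haV⟩ ⟨b.1, ⟨_, hτ1⟩, hbV⟩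
  obtain ⟨p, _, hp1, hp2⟩ := hpre
  exact Set.disjoint_left.mp hdisj hp1 hp2

end main

end Groth.Agent.H29.Fan
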