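import Mathlib.RingTheory.HopfAlgebra.Convolution
import Mathlib.RingTheory.TensorProduct.Maps
import Mathlib.Tactic

/-!
The "translation" automorphism of `S ⊗ A` over `S` attached to an `A`-valued point `j : A → S` of a
commutative Hopf algebra `A` (helper29): `s ⊗ a ↦ Σ (s · j a₁) ⊗ a₂`.
-/

set_option autoImplicit false
set_option linter.unusedSectionVars false
universe u v w

open TensorProduct WithConv

namespace Groth.Agent.Lib.helper29.GaloisMap

variable {k : Type u} [CommRing k] {A : Type v} [CommRing A] [HopfAlgebra k A]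
variable {S : Type w} [CommRing S] [Algebra k S]

/-- the `S`-algebra endomorphism of `S ⊗ A` determined by an algebra map `f : A → S ⊗ A` -/
noncomputable def E (f : A →ₐ[k] S ⊗[k] A) : S ⊗[k] A →ₐ[S] S ⊗[k] A :=
  Algebra.TensorProduct.lift (Algebra.ofId S (S ⊗[k] A)) f (fun _ _ => Commute.all _ _)

@[simp] lemma one_tmul_one_mul (x : S ⊗[k] A) : ((1 : S) ⊗ₜ[k] (1 : A)) * x = x := by
  rw [← Algebra.TensorProduct.one_def, one_mul]

@[simp] lemma E_tmul (f : A →ₐ[k] S ⊗[k] A) (s : S) (a : A) :
    E f (s ⊗ₜ[k] a) = (s ⊗ₜ[k] (1 : A)) * f a := by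
  rw [E, Algebra.TensorProduct.lift_tmul, Algebra.ofId_apply,
    Algebra.TensorProduct.algebraMap_apply]
  rfl

lemma E_comp_includeRight (f : A →ₐ[k] S ⊗[k] A) :
    ((E f).restrictScalars k).comp Algebra.TensorProduct.includeRight = f := by
  apply AlgHom.ext
  intro a
  simp

lemma E_comp_includeLeft (f : A →ₐ[k] S ⊗[k] A) (j : A →ₐ[k] S) :
    ((E f).restrictScalars k).comp
      ((Algebra.TensorProduct.includeLeft : S →ₐ[k] S ⊗[k] A).comp j) =
      (Algebra.TensorProduct.includeLeft : S →ₐ[k] S ⊗[k] A).comp j := by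
  apply AlgHom.ext
  intro a
  simp

lemma E_comp (f g : A →ₐ[k] S ⊗[k] A) :
    (E f).comp (E g) = E (((E f).restrictScalars k).comp g) := by
  apply Algebra.TensorProduct.ext
  · apply AlgHom.ext
    intro s
    simp
  · apply AlgHom.ext
    intro a
    simp

lemma E_includeRight :
    E (Algebra.TensorProduct.includeRight : A →ₐ[k] S ⊗[k] A) = AlgHom.id S (S ⊗[k] A) := by
  apply Algebra.TensorProduct.ext
  · apply AlgHom.ext
    intro s
    simp
  · apply AlgHom.ext
    intro a
    simp

section Conv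

variable {C : Type w} [CommRing C] [Algebra k C]

lemma conv_antipode_left (j : A →ₐ[k] C) :
    toConv (j.comp (HopfAlgebra.antipodeAlgHom k A)) * toConv j = 1 := by
  have h := AlgHom.comp_convMul_distrib j (toConv (HopfAlgebra.antipodeAlgHom k A))
    (toConv (AlgHom.id k A))
  rw [AlgHom.antipode_id_cancel] at h
  simp only [ofConv_toConv, AlgHom.comp_id] at h
  apply WithConv.ofConv_injective
  rw [← h]
  apply AlgHom.ext
  intro a
  simp [AlgHom.convOne_def]

lemma id_antipode_cancel :
    toConv (AlgHom.id k A) * toConv (HopfAlgebra.antipodeAlgHom k A) = 1 := by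
  apply WithConv.ofConv_injective
  apply AlgHom.toLinearMap_injective
  apply WithConv.toConv_injective
  rw [AlgHom.toLinearMap_convMul, AlgHom.toLinearMap_convOne]
  simp [LinearMap.id_mul_antipode]

lemma conv_antipode_right (j : A →ₐ[k] C) :
    toConv j * toConv (j.comp (HopfAlgebra.antipodeAlgHom k A)) = 1 := by
  have h := AlgHom.comp_convMul_distrib j (toConv (AlgHom.id k A))
    (toConv (HopfAlgebra.antipodeAlgHom k A))
  rw [id_antipode_cancel] at h
  simp only [ofConv_toConv, AlgHom.comp_id] at h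
  apply WithConv.ofConv_injective
  rw [← h]
  apply AlgHom.ext
  intro a
  simp [AlgHom.convOne_def]

end Conv

variable (j : A →ₐ[k] S)

/-- `a ↦ Σ j(a₁) ⊗ a₂` -/
noncomputable def g : A →ₐ[k] S ⊗[k] A :=
  (toConv ((Algebra.TensorProduct.includeLeft : S →ₐ[k] S ⊗[k] A).comp j) *
    toConv (Algebra.TensorProduct.includeRight : A →ₐ[k] S ⊗[k] A)).ofConv

/-- `a ↦ Σ j(S a₁) ⊗ a₂` -/
noncomputable def g' : A →ₐ[k] S ⊗[k] A :=
  (toConv (((Algebra.TensorProduct.includeLeft : S →ₐ[k] S ⊗[k] A).comp j).comp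
      (HopfAlgebra.antipodeAlgHom k A)) *
    toConv (Algebra.TensorProduct.includeRight : A →ₐ[k] S ⊗[k] A)).ofConv

theorem E_g'_comp_E_g : (E (g' j)).comp (E (g j)) = AlgHom.id S (S ⊗[k] A) := by
  rw [E_comp, ← E_includeRight]
  congr 1
  unfold g
  rw [AlgHom.comp_convMul_distrib]
  simp only [ofConv_toConv]
  rw [E_comp_includeLeft, E_comp_includeRight]
  unfold g'
  rw [toConv_ofConv, ← mul_assoc, conv_antipode_right, one_mul, ofConv_toConv]

theorem E_g_comp_E_g' : (E (g j)).comp (E (g' j)) = AlgHom.id S (S ⊗[k] A) := by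
  rw [E_comp, ← E_includeRight]
  congr 1
  unfold g'
  rw [AlgHom.comp_convMul_distrib]
  simp only [ofConv_toConv]
  rw [← AlgHom.comp_assoc, E_comp_includeLeft, E_comp_includeRight]
  unfold g
  rw [toConv_ofConv, ← mul_assoc, conv_antipode_left, one_mul, ofConv_toConv]

/-- the translation automorphism -/
noncomputable def Psi : S ⊗[k] A ≃ₐ[S] S ⊗[k] A :=
  AlgEquiv.ofAlgHom (E (g j)) (E (g' j)) (E_g_comp_E_g' j) (E_g'_comp_E_g j)

lemma Psi_apply (x : S ⊗[k] A) : Psi j x = E (g j) x := rfl

lemma g_apply (a : A) :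
    g j a = Algebra.TensorProduct.map j (AlgHom.id k A) (CoalgebraStruct.comul (R := k) a) := by
  unfold g
  rw [AlgHom.convMul_apply]
  simp only [ofConv_toConv]
  generalize CoalgebraStruct.comul (R := k) a = t
  induction t using TensorProduct.induction_on with
  | zero => simp
  | tmul x y => simp
  | add x y hx hy => simp only [map_add, hx, hy]

lemma g'_apply (a : A) :
    g' j a = Algebra.TensorProduct.map (j.comp (HopfAlgebra.antipodeAlgHom k A)) (AlgHom.id k A)
      (CoalgebraStruct.comul (R := k) a) := by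
  unfold g'
  rw [AlgHom.convMul_apply]
  simp only [ofConv_toConv]
  generalize CoalgebraStruct.comul (R := k) a = t
  induction t using TensorProduct.induction_on with
  | zero => simp
  | tmul x y => simp
  | add x y hx hy => simp only [map_add, hx, hy]

end Groth.Agent.Lib.helper29.GaloisMap
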