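/-
helper29: the module of Kähler differentials of a commutative Hopf algebra over a field is free.
-/
import Mathlib
import Groth.Agent.Lib.helper29.GaloisMap

set_option autoImplicit false
universe u v

open TensorProduct Groth.Agent.Lib.helper29.GaloisMap

namespace Groth.Agent.Lib.helper29.HopfOmega

variable {K : Type u} [Field K] {B : Type v} [CommRing B] [HopfAlgebra K B]

/-- the translation automorphism `a ⊗ b ↦ Σ a S(b₁) ⊗ b₂` -/
noncomputable def Phi : (B ⊗[K] B) →ₐ[B] (B ⊗[K] B) := E (g' (AlgHom.id K B))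

/-- its inverse -/
noncomputable def PhiInv : (B ⊗[K] B) →ₐ[B] (B ⊗[K] B) := E (g (AlgHom.id K B))

lemma Phi_PhiInv (t : B ⊗[K] B) : Phi (K := K) (PhiInv t) = t :=
  DFunLike.congr_fun (E_g'_comp_E_g (AlgHom.id K B)) t

lemma PhiInv_Phi (t : B ⊗[K] B) : PhiInv (K := K) (Phi t) = t :=
  DFunLike.congr_fun (E_g_comp_E_g' (AlgHom.id K B)) t

/-- `id ⊗ ε` -/
noncomputable def piHom : B ⊗[K] B →ₐ[B] B :=
  Algebra.TensorProduct.lift (AlgHom.id B B)
    ((Algebra.ofId K B).comp (Bialgebra.counitAlgHom K B)) (fun _ _ => Commute.all _ _)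

@[simp] lemma piHom_tmul (a c : B) :
    piHom (K := K) (a ⊗ₜ[K] c) = a * algebraMap K B (CoalgebraStruct.counit (R := K) c) := by
  simp [piHom, Algebra.ofId_apply]

lemma lmul_Phi (t : B ⊗[K] B) :
    Algebra.TensorProduct.lmul' K (S := B) (Phi (K := K) t) = piHom t := by
  have key : ∀ s : B ⊗[K] B,
      Algebra.TensorProduct.lmul' K (S := B)
        (Algebra.TensorProduct.map ((AlgHom.id K B).comp (HopfAlgebra.antipodeAlgHom K B))
          (AlgHom.id K B) s) =
      LinearMap.mul' K B ((HopfAlgebra.antipode K).rTensor B s) := by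
    intro s
    induction s using TensorProduct.induction_on with
    | zero => simp
    | add x y hx hy => simp only [map_add, hx, hy]
    | tmul x y => simp
  induction t using TensorProduct.induction_on with
  | zero => simp
  | add x y hx hy => simp only [map_add, hx, hy]
  | tmul a c =>
    rw [Phi, E_tmul, map_mul, g'_apply, key, HopfAlgebra.mul_antipode_rTensor_comul_apply,
      piHom_tmul]
    simp

lemma Phi_tmul_one (b : B) : Phi (K := K) (b ⊗ₜ[K] (1 : B)) = b ⊗ₜ[K] (1 : B) := by
  rw [Phi, E_tmul, map_one, mul_one]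

/-- the functional `a ⊗ c ↦ lam c • a` -/
noncomputable def Lam (lam : B →ₗ[K] K) : B ⊗[K] B →ₗ[K] B :=
  (TensorProduct.rid K B).toLinearMap ∘ₗ lam.lTensor B

@[simp] lemma Lam_tmul (lam : B →ₗ[K] K) (a c : B) : Lam lam (a ⊗ₜ[K] c) = lam c • a := by
  simp [Lam]

lemma Lam_mul (lam : B →ₗ[K] K)
    (hlam : ∀ c c' : B, lam (c * c') =
      CoalgebraStruct.counit (R := K) c * lam c' + CoalgebraStruct.counit (R := K) c' * lam c)
    (u v : B ⊗[K] B) :
    Lam lam (u * v) = piHom (K := K) u * Lam lam v + piHom (K := K) v * Lam lam u := by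
  induction u using TensorProduct.induction_on with
  | zero => simp
  | add x y hx hy => simp only [add_mul, map_add, hx, hy, mul_add]; ring
  | tmul a c =>
    induction v using TensorProduct.induction_on with
    | zero => simp
    | add x y hx hy => simp only [mul_add, map_add, hx, hy, add_mul]; ring
    | tmul a' c' =>
      simp only [Algebra.TensorProduct.tmul_mul_tmul, Lam_tmul, piHom_tmul, hlam,
        Algebra.algebraMap_eq_smul_one]
      simp only [add_smul, mul_smul, smul_mul_assoc, mul_smul_comm, mul_one]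
      rw [smul_comm (CoalgebraStruct.counit (R := K) c) (lam c'),
        smul_comm (CoalgebraStruct.counit (R := K) c') (lam c), mul_comm a' a]

/-- the kernel of `id ⊗ ε` -/
noncomputable abbrev J' (K : Type u) [Field K] (B : Type v) [CommRing B] [HopfAlgebra K B] :
    Ideal (B ⊗[K] B) := RingHom.ker (piHom (K := K) (B := B))

lemma Lam_eq_zero_of_mem_sq (lam : B →ₗ[K] K)
    (hlam : ∀ c c' : B, lam (c * c') =
      CoalgebraStruct.counit (R := K) c * lam c' + CoalgebraStruct.counit (R := K) c' * lam c)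
    (z : B ⊗[K] B) (hz : z ∈ J' K B ^ 2) : Lam lam z = 0 := by
  rw [pow_two] at hz
  induction hz using Submodule.mul_induction_on' with
  | mem_mul_mem u hu v hv =>
    have hu' : piHom (K := K) u = 0 := hu
    have hv' : piHom (K := K) v = 0 := hv
    rw [Lam_mul lam hlam, hu', hv', zero_mul, zero_mul, add_zero]
  | add x _ y _ hx hy => rw [map_add, hx, hy, add_zero]

lemma map_PhiInv_le :
    Ideal.map (PhiInv (K := K) (B := B)) (KaehlerDifferential.ideal K B ^ 2) ≤ J' K B ^ 2 := by
  rw [Ideal.map_pow]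
  apply Ideal.pow_right_mono
  rw [Ideal.map_le_iff_le_comap]
  intro j hj
  rw [Ideal.mem_comap, RingHom.mem_ker]
  show piHom (K := K) (PhiInv j) = 0
  rw [← lmul_Phi, Phi_PhiInv]
  exact hj

lemma map_Phi_le :
    Ideal.map (Phi (K := K) (B := B)) (J' K B ^ 2) ≤ KaehlerDifferential.ideal K B ^ 2 := by
  rw [Ideal.map_pow]
  apply Ideal.pow_right_mono
  rw [Ideal.map_le_iff_le_comap]
  intro j hj
  rw [Ideal.mem_comap, RingHom.mem_ker]
  show Algebra.TensorProduct.lmul' K (S := B) (Phi j) = 0
  rw [lmul_Phi]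
  exact hj

/-- the augmentation ideal -/
noncomputable abbrev I (K : Type u) [Field K] (B : Type v) [CommRing B] [HopfAlgebra K B] :
    Ideal B := RingHom.ker (Bialgebra.counitAlgHom K B)

lemma sub_counit_mem (c : B) :
    c - algebraMap K B (CoalgebraStruct.counit (R := K) c) ∈ I K B := by
  rw [RingHom.mem_ker, map_sub, AlgHom.commutes]
  show CoalgebraStruct.counit (R := K) c - _ = 0
  simp

/-- `c ↦ c - ε c` as a map into `I` -/
noncomputable def dI : B →ₗ[K] ↥((I K B).restrictScalars K) :=
  LinearMap.codRestrict ((I K B).restrictScalars K)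
    (LinearMap.id - Algebra.linearMap K B ∘ₗ CoalgebraStruct.counit (R := K))
    (fun c => sub_counit_mem c)

lemma coe_dI (c : B) : ((dI (K := K) c : ↥((I K B).restrictScalars K)) : B) =
    c - algebraMap K B (CoalgebraStruct.counit (R := K) c) := rfl

/-- the cotangent map, `K`-linear -/
noncomputable def tc : ↥((I K B).restrictScalars K) →ₗ[K] (I K B).Cotangent :=
  (I K B).toCotangent.restrictScalars K

/-- `c ↦ [c - ε c]` in `I/I²` -/
noncomputable def q' : B →ₗ[K] (I K B).Cotangent := tc ∘ₗ dI

lemma q'_apply (c : B) :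
    q' (K := K) c = (I K B).toCotangent ⟨c - algebraMap K B (CoalgebraStruct.counit (R := K) c),
      sub_counit_mem c⟩ := rfl

lemma q'_mul (c c' : B) :
    q' (K := K) (c * c') = CoalgebraStruct.counit (R := K) c • q' (K := K) c' +
      CoalgebraStruct.counit (R := K) c' • q' (K := K) c := by
  show tc (dI (c * c')) = CoalgebraStruct.counit (R := K) c • tc (dI c') +
    CoalgebraStruct.counit (R := K) c' • tc (dI c)
  rw [← map_smul tc, ← map_smul tc, ← map_add tc]
  refine (Ideal.toCotangent_eq (I K B)).mpr ?_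
  have h : (c * c' - algebraMap K B (CoalgebraStruct.counit (R := K) (c * c'))) -
      (CoalgebraStruct.counit (R := K) c • (c' - algebraMap K B (CoalgebraStruct.counit (R := K) c'))
        + CoalgebraStruct.counit (R := K) c' •
          (c - algebraMap K B (CoalgebraStruct.counit (R := K) c))) =
      (c - algebraMap K B (CoalgebraStruct.counit (R := K) c)) *
        (c' - algebraMap K B (CoalgebraStruct.counit (R := K) c')) := by
    rw [Bialgebra.counit_mul, map_mul, Algebra.smul_def, Algebra.smul_def]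
    ring
  show (c * c' - algebraMap K B (CoalgebraStruct.counit (R := K) (c * c'))) -
      (CoalgebraStruct.counit (R := K) c • (c' - algebraMap K B (CoalgebraStruct.counit (R := K) c'))
        + CoalgebraStruct.counit (R := K) c' •
          (c - algebraMap K B (CoalgebraStruct.counit (R := K) c))) ∈ I K B ^ 2
  rw [h, pow_two]
  exact Ideal.mul_mem_mul (sub_counit_mem c) (sub_counit_mem c')

lemma q'_of_mem (x : B) (hx : x ∈ I K B) : q' (K := K) x = (I K B).toCotangent ⟨x, hx⟩ := by
  rw [q'_apply]
  congr 1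
  apply Subtype.ext
  have : CoalgebraStruct.counit (R := K) x = 0 := hx
  simp [this]

lemma includeRight_mem_sq (z : B) (hz : z ∈ I K B ^ 2) :
    (1 : B) ⊗ₜ[K] z ∈ J' K B ^ 2 := by
  have h1 : Ideal.map (Algebra.TensorProduct.includeRight : B →ₐ[K] B ⊗[K] B) (I K B ^ 2) ≤
      J' K B ^ 2 := by
    rw [Ideal.map_pow]
    apply Ideal.pow_right_mono
    rw [Ideal.map_le_iff_le_comap]
    intro y hy
    rw [Ideal.mem_comap, RingHom.mem_ker]
    show piHom (K := K) ((1 : B) ⊗ₜ[K] y) = 0
    have : CoalgebraStruct.counit (R := K) y = 0 := hy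
    rw [piHom_tmul, this, map_zero, mul_zero]
  exact h1 (Ideal.mem_map_of_mem _ hz)

variable (K B) in
/-- the basis of `I/I²` -/
noncomputable def bas : Module.Basis (Module.Free.ChooseBasisIndex K (I K B).Cotangent) K
    (I K B).Cotangent := Module.Free.chooseBasis K (I K B).Cotangent

variable (K B) in
/-- lifts of the basis vectors -/
noncomputable def x (α : Module.Free.ChooseBasisIndex K (I K B).Cotangent) : I K B :=
  ((I K B).toCotangent_surjective (bas K B α)).choose

lemma x_spec (α : Module.Free.ChooseBasisIndex K (I K B).Cotangent) :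
    (I K B).toCotangent (x K B α) = bas K B α :=
  ((I K B).toCotangent_surjective (bas K B α)).choose_spec

variable (K B) in
/-- the dual functionals -/
noncomputable def lam (α : Module.Free.ChooseBasisIndex K (I K B).Cotangent) : B →ₗ[K] K :=
  (bas K B).coord α ∘ₗ q'

lemma lam_mul (α : Module.Free.ChooseBasisIndex K (I K B).Cotangent) (c c' : B) :
    lam K B α (c * c') = CoalgebraStruct.counit (R := K) c * lam K B α c' +
      CoalgebraStruct.counit (R := K) c' * lam K B α c := by
  simp only [lam, LinearMap.comp_apply, q'_mul, map_add, map_smul, smul_eq_mul]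

lemma lam_x [DecidableEq (Module.Free.ChooseBasisIndex K (I K B).Cotangent)]
    (α β : Module.Free.ChooseBasisIndex K (I K B).Cotangent) :
    lam K B α (x K B β : B) = if β = α then 1 else 0 := by
  rw [lam, LinearMap.comp_apply, q'_of_mem _ (x K B β).2]
  show (bas K B).coord α ((I K B).toCotangent (x K B β)) = _
  rw [x_spec, Module.Basis.coord_apply, Module.Basis.repr_self, Finsupp.single_apply]

lemma mem_ideal (α : Module.Free.ChooseBasisIndex K (I K B).Cotangent) :
    Phi (K := K) ((1 : B) ⊗ₜ[K] (x K B α : B)) ∈ KaehlerDifferential.ideal K B := by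
  rw [RingHom.mem_ker]
  show Algebra.TensorProduct.lmul' K (S := B) _ = 0
  rw [lmul_Phi, piHom_tmul]
  have : CoalgebraStruct.counit (R := K) (x K B α : B) = 0 := (x K B α).2
  rw [this, map_zero, mul_zero]

variable (K B) in
/-- the left-invariant differentials -/
noncomputable def v (α : Module.Free.ChooseBasisIndex K (I K B).Cotangent) : Ω[B⁄K] :=
  KaehlerDifferential.fromIdeal K B ⟨_, mem_ideal α⟩

lemma smul_v (b : B) (α : Module.Free.ChooseBasisIndex K (I K B).Cotangent) :
    b • v K B α = KaehlerDifferential.fromIdeal K B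
      ⟨Phi (K := K) (b ⊗ₜ[K] (x K B α : B)), by
        have h : b ⊗ₜ[K] (x K B α : B) = (b ⊗ₜ[K] (1 : B)) * ((1 : B) ⊗ₜ[K] (x K B α : B)) := by
          simp
        rw [h, map_mul]
        exact Ideal.mul_mem_left _ _ (mem_ideal α)⟩ := by
  rw [← algebraMap_smul (B ⊗[K] B) b (v K B α), v, ← map_smul]
  congr 1
  apply Subtype.ext
  show (algebraMap B (B ⊗[K] B) b) * Phi (K := K) ((1 : B) ⊗ₜ[K] (x K B α : B)) = _
  rw [Algebra.TensorProduct.algebraMap_apply, ← Phi_tmul_one (K := K), ← map_mul]
  simp

theorem linearIndependent_v : LinearIndependent B (v K B) := by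
  classical
  rw [linearIndependent_iff']
  intro s b hb β hβ
  simp_rw [smul_v] at hb
  rw [← map_sum] at hb
  have h1 := (Ideal.toCotangent_eq_zero (KaehlerDifferential.ideal K B) _).mp hb
  rw [AddSubmonoidClass.coe_finset_sum] at h1
  simp only [] at h1
  rw [← map_sum] at h1
  have h2 := map_PhiInv_le (K := K) (B := B) (Ideal.mem_map_of_mem _ h1)
  have h2' : PhiInv (K := K) (Phi (∑ α ∈ s, b α ⊗ₜ[K] (x K B α : B))) ∈ J' K B ^ 2 := h2
  rw [PhiInv_Phi] at h2'
  have h3 := Lam_eq_zero_of_mem_sq (lam K B β) (lam_mul β) _ h2'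
  rw [map_sum] at h3
  simp only [Lam_tmul, lam_x] at h3
  simpa [Finset.sum_ite_eq', hβ] using h3

lemma exists_finsupp (t : B ⊗[K] B) :
    ∃ f : Module.Free.ChooseBasisIndex K (I K B).Cotangent →₀ B,
      t - (piHom (K := K) t) ⊗ₜ[K] (1 : B) - f.sum (fun α b => b ⊗ₜ[K] (x K B α : B)) ∈
        J' K B ^ 2 := by
  classical
  induction t using TensorProduct.induction_on with
  | zero => exact ⟨0, by simp⟩
  | tmul a c =>
    set r := (bas K B).repr (q' (K := K) c) with hr
    refine ⟨r.mapRange (fun e => e • a) (zero_smul _ _), ?_⟩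
    -- the remainder
    let xr : Module.Free.ChooseBasisIndex K (I K B).Cotangent → ↥((I K B).restrictScalars K) :=
      fun α => ⟨(x K B α : B), (x K B α).2⟩
    let zI : ↥((I K B).restrictScalars K) :=
      dI (K := K) c - r.sum (fun α e => e • xr α)
    have hzI : tc (K := K) zI = 0 := by
      simp only [zI, map_sub, map_finsuppSum, map_smul]
      have h1 : ∀ α, tc (K := K) (xr α) = bas K B α :=
        fun α => x_spec α
      simp only [h1]
      have h2 : r.sum (fun α e => e • bas K B α) = q' (K := K) c := by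
        rw [hr]
        exact (bas K B).linearCombination_repr _
      rw [h2]
      exact sub_self _
    have hz2 : ((zI : ↥((I K B).restrictScalars K)) : B) ∈ I K B ^ 2 :=
      (Ideal.toCotangent_eq_zero (I K B) zI).mp hzI
    have hcoe : ((zI : ↥((I K B).restrictScalars K)) : B) =
        c - algebraMap K B (CoalgebraStruct.counit (R := K) c) -
          r.sum (fun α e => e • (x K B α : B)) := by
      simp only [zI, Submodule.coe_sub, coe_dI, Finsupp.sum, AddSubmonoidClass.coe_finset_sum]
      rfl
    have key : a ⊗ₜ[K] c - (piHom (K := K) (a ⊗ₜ[K] c)) ⊗ₜ[K] (1 : B) -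
        (r.mapRange (fun e => e • a) (zero_smul _ _)).sum (fun α b => b ⊗ₜ[K] (x K B α : B)) =
        (a ⊗ₜ[K] (1 : B)) * ((1 : B) ⊗ₜ[K] ((zI : ↥((I K B).restrictScalars K)) : B)) := by
      rw [hcoe, Algebra.TensorProduct.tmul_mul_tmul, mul_one, one_mul, TensorProduct.tmul_sub,
        TensorProduct.tmul_sub, piHom_tmul]
      congr 1
      · congr 1
        rw [Algebra.algebraMap_eq_smul_one, mul_smul_comm, mul_one, TensorProduct.smul_tmul]
      · rw [Finsupp.sum_mapRange_index (by intro α; simp)]
        simp only [Finsupp.sum, TensorProduct.tmul_sum]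
        refine Finset.sum_congr rfl fun α _ => ?_
        rw [TensorProduct.smul_tmul]
    rw [key]
    exact Ideal.mul_mem_left _ _ (includeRight_mem_sq _ hz2)
  | add t₁ t₂ h₁ h₂ =>
    obtain ⟨f₁, hf₁⟩ := h₁
    obtain ⟨f₂, hf₂⟩ := h₂
    refine ⟨f₁ + f₂, ?_⟩
    rw [Finsupp.sum_add_index' (by intro α; simp) (by intro α b₁ b₂; simp [TensorProduct.add_tmul])]
    have := Ideal.add_mem _ hf₁ hf₂
    convert this using 1
    simp only [map_add, TensorProduct.add_tmul]
    abel

theorem span_v : ⊤ ≤ Submodule.span B (Set.range (v K B)) := by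
  rintro ω -
  obtain ⟨⟨j, hj⟩, rfl⟩ := KaehlerDifferential.fromIdeal_surjective K B ω
  obtain ⟨f, hf⟩ := exists_finsupp (K := K) (PhiInv (K := K) j)
  have hπ : piHom (K := K) (PhiInv (K := K) j) = 0 := by
    rw [← lmul_Phi, Phi_PhiInv]; exact hj
  rw [hπ, TensorProduct.zero_tmul, sub_zero] at hf
  have h1 := map_Phi_le (K := K) (B := B) (Ideal.mem_map_of_mem _ hf)
  have h1' : Phi (K := K) (PhiInv (K := K) j - f.sum (fun α b => b ⊗ₜ[K] (x K B α : B))) ∈
      KaehlerDifferential.ideal K B ^ 2 := h1
  rw [map_sub, Phi_PhiInv, map_finsuppSum] at h1'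
  have h2 : KaehlerDifferential.fromIdeal K B ⟨j, hj⟩ = f.sum (fun α b => b • v K B α) := by
    simp_rw [smul_v]
    rw [← map_finsuppSum]
    refine (Ideal.toCotangent_eq (KaehlerDifferential.ideal K B)).mpr ?_
    simp only [Finsupp.sum, AddSubmonoidClass.coe_finset_sum]
    exact h1'
  rw [h2]
  exact Submodule.sum_mem _ (fun α _ => Submodule.smul_mem _ _ (Submodule.subset_span ⟨α, rfl⟩))

theorem free : Module.Free B (Ω[B⁄K]) :=
  Module.Free.of_basis (Module.Basis.mk linearIndependent_v span_v)

end Groth.Agent.Lib.helper29.HopfOmega
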