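import Groth.Agent.Lib.helper29.Orbit
import Groth.Agent.Lib.helper12.Density
import Mathlib.LinearAlgebra.Trace
import Mathlib.LinearAlgebra.Eigenspace.Triangularizable

/-!
Kolchin's theorem for reduced affine algebraic groups over an algebraically closed field, in
comodule form (helper29): if every rational point acts unipotently on every finite-dimensional
comodule, then every nonzero finite-dimensional comodule has a nonzero fixed vector.
-/

set_option autoImplicit false
set_option linter.unusedSectionVars false
set_option linter.unusedVariables false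
universe u

open TensorProduct

namespace Groth.Agent.Lib.helper29.Kolchin

open Groth.Agent.Lib.helper28.ComodMod Groth.Agent.Lib.helper29.Orbit
open Groth.Agent.Lib.helper29.Reynolds

variable {k : Type u} [Field k] {A : Type u} [CommRing A] [HopfAlgebra k A]
variable {V : Type u} [AddCommGroup V] [Module k V] [HopfRep.Comod k A V]

theorem act_eq_op (g : A →ₐ[k] k) (v : V) :
    HopfRep.Comod.act k A V g v = op g.toLinearMap v := rfl

theorem op_op_point (h g : A →ₐ[k] k) (v : V) :
    op h.toLinearMap (op g.toLinearMap v) = op (conv h g).toLinearMap v := by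
  have h1 := Groth.Agent.H12Comod.coact_T_coact (k := k) (C := A) g.toLinearMap v
  have h1' : HopfRep.Comod.coact (k := k) (A := A) (op g.toLinearMap v) =
      (Groth.Agent.H12Comod.S g.toLinearMap).lTensor V (HopfRep.Comod.coact (k := k) (A := A) v) := h1
  rw [op_apply, h1', op_apply]
  generalize HopfRep.Comod.coact (k := k) (A := A) v = t
  induction t using TensorProduct.induction_on with
  | zero => simp
  | tmul x c =>
    rw [LinearMap.lTensor_tmul, T_tmul, T_tmul]
    congr 1
    show h (Groth.Agent.H12Comod.T A g.toLinearMap (CoalgebraStruct.comul (R := k) c)) = conv h g c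
    rw [conv_apply]
    generalize CoalgebraStruct.comul (R := k) c = s
    induction s using TensorProduct.induction_on with
    | zero => simp
    | tmul a b => simp [mul_comm]
    | add s t hs ht => simp only [map_add, hs, ht]
  | add x y hx hy => simp only [map_add, hx, hy]

theorem act_comp_act (h g : A →ₐ[k] k) :
    HopfRep.Comod.act k A V h ∘ₗ HopfRep.Comod.act k A V g = HopfRep.Comod.act k A V (conv h g) :=
  LinearMap.ext fun v => op_op_point h g v

theorem act_counit : HopfRep.Comod.act k A V (Bialgebra.counitAlgHom k A) = LinearMap.id :=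
  LinearMap.ext fun v => op_counit v

theorem func_contract (ℓ : V →ₗ[k] k) (ψ : A →ₗ[k] k) (t : V ⊗[k] A) :
    ψ (TensorProduct.lid k A (ℓ.rTensor A t)) = ℓ (T V ψ t) := by
  induction t using TensorProduct.induction_on with
  | zero => simp
  | tmul x c => simp [mul_comm]
  | add x y hx hy => simp only [map_add, hx, hy]

variable [IsAlgClosed k] [Algebra.FiniteType k A] [IsReduced A]

/-- a subspace stable under all rational points is a subcomodule -/
theorem isSubcomod_of_stable (N : Submodule k V)
    (hN : ∀ (g : A →ₐ[k] k), ∀ x ∈ N, HopfRep.Comod.act k A V g x ∈ N) :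
    HopfRep.IsSubcomod (k := k) (A := A) N := by
  rw [isSubcomod_iff]
  intro φ x hx
  by_contra hnot
  obtain ⟨ℓ, hℓ1, hℓ2⟩ := Submodule.exists_le_ker_of_notMem hnot
  have key : ∀ ψ : A →ₗ[k] k, ψ (TensorProduct.lid k A (ℓ.rTensor A
      (HopfRep.Comod.coact (k := k) (A := A) x))) = ℓ (op ψ x) := fun ψ => func_contract ℓ ψ _
  have hpt : ∀ h : A →ₐ[k] k, h (TensorProduct.lid k A (ℓ.rTensor A
      (HopfRep.Comod.coact (k := k) (A := A) x))) = 0 := by
    intro h
    have := key h.toLinearMap
    rw [AlgHom.toLinearMap_apply] at this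
    rw [this]
    exact hℓ2 (hN h x hx)
  have ha0 := (isNilpotent_of_forall_point (k := k) _ hpt).eq_zero
  apply hℓ1
  rw [← key φ, ha0, map_zero]

/-- a vector fixed by all rational points is a fixed vector of the comodule -/
theorem mem_fixedPts_of_forall_act (v : V)
    (hv : ∀ g : A →ₐ[k] k, HopfRep.Comod.act k A V g v = v) :
    v ∈ HopfRep.fixedPts k A V := by
  rw [mem_fixedPts_iff]
  intro φ
  by_contra hne
  have hnot : op φ v - φ 1 • v ∉ (⊥ : Submodule k V) := by
    rw [Submodule.mem_bot, sub_eq_zero]; exact hne
  obtain ⟨ℓ, hℓ1, -⟩ := Submodule.exists_le_ker_of_notMem hnot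
  set a : A := TensorProduct.lid k A (ℓ.rTensor A
      (HopfRep.Comod.coact (k := k) (A := A) v)) - ℓ v • 1 with ha
  have key : ∀ ψ : A →ₗ[k] k, ψ a = ℓ (op ψ v - ψ 1 • v) := by
    intro ψ
    rw [ha, map_sub, func_contract, map_smul, map_sub, map_smul, smul_eq_mul, smul_eq_mul, op_apply,
      mul_comm]
  have hpt : ∀ h : A →ₐ[k] k, h a = 0 := by
    intro h
    have := key h.toLinearMap
    rw [AlgHom.toLinearMap_apply] at this
    rw [this, AlgHom.toLinearMap_apply, map_one, one_smul]
    have h2 : op h.toLinearMap v = v := hv h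
    rw [h2, sub_self, map_zero]
  have ha0 := (isNilpotent_of_forall_point (k := k) a hpt).eq_zero
  apply hℓ1
  rw [← key φ, ha0, map_zero]

/-- trace form nondegenerate -/
theorem eq_zero_of_forall_trace [Module.Finite k V] (Tm : Module.End k V)
    (h : ∀ X : Module.End k V, LinearMap.trace k V (Tm * X) = 0) : Tm = 0 := by
  apply LinearMap.ext
  intro v
  by_contra hne
  have hnot : Tm v ∉ (⊥ : Submodule k V) := by
    rw [Submodule.mem_bot]; exact hne
  obtain ⟨ℓ, hℓ1, -⟩ := Submodule.exists_le_ker_of_notMem hnot
  apply hℓ1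
  have h1 := h (dualTensorHom k V V (ℓ ⊗ₜ[k] v))
  have h2 : Tm * dualTensorHom k V V (ℓ ⊗ₜ[k] v) = dualTensorHom k V V (ℓ ⊗ₜ[k] Tm v) := by
    apply LinearMap.ext
    intro w
    simp [dualTensorHom_apply]
  rw [h2, LinearMap.trace_eq_contract_apply] at h1
  simpa using h1

/-- Kolchin's theorem for a simple comodule -/
theorem forall_act_eq_of_simple [Module.Finite k V] [Nontrivial V]
    (hsimple : ∀ W : Submodule k V, HopfRep.IsSubcomod (k := k) (A := A) W → W = ⊥ ∨ W = ⊤)
    (hunip : ∀ g : A →ₐ[k] k, IsNilpotent (HopfRep.Comod.act k A V g - LinearMap.id))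
    (g : A →ₐ[k] k) : HopfRep.Comod.act k A V g = LinearMap.id := by
  classical
  let E : Set (Module.End k V) := Set.range fun g : A →ₐ[k] k => HopfRep.Comod.act k A V g
  have hs : ∀ N : Submodule k V, (∀ T ∈ E, ∀ v ∈ N, T v ∈ N) → N = ⊥ ∨ N = ⊤ := by
    intro N hN
    apply hsimple
    apply isSubcomod_of_stable
    intro g x hx
    exact hN _ ⟨g, rfl⟩ x hx
  have hend : ∀ α : Module.End k V, (∀ T ∈ E, α ∘ₗ T = T ∘ₗ α) → ∃ a : k, α = a • LinearMap.id := by
    intro α hα
    obtain ⟨a, ha⟩ := Module.End.exists_eigenvalue α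
    refine ⟨a, ?_⟩
    have hstab : ∀ T ∈ E, ∀ v ∈ Module.End.eigenspace α a, T v ∈ Module.End.eigenspace α a := by
      intro T hT v hv
      rw [Module.End.mem_eigenspace_iff] at hv ⊢
      have := LinearMap.congr_fun (hα T hT) v
      simp only [LinearMap.comp_apply] at this
      rw [this, hv, map_smul]
    rcases hs _ hstab with h | h
    · exact absurd h ha
    · apply LinearMap.ext
      intro v
      have : v ∈ Module.End.eigenspace α a := by rw [h]; trivial
      rw [Module.End.mem_eigenspace_iff] at this
      rw [this]; rfl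
  have hadj := H12Density.adjoin_eq_top E hs hend
  -- E is a submonoid
  have hEmul : ∀ X ∈ E, ∀ Y ∈ E, X * Y ∈ E := by
    rintro _ ⟨g1, rfl⟩ _ ⟨g2, rfl⟩
    exact ⟨conv g1 g2, (act_comp_act g1 g2).symm⟩
  have hEone : (1 : Module.End k V) ∈ E := ⟨Bialgebra.counitAlgHom k A, act_counit⟩
  have hclos : ∀ X ∈ Submonoid.closure E, X ∈ E := by
    intro X hX
    induction hX using Submonoid.closure_induction with
    | mem x hx => exact hx
    | one => exact hEone
    | mul x y _ _ hx hy => exact hEmul x hx y hy
  have hspan : ∀ X : Module.End k V, X ∈ Submodule.span k E := by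
    intro X
    have h1 : X ∈ Subalgebra.toSubmodule (Algebra.adjoin k E) := by rw [hadj]; trivial
    rw [Algebra.adjoin_eq_span] at h1
    refine Submodule.span_mono ?_ h1
    exact fun X hX => hclos X hX
  -- traces
  have htr : ∀ g : A →ₐ[k] k, LinearMap.trace k V (HopfRep.Comod.act k A V g) =
      LinearMap.trace k V (1 : Module.End k V) := by
    intro g
    have h1 := LinearMap.isNilpotent_trace_of_isNilpotent (hunip g)
    have h2 := h1.eq_zero
    rw [map_sub, sub_eq_zero] at h2
    exact h2
  have hzero : HopfRep.Comod.act k A V g - 1 = 0 := by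
    apply eq_zero_of_forall_trace
    intro X
    have hX := hspan X
    induction hX using Submodule.span_induction with
    | mem Y hY =>
      obtain ⟨h, rfl⟩ := hY
      rw [sub_mul, one_mul, map_sub, Module.End.mul_eq_comp, act_comp_act, htr, htr, sub_self]
    | zero => rw [mul_zero, map_zero]
    | add x y _ _ hx hy => rw [mul_add, map_add, hx, hy, add_zero]
    | smul c x _ hx => rw [mul_smul_comm, map_smul, hx, smul_zero]
  exact sub_eq_zero.mp hzero

/-- Kolchin's theorem -/
theorem fixedPts_ne_bot
    (hunip : ∀ (g : A →ₐ[k] k) (V : Type u) [AddCommGroup V] [Module k V] [HopfRep.Comod k A V],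
      Module.Finite k V → IsNilpotent (HopfRep.Comod.act k A V g - LinearMap.id)) :
    ∀ (n : ℕ) (V : Type u) [AddCommGroup V] [Module k V] [cV : HopfRep.Comod k A V]
      [Module.Finite k V] [Nontrivial V], Module.finrank k V = n → HopfRep.fixedPts k A V ≠ ⊥ := by
  intro n
  induction n using Nat.strong_induction_on with
  | _ n ih =>
    intro V _ _ cV _ _ hn
    by_cases hsimple : ∀ W : Submodule k V, HopfRep.IsSubcomod (k := k) (A := A) W → W = ⊥ ∨ W = ⊤
    · have hall : ∀ g : A →ₐ[k] k, HopfRep.Comod.act k A V g = LinearMap.id := fun g =>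
        forall_act_eq_of_simple hsimple (fun g => hunip g V inferInstance) g
      obtain ⟨v, hv⟩ := exists_ne (0 : V)
      intro hbot
      have : v ∈ HopfRep.fixedPts k A V :=
        mem_fixedPts_of_forall_act v (fun g => by rw [hall g]; rfl)
      rw [hbot, Submodule.mem_bot] at this
      exact hv this
    · push Not at hsimple
      obtain ⟨W, hW, hWbot, hWtop⟩ := hsimple
      letI cW : HopfRep.Comod k A W := ComodSub.Comod.restr cV W hW
      have hsubt : Hoch.IsComodHom A W.subtype := ComodSub.isComodHom_subtype cV W hW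
      haveI : Nontrivial W := Submodule.nontrivial_iff_ne_bot.mpr hWbot
      have hlt : Module.finrank k W < n := by
        rw [← hn]
        exact Submodule.finrank_lt hWtop
      have hWfix := ih _ hlt W rfl
      intro hbot
      apply hWfix
      rw [eq_bot_iff]
      intro w hw
      have hw' : HopfRep.Comod.coact (k := k) (A := A) w = w ⊗ₜ[k] (1 : A) := hw
      have h1 := LinearMap.congr_fun hsubt w
      simp only [LinearMap.comp_apply] at h1
      have h2 : (w : V) ∈ HopfRep.fixedPts k A V := by
        show HopfRep.Comod.coact (k := k) (A := A) (w : V) = _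
        have : HopfRep.Comod.coact (k := k) (A := A) (w : V) =
            W.subtype.rTensor A (HopfRep.Comod.coact (k := k) (A := A) w) := h1
        rw [this, hw', LinearMap.rTensor_tmul]
        rfl
      rw [hbot, Submodule.mem_bot] at h2
      rw [Submodule.mem_bot]
      exact Subtype.ext h2

end Groth.Agent.Lib.helper29.Kolchin
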