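import Mathlib

/-!
# Monomial basis of `MvPolynomial σ R ⧸ (f)` for `f` with leading coefficient one

(Macaulay basis theorem for a principal ideal.)  Also a lex order on `Fin 2` with `X 1 > X 0`.
-/

set_option autoImplicit false

namespace Groth.Agent.Lib.helper29.MonoBasis

open MvPolynomial

universe u v w

variable {σ : Type v} {R : Type u} [CommRing R] {ι : Type w}

open Classical in
theorem basis_of_lc_one (m : MonomialOrder σ) (f : MvPolynomial σ R) (hf : m.leadingCoeff f = 1)
    (E : ι → σ →₀ ℕ) (hE : Function.Injective E) (hnot : ∀ i, ¬ m.degree f ≤ E i)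
    (hex : ∀ n, ¬ m.degree f ≤ n → ∃ i, E i = n) :
    LinearIndependent R (fun i => Ideal.Quotient.mk (Ideal.span {f}) (monomial (E i) (1 : R))) ∧
      Submodule.span R (Set.range
        (fun i => Ideal.Quotient.mk (Ideal.span {f}) (monomial (E i) (1 : R)))) = ⊤ := by
  rcases subsingleton_or_nontrivial R with hR | hR
  · haveI : Subsingleton (MvPolynomial σ R ⧸ Ideal.span {f}) := Module.subsingleton R _
    exact ⟨linearIndependent_of_subsingleton, Subsingleton.elim _ _⟩
  constructor
  · rw [linearIndependent_iff]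
    intro l hl
    set P : MvPolynomial σ R :=
      Finsupp.linearCombination R (fun i => monomial (E i) (1:R)) l with hP
    have hmem : P ∈ Ideal.span {f} := by
      rw [← Ideal.Quotient.eq_zero_iff_mem]
      rw [hP, Finsupp.linearCombination_apply, Finsupp.sum, map_sum]
      rw [Finsupp.linearCombination_apply, Finsupp.sum] at hl
      refine Eq.trans ?_ hl
      apply Finset.sum_congr rfl
      intro i _
      exact map_smul (Ideal.Quotient.mkₐ R (Ideal.span {f})) _ _
    obtain ⟨g, hg⟩ := Ideal.mem_span_singleton'.1 hmem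
    have hli : LinearIndependent R (fun i => monomial (E i) (1:R)) := by
      have := (basisMonomials σ R).linearIndependent.comp E hE
      rw [coe_basisMonomials] at this
      exact this
    have hcoef : ∀ n, (∀ i, E i ≠ n) → coeff n P = 0 := by
      intro n hn
      rw [hP, Finsupp.linearCombination_apply, Finsupp.sum, coeff_sum]
      apply Finset.sum_eq_zero
      intro i _
      rw [coeff_smul, coeff_monomial, if_neg (hn i), smul_zero]
    have hP0 : P = 0 := by
      by_contra hne
      have hg0 : g ≠ 0 := by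
        rintro rfl
        apply hne
        rw [← hg, zero_mul]
      have hdeg := m.degree_mul_of_isRegular_right hg0
        (g := f) (by rw [hf]; exact isRegular_one)
      rw [hg] at hdeg
      have hsupp := m.degree_mem_support hne
      rw [mem_support_iff] at hsupp
      apply hsupp
      apply hcoef
      intro i hEi
      apply hnot i
      rw [hEi, hdeg]
      exact le_add_self
    exact (linearIndependent_iff.1 hli) l hP0
  · rw [eq_top_iff]
    rintro x -
    obtain ⟨p, rfl⟩ := Ideal.Quotient.mk_surjective x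
    obtain ⟨g, r, hp, -, hr⟩ := m.div_single (b := f) (by rw [hf]; exact isUnit_one) p
    have hmk : Ideal.Quotient.mk (Ideal.span {f}) p = Ideal.Quotient.mk _ r := by
      rw [hp, map_add, map_mul]
      have : Ideal.Quotient.mk (Ideal.span {f}) f = 0 :=
        Ideal.Quotient.eq_zero_iff_mem.2 (Ideal.subset_span rfl)
      rw [this, mul_zero, zero_add]
    rw [hmk, r.as_sum, map_sum]
    apply Submodule.sum_mem
    intro n hn
    obtain ⟨i, hi⟩ := hex n (hr n hn)
    have h1 : monomial n (coeff n r) = coeff n r • monomial n (1:R) := by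
      rw [smul_monomial]; simp
    rw [h1, ← hi]
    have h2 : Ideal.Quotient.mk (Ideal.span {f}) (coeff (E i) r • monomial (E i) (1:R))
        = coeff (E i) r • Ideal.Quotient.mk (Ideal.span {f}) (monomial (E i) (1:R)) :=
      map_smul (Ideal.Quotient.mkₐ R (Ideal.span {f})) _ _
    rw [h2]
    exact Submodule.smul_mem _ _ (Submodule.subset_span ⟨i, rfl⟩)

/-- lex order on `Fin 2` with `X 1 > X 0` -/
noncomputable def ord : MonomialOrder (Fin 2) where
  syn := ℕ ×ₗ ℕ
  toSyn :=
    { toFun := fun c => toLex (c 1, c 0)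
      invFun := fun p => Finsupp.single 1 (ofLex p).1 + Finsupp.single 0 (ofLex p).2
      left_inv := by
        intro c; ext i; fin_cases i <;> simp
      right_inv := by
        intro p; simp
      map_add' := by intro x y; rfl }
  toSyn_monotone := by
    intro x y h
    have h0 := h 0; have h1 := h 1
    show toLex (x 1, x 0) ≤ toLex (y 1, y 0)
    rw [Prod.Lex.toLex_le_toLex]
    rcases lt_or_eq_of_le h1 with h | h
    · left; exact h
    · right; exact ⟨h, h0⟩

lemma ord_le (x y : Fin 2 →₀ ℕ) :
    ord.toSyn x ≤ ord.toSyn y ↔ x 1 < y 1 ∨ x 1 = y 1 ∧ x 0 ≤ y 0 := by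
  show toLex (x 1, x 0) ≤ toLex (y 1, y 0) ↔ _
  exact Prod.Lex.toLex_le_toLex

/-- exponent vector -/
noncomputable def ex (i j : ℕ) : Fin 2 →₀ ℕ := Finsupp.single 0 i + Finsupp.single 1 j

@[simp] lemma ex_zero (i j : ℕ) : ex i j 0 = i := by simp [ex]
@[simp] lemma ex_one (i j : ℕ) : ex i j 1 = j := by simp [ex]

lemma ex_eq_iff (i j : ℕ) (n : Fin 2 →₀ ℕ) : ex i j = n ↔ n 0 = i ∧ n 1 = j := by
  constructor
  · rintro rfl; simp
  · rintro ⟨h0, h1⟩; ext t; fin_cases t <;> simp [h0, h1]

lemma ex_le_iff (i j : ℕ) (n : Fin 2 →₀ ℕ) : ex i j ≤ n ↔ i ≤ n 0 ∧ j ≤ n 1 := by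
  constructor
  · intro h
    have h0 := h 0
    have h1 := h 1
    simpa using And.intro h0 h1
  · rintro ⟨h0, h1⟩ t
    fin_cases t <;> simpa

lemma mon_ex (R : Type u) [CommRing R] (i j : ℕ) (r : R) :
    monomial (ex i j) r = C r * X 0 ^ i * X 1 ^ j := by
  rw [ex, X_pow_eq_monomial, X_pow_eq_monomial, C_apply, monomial_mul, monomial_mul]
  simp

end Groth.Agent.Lib.helper29.MonoBasis
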