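import Groth.Prelude.Def_GLin
import Mathlib.Tactic

/-!
The numerical function `GLin.IsMu` and one-parameter limits in terms of Laurent coefficients
(helper29).
-/

set_option autoImplicit false
set_option linter.unusedSectionVars false
set_option linter.unusedVariables false
universe u v w

open TensorProduct LaurentPolynomial

namespace Groth.Agent.Lib.helper29.MuLaurent

section Laurent

variable {k : Type u} [CommRing k]

theorem coeff_T_mul (m : ℤ) (f : k[T;T⁻¹]) (n : ℤ) : (T m * f).coeff n = f.coeff (n - m) := by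
  have h := AddMonoidAlgebra.coeff_single_mul_apply f (1 : k) m n
  rw [one_mul] at h
  have h2 : (T m : k[T;T⁻¹]) = AddMonoidAlgebra.single m 1 := rfl
  rw [h2, h]
  congr 1
  ring

theorem coeff_toLaurent_natCast (q : Polynomial k) (n : ℕ) :
    (Polynomial.toLaurent q).coeff (n : ℤ) = q.coeff n := by
  rw [LaurentPolynomial.coeff_toLaurent]
  have : ((n : ℕ) : ℤ) = Nat.castEmbedding (R := ℤ) n := rfl
  rw [this, Finsupp.mapDomain_apply Nat.castEmbedding.injective]
  rfl

theorem coeff_toLaurent_neg (q : Polynomial k) (n : ℤ) (hn : n < 0) :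
    (Polynomial.toLaurent q).coeff n = 0 := by
  rw [LaurentPolynomial.coeff_toLaurent]
  apply Finsupp.mapDomain_of_notMem_range
  rintro ⟨a, ha⟩
  have : (a : ℤ) = n := ha
  omega

theorem exists_toLaurent_eq (f : k[T;T⁻¹]) (hf : ∀ n : ℤ, f.coeff n ≠ 0 → 0 ≤ n) :
    ∃ q : Polynomial k, Polynomial.toLaurent q = f := by
  refine ⟨LaurentPolynomial.trunc f, ?_⟩
  apply LaurentPolynomial.ext
  intro n
  by_cases hn : 0 ≤ n
  · obtain ⟨a, rfl⟩ := Int.eq_ofNat_of_zero_le hn
    rw [coeff_toLaurent_natCast]
    -- coefficient of trunc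
    have hcoef : ∀ (c : k) (b n : ℤ), (C c * T b : k[T;T⁻¹]).coeff n = if b = n then c else 0 := by
      intro c b n
      rw [← LaurentPolynomial.single_eq_C_mul_T, AddMonoidAlgebra.coeff_single,
        Finsupp.single_apply]
    have key : ∀ g : k[T;T⁻¹], (LaurentPolynomial.trunc g).coeff a = g.coeff (a : ℤ) := by
      intro g
      induction g using LaurentPolynomial.induction_on' with
      | add p q hp hq => rw [map_add, Polynomial.coeff_add, hp, hq]; rfl
      | C_mul_T b c =>
        rw [LaurentPolynomial.trunc_C_mul_T, hcoef]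
        split_ifs with hb hba hba
        · rw [Polynomial.coeff_monomial, if_pos (by omega)]
        · rw [Polynomial.coeff_monomial, if_neg (by omega)]
        · omega
        · simp
    exact key f
  · rw [coeff_toLaurent_neg _ _ (by omega)]
    by_contra hne
    exact hn (hf n (Ne.symm hne))

end Laurent

section Factor

variable {k : Type u} [CommRing k] {ι : Type w}

/-- an algebra map out of a polynomial ring to Laurent polynomials factors through polynomials iff
each variable goes to a polynomial; the value at `0` of the factorisation is read off the constant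
coefficients. -/
theorem factor_iff (Φ : MvPolynomial ι k →ₐ[k] k[T;T⁻¹]) (P : (ι → k) → Prop) :
    (∃ h : MvPolynomial ι k →ₐ[k] Polynomial k,
      (Polynomial.toLaurentAlg (R := k)).comp h = Φ ∧
        P (fun i => Polynomial.aeval (0 : k) (h (MvPolynomial.X i)))) ↔
    (∀ i (n : ℤ), (Φ (MvPolynomial.X i)).coeff n ≠ 0 → 0 ≤ n) ∧
      P (fun i => (Φ (MvPolynomial.X i)).coeff 0) := by
  constructor
  · rintro ⟨h, hh, hP⟩
    have hi : ∀ i, Polynomial.toLaurent (h (MvPolynomial.X i)) = Φ (MvPolynomial.X i) := by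
      intro i
      rw [← hh]; rfl
    refine ⟨?_, ?_⟩
    · intro i n hn
      by_contra hneg
      apply hn
      rw [← hi, coeff_toLaurent_neg _ _ (by omega)]
    · have : (fun i => (Φ (MvPolynomial.X i)).coeff 0) =
          fun i => Polynomial.aeval (0 : k) (h (MvPolynomial.X i)) := by
        funext i
        rw [← hi]
        have := coeff_toLaurent_natCast (h (MvPolynomial.X i)) 0
        rw [Nat.cast_zero] at this
        rw [this, Polynomial.coeff_zero_eq_aeval_zero]
      rw [this]; exact hP
  · rintro ⟨h1, hP⟩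
    have hex : ∀ i : ι, ∃ q : Polynomial k, Polynomial.toLaurent q = Φ (MvPolynomial.X i) :=
      fun i => exists_toLaurent_eq (Φ (MvPolynomial.X i)) (h1 i)
    choose q hq using hex
    refine ⟨MvPolynomial.aeval q, ?_, ?_⟩
    · apply MvPolynomial.algHom_ext
      intro i
      rw [AlgHom.comp_apply, MvPolynomial.aeval_X, Polynomial.toLaurentAlg_apply, hq]
    · have : (fun i : ι => Polynomial.aeval (0 : k)
          ((MvPolynomial.aeval q : MvPolynomial ι k →ₐ[k] Polynomial k) (MvPolynomial.X i))) =
          fun i => (Φ (MvPolynomial.X i)).coeff 0 := by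
        funext i
        rw [MvPolynomial.aeval_X, ← hq]
        have := coeff_toLaurent_natCast (q i) 0
        rw [Nat.cast_zero] at this
        rw [this, Polynomial.coeff_zero_eq_aeval_zero]
      rw [this]; exact hP

theorem comp_eq_aeval_iff (h : MvPolynomial ι k →ₐ[k] Polynomial k) (w : ι → k) :
    (Polynomial.aeval (0 : k)).comp h = MvPolynomial.aeval w ↔
      (fun i => Polynomial.aeval (0 : k) (h (MvPolynomial.X i))) = w := by
  constructor
  · intro hh
    funext i
    have := AlgHom.congr_fun hh (MvPolynomial.X i)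
    rw [AlgHom.comp_apply, MvPolynomial.aeval_X] at this
    exact this
  · intro hh
    apply MvPolynomial.algHom_ext
    intro i
    rw [AlgHom.comp_apply, MvPolynomial.aeval_X, ← hh]

end Factor

section Mu

variable {k : Type u} [CommRing k] {A : Type v} [CommRing A] [Bialgebra k A]
  {ι : Type w} [Fintype ι] [HopfRep.Comod k A (MvPolynomial ι k)]
  [GLin.IsCoactAlg k A (MvPolynomial ι k)]

/-- the Laurent polynomial coordinates of the orbit of `v` under `lam` -/
noncomputable def ell (lam : A →ₐc[k] k[T;T⁻¹]) (v : ι → k) (i : ι) : k[T;T⁻¹] :=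
  GLin.lamOrbit k A lam (GLin.vecPt k ι v) (MvPolynomial.X i)

theorem isMu_iff (lam : A →ₐc[k] k[T;T⁻¹]) (v : ι → k) (m : ℤ) :
    GLin.IsMu k A lam v m ↔
      (∀ i (n : ℤ), (ell lam v i).coeff n ≠ 0 → -m ≤ n) ∧ ∃ i, (ell lam v i).coeff (-m) ≠ 0 := by
  unfold GLin.IsMu
  have h1 : ∀ h : MvPolynomial ι k →ₐ[k] Polynomial k,
      ((Polynomial.aeval (0 : k)).comp h ≠ MvPolynomial.aeval (fun _ : ι => (0 : k))) ↔
        (fun i => Polynomial.aeval (0 : k) (h (MvPolynomial.X i))) ≠ fun _ => 0 := by
    intro h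
    rw [Ne, comp_eq_aeval_iff]
  simp_rw [h1]
  rw [factor_iff (GLin.shiftedOrbit k A lam v m) (fun w => w ≠ fun _ => 0)]
  have h2 : ∀ i, GLin.shiftedOrbit k A lam v m (MvPolynomial.X i) = T m * ell lam v i := by
    intro i
    unfold GLin.shiftedOrbit
    rw [MvPolynomial.aeval_X]; rfl
  simp_rw [h2, coeff_T_mul]
  constructor
  · rintro ⟨ha, hb⟩
    refine ⟨?_, ?_⟩
    · intro i n hn
      have := ha i (n + m) (by rwa [add_sub_cancel_right])
      omega
    · by_contra hne
      push Not at hne
      apply hb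
      funext i
      rw [zero_sub]; exact hne i
  · rintro ⟨ha, i, hi⟩
    refine ⟨?_, ?_⟩
    · intro i n hn
      have := ha i _ hn
      omega
    · intro hzero
      apply hi
      have := congr_fun hzero i
      rwa [zero_sub] at this

theorem hasLimit_iff (lam : A →ₐc[k] k[T;T⁻¹]) (v : ι → k) :
    GLin.HasLimit k A lam (GLin.vecPt k ι v) ↔
      ∀ i (n : ℤ), (ell lam v i).coeff n ≠ 0 → 0 ≤ n := by
  unfold GLin.HasLimit
  have := factor_iff (GLin.lamOrbit k A lam (GLin.vecPt k ι v)) (fun _ => True)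
  simp only [and_true] at this
  exact this

theorem isLimit_iff (lam : A →ₐc[k] k[T;T⁻¹]) (v w : ι → k) :
    GLin.IsLimit k A lam (GLin.vecPt k ι v) (GLin.vecPt k ι w) ↔
      (∀ i (n : ℤ), (ell lam v i).coeff n ≠ 0 → 0 ≤ n) ∧ ∀ i, (ell lam v i).coeff 0 = w i := by
  unfold GLin.IsLimit
  simp_rw [comp_eq_aeval_iff]
  rw [factor_iff (GLin.lamOrbit k A lam (GLin.vecPt k ι v)) (fun u => u = w)]
  constructor
  · rintro ⟨h1, h2⟩
    exact ⟨h1, fun i => congr_fun h2 i⟩
  · rintro ⟨h1, h2⟩
    exact ⟨h1, funext h2⟩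

theorem counit_orbitHom {R : Type w} [CommRing R] [Algebra k R] [HopfRep.Comod k A R]
    [GLin.IsCoactAlg k A R] (x : R →ₐ[k] k) (f : R) :
    CoalgebraStruct.counit (R := k) (GLin.orbitHom k A x f) = x f := by
  have key : ∀ t : R ⊗[k] A, CoalgebraStruct.counit (R := k)
      ((Algebra.TensorProduct.lid k A).toAlgHom
        ((Algebra.TensorProduct.map x (AlgHom.id k A)) t)) =
      TensorProduct.rid k k (x.toLinearMap.rTensor k
        ((CoalgebraStruct.counit (R := k) (A := A)).lTensor R t)) := by
    intro t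
    induction t using TensorProduct.induction_on with
    | zero => simp
    | tmul r a => simp [mul_comm]
    | add s t hs ht => simp only [map_add, hs, ht]
  have hcu := LinearMap.congr_fun (HopfRep.Comod.counit_comp (k := k) (A := A) (V := R)) f
  simp only [LinearMap.comp_apply, LinearMap.flip_apply, TensorProduct.mk_apply] at hcu
  show CoalgebraStruct.counit (R := k) ((Algebra.TensorProduct.lid k A).toAlgHom
        ((Algebra.TensorProduct.map x (AlgHom.id k A)) (HopfRep.Comod.coact (k := k) (A := A) f))) = x f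
  rw [key, hcu]
  simp

theorem counit_ell (lam : A →ₐc[k] k[T;T⁻¹]) (v : ι → k) (i : ι) :
    CoalgebraStruct.counit (R := k) (ell lam v i) = v i := by
  have h1 : ell lam v i = lam (GLin.orbitHom k A (GLin.vecPt k ι v) (MvPolynomial.X i)) := rfl
  rw [h1, CoalgHomClass.counit_comp_apply, counit_orbitHom]
  simp

/-- the set of exponents occurring in the orbit -/
noncomputable def supp (lam : A →ₐc[k] k[T;T⁻¹]) (v : ι → k) : Finset ℤ :=
  Finset.univ.biUnion fun i => (ell lam v i).coeff.support

theorem mem_supp (lam : A →ₐc[k] k[T;T⁻¹]) (v : ι → k) (n : ℤ) :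
    n ∈ supp lam v ↔ ∃ i, (ell lam v i).coeff n ≠ 0 := by
  simp [supp]

theorem supp_nonempty (lam : A →ₐc[k] k[T;T⁻¹]) (v : ι → k) (hv : v ≠ 0) :
    (supp lam v).Nonempty := by
  have : ∃ i, v i ≠ 0 := by
    by_contra h
    push Not at h
    exact hv (funext h)
  obtain ⟨i, hi⟩ := this
  have hne : ell lam v i ≠ 0 := by
    intro h0
    apply hi
    rw [← counit_ell lam v i, h0, map_zero]
  have : (ell lam v i).coeff ≠ 0 := by
    intro h0
    apply hne
    apply LaurentPolynomial.ext
    intro a
    rw [h0]; rfl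
  obtain ⟨n, hn⟩ := Finsupp.ne_iff.mp this
  exact ⟨n, (mem_supp lam v n).mpr ⟨i, by simpa using hn⟩⟩

theorem isMu_iff_eq (lam : A →ₐc[k] k[T;T⁻¹]) (v : ι → k) (hS : (supp lam v).Nonempty) (m : ℤ) :
    GLin.IsMu k A lam v m ↔ m = -(supp lam v).min' hS := by
  rw [isMu_iff]
  constructor
  · rintro ⟨h1, i, hi⟩
    have hmem : -m ∈ supp lam v := (mem_supp lam v _).mpr ⟨i, hi⟩
    have hle : (supp lam v).min' hS ≤ -m := Finset.min'_le _ _ hmem
    have hge : -m ≤ (supp lam v).min' hS := by
      apply Finset.le_min'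
      intro n hn
      obtain ⟨j, hj⟩ := (mem_supp lam v n).mp hn
      exact h1 j n hj
    omega
  · intro hm
    subst hm
    rw [neg_neg]
    refine ⟨?_, ?_⟩
    · intro i n hn
      exact Finset.min'_le _ _ ((mem_supp lam v n).mpr ⟨i, hn⟩)
    · exact (mem_supp lam v _).mp (Finset.min'_mem _ hS)

end Mu

section OrbitHom

variable {k : Type u} [CommRing k] {A : Type v} [CommRing A] [Bialgebra k A]
  {R : Type w} [CommRing R] [Algebra k R] [HopfRep.Comod k A R] [GLin.IsCoactAlg k A R]

theorem orbitHom_eq_sum_of_coact (x : R →ₐ[k] k) (f : R) {σ : Type*} (s : Finset σ)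
    (g : σ → R) (a : σ → A)
    (h : HopfRep.Comod.coact (k := k) (A := A) f = ∑ j ∈ s, g j ⊗ₜ[k] a j) :
    GLin.orbitHom k A x f = ∑ j ∈ s, x (g j) • a j := by
  show (Algebra.TensorProduct.lid k A).toAlgHom
        ((Algebra.TensorProduct.map x (AlgHom.id k A)) (HopfRep.Comod.coact (k := k) (A := A) f)) = _
  rw [h, map_sum, map_sum]
  refine Finset.sum_congr rfl fun j _ => ?_
  simp

theorem orbitHom_eq_smul_of_coact (x : R →ₐ[k] k) (f : R) (a : A)
    (h : HopfRep.Comod.coact (k := k) (A := A) f = f ⊗ₜ[k] a) :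
    GLin.orbitHom k A x f = x f • a := by
  have := orbitHom_eq_sum_of_coact x f (Finset.univ : Finset (Fin 1)) (fun _ => f) (fun _ => a)
    (by simpa using h)
  simpa using this

end OrbitHom

end Groth.Agent.Lib.helper29.MuLaurent
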