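import Mathlib

/-! NilFree (helper29): freeness of a module from freeness modulo a nilpotent ideal and after a
jointly injective family of base changes. -/

set_option autoImplicit false

namespace Groth.Agent.H29.NilFree

open TensorProduct

section nak

variable {A : Type*} [CommRing A] {P : Type*} [AddCommGroup P] [Module A P]

lemma eq_top_of_sup_smul (J : Ideal A) (hJ : IsNilpotent J) (N : Submodule A P)
    (h : N ⊔ J • (⊤ : Submodule A P) = ⊤) : N = ⊤ := by
  obtain ⟨n, hn⟩ := hJ
  have key : ∀ k : ℕ, N ⊔ (J ^ k) • (⊤ : Submodule A P) = ⊤ := by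
    intro k
    induction k with
    | zero => rw [pow_zero, Ideal.one_eq_top, Submodule.top_smul, sup_top_eq]
    | succ k ih =>
      rw [eq_top_iff]
      calc (⊤ : Submodule A P) = N ⊔ (J ^ k) • (⊤ : Submodule A P) := ih.symm
        _ = N ⊔ (J ^ k) • (N ⊔ J • (⊤ : Submodule A P)) := by rw [h]
        _ = N ⊔ ((J ^ k) • N ⊔ (J ^ k) • (J • (⊤ : Submodule A P))) := by
          rw [Submodule.smul_sup]
        _ ≤ N ⊔ (J ^ (k + 1)) • (⊤ : Submodule A P) := by
          rw [← Submodule.mul_smul, ← pow_succ]
          exact sup_le le_sup_left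
            (sup_le (le_trans Submodule.smul_le_right le_sup_left) le_sup_right)
  have := key n
  rw [hn, Ideal.zero_eq_bot, Submodule.bot_smul, sup_bot_eq] at this
  exact this

end nak

section bc

variable {A : Type*} [CommRing A] (J : Ideal A) {L M : Type*} [AddCommGroup L] [Module A L]
  [AddCommGroup M] [Module A M]

lemma tmul_mem_smul_top (B : Type*) [CommRing B] [Algebra A B] (b : B) (k : L)
    (hk : k ∈ J • (⊤ : Submodule A L)) :
    b ⊗ₜ[A] k ∈ J • (⊤ : Submodule A (B ⊗[A] L)) := by
  induction hk using Submodule.smul_induction_on' with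
  | smul a ha l _ =>
    rw [TensorProduct.tmul_smul]
    exact Submodule.smul_mem_smul ha Submodule.mem_top
  | add x _ y _ hx hy =>
    rw [TensorProduct.tmul_add]
    exact add_mem hx hy

/-- base change of a surjection with small kernel onto a module with projective base change is
injective -/
theorem lTensor_injective (hJ : IsNilpotent J) (g : L →ₗ[A] M) (hg : Function.Surjective g)
    (hker : LinearMap.ker g ≤ J • (⊤ : Submodule A L)) (B : Type*) [CommRing B] [Algebra A B]
    [Module.Projective B (B ⊗[A] M)] : Function.Injective (g.lTensor B) := by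
  have hfs : Function.Surjective (g.baseChange B) := by
    have := LinearMap.lTensor_surjective B hg
    intro y
    obtain ⟨x, hx⟩ := this y
    exact ⟨x, hx⟩
  obtain ⟨s, hs⟩ := Module.projective_lifting_property (g.baseChange B) LinearMap.id hfs
  have hs' : ∀ q, g.lTensor B (s q) = q := fun q => LinearMap.congr_fun hs q
  -- the kernel is small
  have hkerB : LinearMap.ker (g.lTensor B) ≤ J • (⊤ : Submodule A (B ⊗[A] L)) := by
    have hex : Function.Exact (LinearMap.ker g).subtype g := LinearMap.exact_subtype_ker_map g
    have hex' := lTensor_exact B hex hg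
    intro x hx
    obtain ⟨y, rfl⟩ := (hex' x).mp hx
    clear hx
    induction y using TensorProduct.induction_on with
    | zero => rw [map_zero]; exact zero_mem _
    | tmul b k =>
      rw [LinearMap.lTensor_tmul]
      exact tmul_mem_smul_top J B b _ (hker k.2)
    | add y y' hy hy' =>
      rw [map_add]
      exact add_mem hy hy'
  have htop : (LinearMap.range s).restrictScalars A = ⊤ := by
    apply eq_top_of_sup_smul J hJ
    rw [eq_top_iff]
    intro x _
    have hx : x - s (g.lTensor B x) ∈ LinearMap.ker (g.lTensor B) := by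
      rw [LinearMap.mem_ker, map_sub, hs', sub_self]
    have h1 : x = s (g.lTensor B x) + (x - s (g.lTensor B x)) := by abel
    rw [h1]
    exact Submodule.add_mem_sup (LinearMap.mem_range_self s _) (hkerB hx)
  rw [injective_iff_map_eq_zero]
  intro x hx
  have hxr : x ∈ (LinearMap.range s).restrictScalars A := by rw [htop]; trivial
  obtain ⟨q, rfl⟩ := hxr
  rw [hs'] at hx
  rw [hx, map_zero]

end bc

section main

universe u v w

/-- a module is free if it is free modulo a nilpotent ideal and after a jointly injective family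
of base changes -/
theorem free_of_family {A : Type u} [CommRing A] (J : Ideal A) (hJ : IsNilpotent J)
    {ι : Type v} (B : ι → Type w) [∀ i, CommRing (B i)] [∀ i, Algebra A (B i)]
    (hB : ∀ a : A, (∀ i, algebraMap A (B i) a = 0) → a = 0)
    (M : Type u) [AddCommGroup M] [Module A M]
    (hfree : ∀ i, Module.Free (B i) (B i ⊗[A] M))
    (hfreeJ : Module.Free (A ⧸ J) ((A ⧸ J) ⊗[A] M)) : Module.Free A M := by
  classical
  let S := Module.Free.ChooseBasisIndex (A ⧸ J) ((A ⧸ J) ⊗[A] M)
  let b : Module.Basis S (A ⧸ J) ((A ⧸ J) ⊗[A] M) := Module.Free.chooseBasis _ _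
  have hmk_surj : Function.Surjective (TensorProduct.mk A (A ⧸ J) M 1) := by
    rw [← TensorProduct.quotTensorEquivQuotSMul_symm_comp_mkQ]
    exact (TensorProduct.quotTensorEquivQuotSMul M J).symm.surjective.comp
      (Submodule.mkQ_surjective _)
  have hmk_zero : ∀ z : M, (1 : A ⧸ J) ⊗ₜ[A] z = 0 → z ∈ J • (⊤ : Submodule A M) := by
    intro z hz
    have := congrArg (TensorProduct.quotTensorEquivQuotSMul M J) hz
    rw [TensorProduct.quotTensorEquivQuotSMul_mk_one_tmul, map_zero,
      Submodule.Quotient.mk_eq_zero] at this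
    exact this
  have hlift : ∀ s : S, ∃ m : M, (1 : A ⧸ J) ⊗ₜ[A] m = b s := fun s => hmk_surj (b s)
  choose m hm using hlift
  let g : (S →₀ A) →ₗ[A] M := Finsupp.linearCombination A m
  have hrepr : ∀ x : S →₀ A, b.repr ((1 : A ⧸ J) ⊗ₜ[A] g x) =
      Finsupp.mapRange (Ideal.Quotient.mk J) (map_zero _) x := by
    intro x
    induction x using Finsupp.induction_linear with
    | zero => simp
    | add x y hx hy =>
      rw [map_add, TensorProduct.tmul_add, map_add, hx, hy, Finsupp.mapRange_add]
      intro a a'
      exact map_add _ a a'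
    | single s a =>
      have h1 : g (Finsupp.single s a) = a • m s := by
        simp [g, Finsupp.linearCombination_single]
      have h2 : (1 : A ⧸ J) ⊗ₜ[A] (a • m s) = (Ideal.Quotient.mk J a) • b s := by
        rw [TensorProduct.tmul_smul, hm, ← Ideal.Quotient.algebraMap_eq, algebraMap_smul]
      rw [h1, h2, map_smul, Module.Basis.repr_self, Finsupp.smul_single, smul_eq_mul, mul_one,
        Finsupp.mapRange_single]
  -- small kernel
  have hker : LinearMap.ker g ≤ J • (⊤ : Submodule A (S →₀ A)) := by
    intro x hx
    rw [LinearMap.mem_ker] at hx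
    have h1 := hrepr x
    rw [hx, TensorProduct.tmul_zero, map_zero] at h1
    have h2 : ∀ s, x s ∈ J := by
      intro s
      have := DFunLike.congr_fun h1 s
      rw [Finsupp.mapRange_apply, Finsupp.zero_apply] at this
      exact Ideal.Quotient.eq_zero_iff_mem.mp this.symm
    rw [← Finsupp.sum_single x]
    refine Submodule.sum_mem _ fun s _ => ?_
    have h3 : Finsupp.single s (x s) = (x s) • Finsupp.single s (1 : A) := by
      rw [Finsupp.smul_single, smul_eq_mul, mul_one]
    rw [h3]
    exact Submodule.smul_mem_smul (h2 s) Submodule.mem_top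
  -- surjective
  have hsurj : Function.Surjective g := by
    rw [← LinearMap.range_eq_top]
    apply eq_top_of_sup_smul J hJ
    rw [eq_top_iff]
    intro y _
    obtain ⟨c, hc⟩ := Finsupp.mapRange_surjective (Ideal.Quotient.mk J) (map_zero _)
      Ideal.Quotient.mk_surjective (b.repr ((1 : A ⧸ J) ⊗ₜ[A] y))
    have h1 : (1 : A ⧸ J) ⊗ₜ[A] (y - g c) = 0 := by
      apply b.repr.injective
      rw [TensorProduct.tmul_sub, map_sub, hrepr, hc, sub_self, map_zero]
    have h2 : y = g c + (y - g c) := by abel
    rw [h2]
    exact Submodule.add_mem_sup (LinearMap.mem_range_self g c) (hmk_zero _ h1)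
  -- injective
  have hinj : Function.Injective g := by
    rw [injective_iff_map_eq_zero]
    intro x hx
    ext s
    rw [Finsupp.zero_apply]
    apply hB
    intro i
    haveI : Module.Projective (B i) (B i ⊗[A] M) := by
      haveI := hfree i
      infer_instance
    have hinjB := lTensor_injective J hJ g hsurj hker (B i)
    have h1 : g.lTensor (B i) ((1 : B i) ⊗ₜ[A] x) = 0 := by
      rw [LinearMap.lTensor_tmul, hx, TensorProduct.tmul_zero]
    have h2 : (1 : B i) ⊗ₜ[A] x = 0 := hinjB (by rw [h1, map_zero])
    have h3 := congrArg (fun t => TensorProduct.rid A (B i)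
      ((Finsupp.lapply s : (S →₀ A) →ₗ[A] A).lTensor (B i) t)) h2
    simp only [LinearMap.lTensor_tmul, Finsupp.lapply_apply, TensorProduct.rid_tmul, map_zero]
      at h3
    rw [Algebra.smul_def, mul_one] at h3
    exact h3
  exact Module.Free.of_equiv (LinearEquiv.ofBijective g ⟨hinj, hsurj⟩)

end main

end Groth.Agent.H29.NilFree
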