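import Mathlib
import Groth.Prelude.Def_W4c5spincurvestfNode
import Groth.Agent.Lib.helper29.MonoBasis

/-!
# The monomial basis `x^e (e ≥ 0)`, `y^(-e) (e < 0)` of `R[x,y]/(xy - π)`, indexed by `ℤ`
-/

set_option autoImplicit false

namespace Groth.Agent.Lib.helper29.NodeBasis

open MvPolynomial SpinCurv Groth.Agent.Lib.helper29.MonoBasis

universe u

variable (R : Type u) [CommRing R] (π : R)

/-- the relation -/
noncomputable def rel : MvPolynomial (Fin 2) R := X 0 * X 1 - C π

lemma rel_eq : rel R π = monomial (ex 1 1) 1 - monomial (ex 0 0) π := by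
  simp only [mon_ex, rel]
  simp

lemma coeff_rel (n : Fin 2 →₀ ℕ) : coeff n (rel R π) =
    (if n 0 = 1 ∧ n 1 = 1 then 1 else 0) - (if n 0 = 0 ∧ n 1 = 0 then π else 0) := by
  rw [rel_eq]
  simp only [coeff_sub, coeff_monomial, ex_eq_iff]

lemma coeff_rel_top : coeff (ex 1 1) (rel R π) = 1 := by
  rw [coeff_rel]; simp

lemma degree_rel [Nontrivial R] : ord.degree (rel R π) = ex 1 1 := by
  apply ord.toSyn.injective
  apply le_antisymm
  · rw [MonomialOrder.degree_le_iff]
    intro n hn
    rw [ord_le]
    have h := mem_support_iff.1 hn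
    by_contra hne
    apply h
    rw [coeff_rel]
    simp only [ex_zero, ex_one] at hne
    have h1 : ¬ (n 0 = 1 ∧ n 1 = 1) := by omega
    have h2 : ¬ (n 0 = 0 ∧ n 1 = 0) := by omega
    simp [h1, h2]
  · apply MonomialOrder.le_degree
    rw [mem_support_iff, coeff_rel_top]
    exact one_ne_zero

lemma lc_rel [Nontrivial R] : ord.leadingCoeff (rel R π) = 1 := by
  rw [MonomialOrder.leadingCoeff, degree_rel, coeff_rel_top]

/-- exponent of the basis monomial of index `e` -/
noncomputable def E (e : ℤ) : Fin 2 →₀ ℕ := ex e.toNat (-e).toNat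

lemma E_inj : Function.Injective E := by
  intro e e' h
  have h0 := DFunLike.congr_fun h 0
  have h1 := DFunLike.congr_fun h 1
  simp only [E, ex_zero, ex_one] at h0 h1
  omega

lemma E_not_le (e : ℤ) : ¬ (ex 1 1 ≤ E e) := by
  rw [ex_le_iff]
  simp only [E, ex_zero, ex_one]
  omega

lemma exists_E (n : Fin 2 →₀ ℕ) (h : ¬ (ex 1 1 ≤ n)) : ∃ e, E e = n := by
  rw [ex_le_iff] at h
  refine ⟨(n 0 : ℤ) - (n 1 : ℤ), ?_⟩
  rw [E, ex_eq_iff]
  omega

/-- the basis monomials -/
noncomputable def bmon (e : ℤ) : PolyNodeRing R π :=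
  PolyNodeRing.x R π ^ e.toNat * PolyNodeRing.y R π ^ (-e).toNat

lemma bmon_eq (e : ℤ) :
    bmon R π e = Ideal.Quotient.mk (Ideal.span {rel R π}) (monomial (E e) (1 : R)) := by
  rw [E, mon_ex, bmon, C_1, one_mul, map_mul, map_pow, map_pow]
  rfl

theorem bmon_li : LinearIndependent R (bmon R π) := by
  rcases subsingleton_or_nontrivial R with hR | hR
  · exact linearIndependent_of_subsingleton
  have := (basis_of_lc_one ord (rel R π) (lc_rel R π) E E_inj
    (by intro e; rw [degree_rel]; exact E_not_le e)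
    (by intro n hn; rw [degree_rel] at hn; exact exists_E n hn)).1
  have h2 : bmon R π =
      fun e => Ideal.Quotient.mk (Ideal.span {rel R π}) (monomial (E e) (1 : R)) :=
    funext (bmon_eq R π)
  rw [h2]
  exact this

theorem bmon_span : Submodule.span R (Set.range (bmon R π)) = ⊤ := by
  rcases subsingleton_or_nontrivial R with hR | hR
  · haveI : Subsingleton (PolyNodeRing R π) := Module.subsingleton R _
    exact Subsingleton.elim _ _
  have := (basis_of_lc_one ord (rel R π) (lc_rel R π) E E_inj
    (by intro e; rw [degree_rel]; exact E_not_le e)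
    (by intro n hn; rw [degree_rel] at hn; exact exists_E n hn)).2
  have h2 : bmon R π =
      fun e => Ideal.Quotient.mk (Ideal.span {rel R π}) (monomial (E e) (1 : R)) :=
    funext (bmon_eq R π)
  rw [h2]
  exact this

/-- the monomial basis of the node ring -/
noncomputable def basis : Module.Basis ℤ R (PolyNodeRing R π) :=
  Module.Basis.mk (bmon_li R π) (bmon_span R π).ge

@[simp] lemma basis_apply (e : ℤ) : basis R π e = bmon R π e := by
  rw [basis, Module.Basis.mk_apply]

end Groth.Agent.Lib.helper29.NodeBasis
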