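import Mathlib
set_option autoImplicit false
universe u
open CategoryTheory CategoryTheory.Limits AlgebraicGeometry TopologicalSpace

namespace Groth.Agent.Lib.helper29.NoethConn

/-- In a Noetherian space, connected components are open. -/
theorem isOpen_connectedComponent_of_noetherian {Z : Type*} [TopologicalSpace Z] [NoetherianSpace Z]
    (z : Z) : IsOpen (connectedComponent z) := by
  rw [← isClosed_compl_iff]
  have hfin : (irreducibleComponents Z).Finite := NoetherianSpace.finite_irreducibleComponents
  have hfin' : {T ∈ irreducibleComponents Z | ¬ T ⊆ connectedComponent z}.Finite :=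
    hfin.subset (fun T hT => hT.1)
  have heq : (connectedComponent z)ᶜ =
      ⋃ T ∈ {T ∈ irreducibleComponents Z | ¬ T ⊆ connectedComponent z}, T := by
    ext y
    simp only [Set.mem_compl_iff, Set.mem_iUnion, Set.mem_ofPred_eq, exists_prop]
    constructor
    · intro hy
      refine ⟨irreducibleComponent y, ⟨irreducibleComponent_mem_irreducibleComponents y, ?_⟩,
        mem_irreducibleComponent⟩
      intro hsub
      exact hy (hsub mem_irreducibleComponent)
    · rintro ⟨T, ⟨hT, hTn⟩, hyT⟩ hy
      apply hTn
      have hTc : _root_.IsPreconnected T := (hT.1 : IsIrreducible T).isPreirreducible.isPreconnected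
      have : T ⊆ connectedComponent y := hTc.subset_connectedComponent hyT
      rw [connectedComponent_eq hy]
      exact this
  rw [heq]
  exact hfin'.isClosed_biUnion (fun T hT => isClosed_of_mem_irreducibleComponents T hT.1)

/-- In a locally Noetherian scheme, connected components are open. -/
theorem isOpen_connectedComponent_of_isLocallyNoetherian (X : Scheme.{u}) [IsLocallyNoetherian X]
    (x : X) : IsOpen (connectedComponent x) := by
  rw [isOpen_iff_mem_nhds]
  intro y hy
  obtain ⟨U, hU, hyU⟩ : ∃ U : X.Opens, IsAffineOpen U ∧ y ∈ U := by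
    obtain ⟨_, ⟨U, hU, rfl⟩, hyU, -⟩ :=
      (X.isBasis_affineOpens).exists_subset_of_mem_open (Set.mem_univ y) isOpen_univ
    exact ⟨U, hU, hyU⟩
  have : IsNoetherianRing Γ(X, U) := IsLocallyNoetherian.component_noetherian ⟨U, hU⟩
  have h1 : NoetherianSpace (U : Scheme.{u}) := noetherianSpace_of_isAffineOpen U hU
  have h2 : NoetherianSpace ↥U := h1
  have hopen : IsOpen (connectedComponent (⟨y, hyU⟩ : U)) :=
    isOpen_connectedComponent_of_noetherian _
  have hopen' : IsOpen (Subtype.val '' connectedComponent (⟨y, hyU⟩ : U)) :=
    U.isOpen.isOpenMap_subtype_val _ hopen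
  have hconn : _root_.IsPreconnected (Subtype.val '' connectedComponent (⟨y, hyU⟩ : U)) :=
    isPreconnected_connectedComponent.image _ continuous_subtype_val.continuousOn
  have hmem : y ∈ Subtype.val '' connectedComponent (⟨y, hyU⟩ : U) :=
    ⟨⟨y, hyU⟩, mem_connectedComponent, rfl⟩
  have hsub : Subtype.val '' connectedComponent (⟨y, hyU⟩ : U) ⊆ connectedComponent x := by
    rw [connectedComponent_eq hy]
    exact hconn.subset_connectedComponent hmem
  exact Filter.mem_of_superset (hopen'.mem_nhds hmem) hsub

end Groth.Agent.Lib.helper29.NoethConn
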