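import Mathlib

/-!
# A Witt-vector identity for `(X + Y) ^ (p ^ n)` (helper29)
-/

set_option autoImplicit false

namespace Groth.Agent.H29.PDiff

open MvPolynomial

variable (p : ℕ) [hp : Fact p.Prime]

/-- evaluation of the Witt structure variables at `(X, 0, 0, …)`, `(Y, 0, 0, …)` -/
noncomputable def ev : MvPolynomial (Fin 2 × ℕ) ℤ →ₐ[ℤ] MvPolynomial (Fin 2) ℤ :=
  aeval (fun bk : Fin 2 × ℕ => if bk.2 = 0 then X bk.1 else 0)

/-- the Witt addition polynomials at `(X,0,…) + (Y,0,…)` -/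
noncomputable def SS (j : ℕ) : MvPolynomial (Fin 2) ℤ := ev (WittVector.wittAdd p j)

lemma SS_zero : SS p 0 = X 0 + X 1 := by
  rw [SS, WittVector.wittAdd_zero, map_add]
  simp [ev]

lemma ev_rename_witt (b : Fin 2) (n : ℕ) :
    ev (rename (Prod.mk b) (wittPolynomial p ℤ n)) = (X b : MvPolynomial (Fin 2) ℤ) ^ p ^ n := by
  rw [ev, aeval_rename, wittPolynomial_eq_sum_C_mul_X_pow, map_sum]
  rw [Finset.sum_eq_single 0]
  · simp
  · intro i _ hi
    simp only [map_mul, map_pow, aeval_X, Function.comp_apply, hi, if_false]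
    rw [zero_pow (pow_ne_zero _ hp.out.ne_zero), mul_zero]
  · intro h
    exact absurd (Finset.mem_range.2 (Nat.succ_pos n)) h

theorem key (n : ℕ) :
    ∑ j ∈ Finset.range (n + 1), (p ^ j) • (SS p j) ^ (p ^ (n - j)) =
      (X 0 : MvPolynomial (Fin 2) ℤ) ^ p ^ n + X 1 ^ p ^ n := by
  have h := congrArg ev (wittStructureInt_prop p (X 0 + X 1 : MvPolynomial (Fin 2) ℤ) n)
  rw [map_add, bind₁_X_right, bind₁_X_right, map_add, ev_rename_witt, ev_rename_witt,
    wittPolynomial_eq_sum_C_mul_X_pow, map_sum, map_sum] at h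
  rw [← h]
  refine Finset.sum_congr rfl fun j _ => ?_
  have h1 : ev (bind₁ (wittStructureInt p (X 0 + X 1 : MvPolynomial (Fin 2) ℤ))
      (C ((p : ℤ) ^ j))) = ((p ^ j : ℕ) : MvPolynomial (Fin 2) ℤ) := by
    rw [bind₁_C_right]
    simp [ev]
  have h2 : ev (bind₁ (wittStructureInt p (X 0 + X 1 : MvPolynomial (Fin 2) ℤ))
      (X j ^ p ^ (n - j))) = SS p j ^ p ^ (n - j) := by
    rw [map_pow, bind₁_X_right, map_pow]
    rfl
  rw [map_mul (bind₁ _), map_mul ev, h1, h2, nsmul_eq_mul]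

end Groth.Agent.H29.PDiff
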