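import Mathlib
import Groth.Prelude.Def_W4bk4bump814p2PDiff
import Groth.Agent.Lib.helper29.PDiff1

/-!
# Additivity of the power differentials modulo lower ones (helper29)
-/

set_option autoImplicit false
universe u v

namespace Groth.Agent.H29.PDiff

open MvPolynomial W4bk4bump814p2

variable (p : ℕ) [hp : Fact p.Prime]

local notation "RR" => MvPolynomial (Fin 2) ℤ

noncomputable instance : Module.Free RR (Ω[RR⁄ℤ]) :=
  Module.Free.of_basis (KaehlerDifferential.mvPolynomialBasis ℤ (Fin 2))

lemma nsmul_cancel (ω : Ω[RR⁄ℤ]) (n : ℕ) (hn : n ≠ 0) (h : n • ω = 0) : ω = 0 := by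
  rw [← Nat.cast_smul_eq_nsmul RR] at h
  rcases smul_eq_zero.mp h with h | h
  · exact absurd h (Nat.cast_ne_zero.mpr hn)
  · exact h

lemma D_pow_pow {K : Type u} {A : Type v} [CommRing K] [CommRing A] [Algebra K A] (f : A)
    (m : ℕ) : KaehlerDifferential.D K A (f ^ p ^ m) = (p ^ m) • delta K A p m f := by
  rw [Derivation.leibniz_pow, delta]

theorem delta_identity (n : ℕ) :
    ∑ j ∈ Finset.range (n + 1), delta ℤ RR p (n - j) (SS p j) =
      delta ℤ RR p n (X 0) + delta ℤ RR p n (X 1) := by
  have h := congrArg (KaehlerDifferential.D ℤ RR) (key p n)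
  rw [map_add, D_pow_pow, D_pow_pow, map_sum] at h
  have h1 : ∀ j ∈ Finset.range (n + 1),
      KaehlerDifferential.D ℤ RR ((p ^ j) • (SS p j) ^ (p ^ (n - j))) =
        (p ^ n) • delta ℤ RR p (n - j) (SS p j) := by
    intro j hj
    rw [Finset.mem_range] at hj
    rw [map_nsmul, D_pow_pow, smul_smul, ← pow_add]
    congr 2
    omega
  rw [Finset.sum_congr rfl h1, ← Finset.smul_sum, ← smul_add] at h
  have h2 := nsmul_cancel _ (p ^ n) (pow_ne_zero _ hp.out.ne_zero)
    (by rw [smul_sub, h, sub_self] :
      (p ^ n) • (∑ j ∈ Finset.range (n + 1), delta ℤ RR p (n - j) (SS p j) -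
        (delta ℤ RR p n (X 0) + delta ℤ RR p n (X 1))) = 0)
  exact sub_eq_zero.mp h2

section Transfer

variable (K : Type u) (A : Type v) [CommRing K] [CommRing A] [Algebra K A] (x y : A)

/-- transfer of the universal identity to an arbitrary algebra -/
theorem delta_identity_transfer (n : ℕ) :
    ∑ j ∈ Finset.range (n + 1),
        delta K A p (n - j) (aeval ![x, y] (SS p j)) =
      delta K A p n x + delta K A p n y := by
  letI : Algebra RR A := (aeval ![x, y] : RR →ₐ[ℤ] A).toRingHom.toAlgebra
  have halg : ∀ f : RR, algebraMap RR A f = aeval ![x, y] f := fun f => rfl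
  have hmap : ∀ (m : ℕ) (f : RR),
      KaehlerDifferential.map ℤ K RR A (delta ℤ RR p m f) = delta K A p m (aeval ![x, y] f) := by
    intro m f
    rw [delta, delta, map_smul, KaehlerDifferential.map_D]
    rw [← algebraMap_smul A (f ^ (p ^ m - 1)), halg, halg, map_pow]
  have h := congrArg (KaehlerDifferential.map ℤ K RR A) (delta_identity p n)
  rw [map_sum, map_add, hmap, hmap] at h
  simp_rw [hmap] at h
  rw [h]
  simp

end Transfer

end Groth.Agent.H29.PDiff
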