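import Mathlib
import Groth.Prelude.Def_W4bk4bump814p2PDiff
import Groth.Agent.Lib.helper29.PDiff2

/-!
# The filtration `Σ^i` of Kähler differentials in characteristic `p` (helper29)
-/

set_option autoImplicit false
universe u v

namespace Groth.Agent.H29.PDiff

open MvPolynomial W4bk4bump814p2

variable (K : Type u) (A : Type v) [CommRing K] [CommRing A] [Algebra K A]
  (p : ℕ) [hp : Fact p.Prime]

/-- the subgroup generated by the images of `δ_j`, `j < n` -/
noncomputable def G (n : ℕ) : AddSubgroup (Ω[A⁄K]) :=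
  AddSubgroup.closure (⋃ j ∈ Finset.range n, Set.range (delta K A p j))

variable {K A p}

omit hp in
lemma delta_mem_G {j n : ℕ} (h : j < n) (z : A) : delta K A p j z ∈ G K A p n := by
  apply AddSubgroup.subset_closure
  simp only [Set.mem_iUnion, Set.mem_range, Finset.mem_range]
  exact ⟨j, h, z, rfl⟩

omit hp in
lemma G_mono {m n : ℕ} (h : m ≤ n) : G K A p m ≤ G K A p n := by
  apply AddSubgroup.closure_mono
  intro ω hω
  simp only [Set.mem_iUnion, Set.mem_range, Finset.mem_range] at hω ⊢
  obtain ⟨j, hj, z, rfl⟩ := hω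
  exact ⟨j, lt_of_lt_of_le hj h, z, rfl⟩

omit hp in
lemma delta_zero' (n : ℕ) : delta K A p n 0 = 0 := by
  rw [delta, map_zero, smul_zero]

lemma neg_one_pow_pow (hpA : (p : A) = 0) (n : ℕ) : (-1 : A) ^ p ^ n = -1 := by
  have h1 : (-1 : A) ^ p = -1 := by
    rcases hp.out.eq_two_or_odd' with h | h
    · rw [h]
      have h2 : (2 : A) = 0 := by
        have := hpA
        rw [h] at this
        exact_mod_cast this
      rw [neg_one_sq]
      rw [eq_neg_iff_add_eq_zero, one_add_one_eq_two, h2]
    · exact h.neg_one_pow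
  induction n with
  | zero => simp
  | succ n ih => rw [pow_succ, pow_mul, ih, h1]

lemma delta_neg (hpA : (p : A) = 0) (n : ℕ) (x : A) :
    delta K A p n (-x) = -delta K A p n x := by
  obtain ⟨k, hk⟩ : ∃ k, p ^ n = k + 1 :=
    ⟨p ^ n - 1, (Nat.sub_add_cancel (Nat.one_le_pow _ _ hp.out.pos)).symm⟩
  rw [delta, delta, hk, Nat.add_sub_cancel, map_neg, smul_neg, neg_pow, mul_smul]
  have h1 : (-1 : A) ^ k * (-1) = -1 := by
    rw [← pow_succ, ← hk, neg_one_pow_pow hpA]
  have h2 : (-1 : A) ^ k = -((-1 : A) ^ k * (-1)) := by ring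
  rw [h2, h1, neg_neg, one_smul]

lemma add_defect_mem (n : ℕ) (x y : A) :
    delta K A p n (x + y) - delta K A p n x - delta K A p n y ∈ G K A p n := by
  have h := delta_identity_transfer p K A x y n
  rw [Finset.sum_range_succ', SS_zero, Nat.sub_zero] at h
  have h0 : (aeval ![x, y]) (X 0 + X 1 : MvPolynomial (Fin 2) ℤ) = x + y := by simp
  rw [h0] at h
  have h1 : delta K A p n (x + y) - delta K A p n x - delta K A p n y =
      -∑ j ∈ Finset.range n, delta K A p (n - (j + 1)) (aeval ![x, y] (SS p (j + 1))) := by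
    rw [sub_sub, ← h]
    abel
  rw [h1]
  refine neg_mem (sum_mem fun j hj => ?_)
  rw [Finset.mem_range] at hj
  exact delta_mem_G (by omega) _

theorem sigma_eq_G (hpA : (p : A) = 0) (n : ℕ) :
    sigma K A p n = (G K A p n : Set (Ω[A⁄K])) := by
  induction n with
  | zero =>
    rw [sigma_zero]
    ext ω
    simp [G]
  | succ n ih =>
    ext ω
    rw [mem_sigma_succ, ih]
    constructor
    · rintro ⟨x, hx⟩
      have : ω = (ω - delta K A p n x) + delta K A p n x := by abel
      rw [this]
      exact add_mem (G_mono (Nat.le_succ n) hx) (delta_mem_G (Nat.lt_succ_self n) x)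
    · intro hω
      rw [SetLike.mem_coe] at hω
      induction hω using AddSubgroup.closure_induction with
      | mem ω hω =>
        simp only [Set.mem_iUnion, Set.mem_range, Finset.mem_range] at hω
        obtain ⟨j, hj, z, rfl⟩ := hω
        rcases Nat.lt_succ_iff_lt_or_eq.mp hj with h | h
        · exact ⟨0, by rw [delta_zero', sub_zero]; exact delta_mem_G h z⟩
        · subst h
          exact ⟨z, by rw [sub_self]; exact zero_mem _⟩
      | zero => exact ⟨0, by rw [delta_zero', sub_zero]; exact zero_mem _⟩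
      | add ω ω' _ _ h1 h2 =>
        obtain ⟨x, hx⟩ := h1
        obtain ⟨y, hy⟩ := h2
        refine ⟨x + y, ?_⟩
        have : ω + ω' - delta K A p n (x + y) =
            (ω - delta K A p n x) + (ω' - delta K A p n y) -
              (delta K A p n (x + y) - delta K A p n x - delta K A p n y) := by abel
        rw [this]
        exact sub_mem (add_mem hx hy) (add_defect_mem n x y)
      | neg ω _ h1 =>
        obtain ⟨x, hx⟩ := h1
        refine ⟨-x, ?_⟩
        rw [delta_neg hpA]
        have : -ω - -delta K A p n x = -(ω - delta K A p n x) := by abel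
        rw [this]
        exact neg_mem hx

lemma delta_pow_p_mul (hpA : (p : A) = 0) (j : ℕ) (e z : A) :
    delta K A p j (e ^ p * z) = ((e ^ p) ^ p ^ j) • delta K A p j z := by
  obtain ⟨k, hk⟩ : ∃ k, p ^ j = k + 1 :=
    ⟨p ^ j - 1, (Nat.sub_add_cancel (Nat.one_le_pow _ _ hp.out.pos)).symm⟩
  have hD : KaehlerDifferential.D K A (e ^ p) = 0 := by
    rw [Derivation.leibniz_pow, ← Nat.cast_smul_eq_nsmul A, hpA, zero_smul]
  rw [delta, delta, hk, Nat.add_sub_cancel, Derivation.leibniz, hD, smul_zero, add_zero,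
    smul_smul, smul_smul]
  congr 1
  ring

theorem smul_mem_G (hpA : (p : A) = 0) (n : ℕ) (x : A) (ω : Ω[A⁄K]) (hω : ω ∈ G K A p n) :
    (x ^ p ^ n) • ω ∈ G K A p n := by
  induction hω using AddSubgroup.closure_induction with
  | mem ω hω =>
    simp only [Set.mem_iUnion, Set.mem_range, Finset.mem_range] at hω
    obtain ⟨j, hj, z, rfl⟩ := hω
    obtain ⟨m, hm⟩ : ∃ m, n = j + m + 1 := ⟨n - j - 1, by omega⟩
    have h1 : x ^ p ^ n = ((x ^ p ^ m) ^ p) ^ p ^ j := by
      rw [← pow_mul, ← pow_mul, hm]
      congr 1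
      rw [pow_succ, pow_add]
      ring
    rw [h1, ← delta_pow_p_mul hpA]
    exact delta_mem_G hj _
  | zero => rw [smul_zero]; exact zero_mem _
  | add ω ω' _ _ h1 h2 => rw [smul_add]; exact add_mem h1 h2
  | neg ω _ h1 => rw [smul_neg]; exact neg_mem h1

end Groth.Agent.H29.PDiff
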