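import Mathlib
import Groth.Agent.Lib.helper28.TruncWitt
import Groth.Agent.Lib.helper24.NilFlat

/-!
# Flatness over `W₂(k)` (helper29)
-/

set_option autoImplicit false
universe u v

namespace Groth.Agent.H29.W2Flat

open TensorProduct Groth.Agent.Lib.helper28.TruncWitt

variable (p : ℕ) [hp : Fact p.Prime] (k : Type u) [Field k] [CharP k p] [PerfectRing k p]

local notation "W" => TruncatedWittVector p 2 k

theorem p_sq_eq_zero : ((p : W)) ^ 2 = 0 := p_pow_eq_zero p k 2

theorem p_mul_p : (p : W) * (p : W) = 0 := by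
  rw [← pow_two]; exact p_sq_eq_zero p k

theorem p_ne_zero : (p : W) ≠ 0 := by
  intro h
  have h1 : (p : W) = WittVector.truncate 2 (p : WittVector p k) := by rw [map_natCast]
  have h2 := congrArg (fun x : W => x.coeff 1) h
  simp only [h1, WittVector.coeff_truncate, TruncatedWittVector.coeff_zero] at h2
  rw [show ((1 : Fin 2) : ℕ) = 1 from rfl, WittVector.coeff_p_one] at h2
  exact one_ne_zero h2

/-- the annihilator of `p` in `W₂(k)` is `(p)` -/
theorem exists_eq_p_mul_of_p_mul_eq_zero (c : W) (hc : (p : W) * c = 0) : ∃ d : W, c = (p : W) * d := by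
  by_cases hu : IsUnit c
  · exfalso
    apply p_ne_zero p k
    obtain ⟨u, rfl⟩ := hu
    exact (Units.mul_left_eq_zero u).mp hc
  · have hm : c ∈ IsLocalRing.maximalIdeal W := by
      rw [IsLocalRing.mem_maximalIdeal]; exact hu
    rw [maximalIdeal_eq p k 1, Ideal.mem_span_singleton'] at hm
    obtain ⟨d, hd⟩ := hm
    exact ⟨d, by rw [← hd, mul_comm]⟩

/-- flatness criterion over `W₂(k)` -/
theorem flat_iff (M : Type v) [AddCommGroup M] [Module W M] :
    Module.Flat W M ↔ ∀ m : M, (p : W) • m = 0 → ∃ m' : M, m = (p : W) • m' := by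
  constructor
  · intro hflat m hm
    obtain ⟨κ, c, y, h1, h2⟩ := Module.Flat.isTrivialRelation_of_sum_smul_eq_zero
      (R := W) (M := M) (f := fun _ : Fin 1 => (p : W)) (x := fun _ => m) (by simpa using hm)
    have h1' : m = ∑ j, c 0 j • y j := h1 0
    have hc : ∀ j, ∃ d, c 0 j = (p : W) * d := by
      intro j
      apply exists_eq_p_mul_of_p_mul_eq_zero
      have := h2 j
      simpa using this
    choose d hd using hc
    refine ⟨∑ j, d j • y j, ?_⟩
    conv_lhs => rw [h1']
    rw [Finset.smul_sum]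
    refine Finset.sum_congr rfl fun j _ => ?_
    rw [hd j, mul_smul]
  · intro hcond
    set I : Ideal W := Ideal.span {(p : W)} with hI
    have hpI : (p : W) ∈ I := Ideal.subset_span rfl
    have hInil : IsNilpotent I := by
      refine ⟨2, ?_⟩
      rw [hI, Ideal.span_singleton_pow, p_sq_eq_zero]
      simp
    haveI hmax : I.IsMaximal := by
      rw [hI, ← maximalIdeal_eq p k 1]
      infer_instance
    letI : Field (W ⧸ I) := Ideal.Quotient.field I
    haveI : Module.Flat (W ⧸ I) ((W ⧸ I) ⊗[W] M) := inferInstance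
    refine Groth.Agent.Lib.helper24.NilFlat.flat_of_isNilpotent I M hInil ?_
    rw [injective_iff_map_eq_zero]
    intro z hz
    have hrep : ∀ z : ↥I ⊗[W] M, ∃ b : M, z = (⟨(p : W), hpI⟩ : ↥I) ⊗ₜ[W] b := by
      intro z
      induction z using TensorProduct.induction_on with
      | zero => exact ⟨0, by simp⟩
      | tmul a b =>
        obtain ⟨a, ha⟩ := a
        obtain ⟨c, rfl⟩ := Ideal.mem_span_singleton'.mp ha
        refine ⟨c • b, ?_⟩
        have h1 : (⟨c * (p : W), ha⟩ : ↥I) = c • ⟨(p : W), hpI⟩ := rfl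
        rw [h1]
        exact TensorProduct.smul_tmul c (⟨(p : W), hpI⟩ : ↥I) b
      | add x y hx hy =>
        obtain ⟨b1, rfl⟩ := hx
        obtain ⟨b2, rfl⟩ := hy
        exact ⟨b1 + b2, by rw [TensorProduct.tmul_add]⟩
    obtain ⟨b, rfl⟩ := hrep z
    rw [LinearMap.rTensor_tmul] at hz
    have hz' : (p : W) • b = 0 := by
      have := congrArg (TensorProduct.lid W M) hz
      simpa using this
    obtain ⟨b', rfl⟩ := hcond b hz'
    have h0 : (p : W) • (⟨(p : W), hpI⟩ : ↥I) = 0 := by
      ext
      simp [p_mul_p]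
    have h1 := TensorProduct.smul_tmul (R := W) (p : W) (⟨(p : W), hpI⟩ : ↥I) b'
    rw [h0, TensorProduct.zero_tmul] at h1
    exact h1.symm

end Groth.Agent.H29.W2Flat
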