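import Mathlib
import Groth.Prelude.Def_W4c1liftfrobW2
import Groth.Agent.Lib.helper29.W2Flat

/-!
# `W₂(A)` in characteristic `p`: the elements `(0, a)` and the split ideal (helper29)
-/

set_option autoImplicit false
universe u v

namespace Groth.Agent.H29.W2Split

open WittVector

section Basic

variable (p : ℕ) [hp : Fact p.Prime] (A : Type u) [CommRing A]

/-- the element `(0, a)` of `W₂(A)` -/
noncomputable def vv (a : A) : TruncatedWittVector p 2 A :=
  truncate 2 (verschiebung (teichmuller p a))

@[simp] lemma coeff_zero_vv (a : A) : (vv p A a).coeff 0 = 0 := by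
  rw [vv, coeff_truncate]
  exact verschiebung_coeff_zero _

@[simp] lemma coeff_one_vv (a : A) : (vv p A a).coeff 1 = a := by
  rw [vv, coeff_truncate]
  show (verschiebung (teichmuller p a)).coeff 1 = a
  rw [show (1 : ℕ) = Nat.succ 0 from rfl, verschiebung_coeff_succ, teichmuller_coeff_zero]

variable {p A}

lemma ext2 {x y : TruncatedWittVector p 2 A} (h0 : x.coeff 0 = y.coeff 0)
    (h1 : x.coeff 1 = y.coeff 1) : x = y := by
  apply TruncatedWittVector.ext
  intro i
  fin_cases i
  · exact h0
  · exact h1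

lemma eq_vv_of_coeff_zero (x : TruncatedWittVector p 2 A) (h : x.coeff 0 = 0) :
    x = vv p A (x.coeff 1) :=
  ext2 (by rw [h, coeff_zero_vv]) (by rw [coeff_one_vv])

lemma truncate_verschiebung_coeff_zero (X : WittVector p A) :
    (truncate 2 (verschiebung X)).coeff 0 = 0 := by
  rw [coeff_truncate]; exact verschiebung_coeff_zero _

lemma truncate_verschiebung_coeff_one (X : WittVector p A) :
    (truncate 2 (verschiebung X)).coeff 1 = X.coeff 0 := by
  rw [coeff_truncate]
  show (verschiebung X).coeff 1 = _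
  rw [show (1 : ℕ) = Nat.succ 0 from rfl, verschiebung_coeff_succ]

lemma vv_add (a b : A) : vv p A a + vv p A b = vv p A (a + b) := by
  have h : vv p A a + vv p A b =
      truncate 2 (verschiebung (teichmuller p a + teichmuller p b)) := by
    rw [vv, vv, ← map_add, ← map_add]
  rw [h]
  exact ext2 (by rw [truncate_verschiebung_coeff_zero, coeff_zero_vv])
    (by rw [truncate_verschiebung_coeff_one, add_coeff_zero, teichmuller_coeff_zero,
      teichmuller_coeff_zero, coeff_one_vv])

lemma vv_zero : vv p A 0 = 0 := by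
  have h := vv_add (p := p) (0 : A) 0
  rw [add_zero] at h
  exact add_eq_left.mp h

lemma vv_neg (a : A) : vv p A (-a) = -vv p A a := by
  rw [eq_neg_iff_add_eq_zero, vv_add, neg_add_cancel, vv_zero]

lemma vv_sub (a b : A) : vv p A a - vv p A b = vv p A (a - b) := by
  rw [sub_eq_add_neg, ← vv_neg, vv_add, sub_eq_add_neg]

variable [CharP A p]

lemma mul_vv (x : TruncatedWittVector p 2 A) (a : A) :
    x * vv p A a = vv p A (x.coeff 0 ^ p * a) := by
  obtain ⟨X, rfl⟩ := truncate_surjective p 2 A x
  have h : truncate 2 X * vv p A a =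
      truncate 2 (verschiebung (teichmuller p a * frobenius X)) := by
    rw [verschiebung_mul_frobenius, vv, ← map_mul, mul_comm]
  rw [h]
  refine ext2 (by rw [truncate_verschiebung_coeff_zero, coeff_zero_vv]) ?_
  rw [truncate_verschiebung_coeff_one, mul_coeff_zero, teichmuller_coeff_zero,
    coeff_frobenius_charP, coeff_one_vv, coeff_truncate, mul_comm]
  rfl

lemma p_mul (x : TruncatedWittVector p 2 A) :
    (p : TruncatedWittVector p 2 A) * x = vv p A (x.coeff 0 ^ p) := by
  obtain ⟨X, rfl⟩ := truncate_surjective p 2 A x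
  have h : (p : TruncatedWittVector p 2 A) * truncate 2 X =
      truncate 2 (verschiebung (frobenius X)) := by
    rw [verschiebung_frobenius, map_mul, map_natCast, mul_comm]
  rw [h]
  refine ext2 (by rw [truncate_verschiebung_coeff_zero, coeff_zero_vv]) ?_
  rw [truncate_verschiebung_coeff_one, coeff_frobenius_charP, coeff_one_vv, coeff_truncate]
  rfl

end Basic

section Split

variable (p : ℕ) [hp : Fact p.Prime] (A : Type u) [CommRing A] [CharP A p]
  (φ : A →+ A) (hφ : ∀ a b : A, φ (a ^ p * b) = a * φ b)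

include hφ in
lemma mem_splitIdeal_iff (x : TruncatedWittVector p 2 A) :
    x ∈ FrobAlg.splitIdeal p A φ ↔ x.coeff 0 = 0 ∧ φ (x.coeff 1) = 0 := by
  constructor
  · intro hx
    unfold FrobAlg.splitIdeal at hx
    induction hx using Submodule.span_induction with
    | mem y hy => exact ⟨by simpa using hy.1, hy.2⟩
    | zero => simp [TruncatedWittVector.coeff_zero]
    | add y z _ _ hy hz =>
      rw [eq_vv_of_coeff_zero y hy.1, eq_vv_of_coeff_zero z hz.1, vv_add]
      simp [hy.2, hz.2]
    | smul w y _ hy =>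
      rw [smul_eq_mul, eq_vv_of_coeff_zero y hy.1, mul_vv]
      simp [hφ, hy.2]
  · rintro ⟨h0, h1⟩
    exact Ideal.subset_span ⟨by simpa using h0, h1⟩

end Split

section Main

open Groth.Agent.Lib.helper28.TruncWitt

variable (p : ℕ) [hp : Fact p.Prime] (k : Type u) [Field k] [CharP k p] [PerfectRing k p]

lemma ker_res_eq : RingHom.ker (FrobAlg.res p k) = Ideal.span {(p : FrobAlg.W2 p k)} := by
  rw [← maximalIdeal_eq p k 1, maximalIdeal_eq_ker p k 1]
  ext x
  rw [RingHom.mem_ker, RingHom.mem_ker, FrobAlg.res_apply, coeffZero_apply]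

theorem isLift (A : Type u) [CommRing A] [Algebra k A] (φ : A →+ A)
    (hφ : ∀ a b : A, φ (a ^ p * b) = a * φ b) (hφ1 : φ 1 = 1) :
    FrobAlg.IsLift p k A (FrobAlg.W2 p A ⧸ FrobAlg.splitIdeal p A φ)
      ((Ideal.Quotient.mk (FrobAlg.splitIdeal p A φ)).comp
        (WittGrp.truncMap p 2 (algebraMap k A))) (FrobAlg.splitRes p A φ) := by
  rcases subsingleton_or_nontrivial A with hA | hA
  · haveI : Subsingleton (FrobAlg.W2 p A) :=
      ⟨fun x y => TruncatedWittVector.ext fun i => Subsingleton.elim _ _⟩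
    haveI : Subsingleton (FrobAlg.W2 p A ⧸ FrobAlg.splitIdeal p A φ) :=
      ⟨fun x y => by
        obtain ⟨x, rfl⟩ := Ideal.Quotient.mk_surjective x
        obtain ⟨y, rfl⟩ := Ideal.Quotient.mk_surjective y
        rw [Subsingleton.elim x y]⟩
    refine ⟨?_, ?_, ?_, ?_⟩
    · letI : Algebra (FrobAlg.W2 p k) (FrobAlg.W2 p A ⧸ FrobAlg.splitIdeal p A φ) :=
        ((Ideal.Quotient.mk (FrobAlg.splitIdeal p A φ)).comp
          (WittGrp.truncMap p 2 (algebraMap k A))).toAlgebra
      show Module.Flat (FrobAlg.W2 p k) (FrobAlg.W2 p A ⧸ FrobAlg.splitIdeal p A φ)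
      infer_instance
    · exact Function.surjective_to_subsingleton _
    · ext b
      rw [Subsingleton.elim b 0]
      simp
    · exact RingHom.ext fun w => Subsingleton.elim _ _
  · haveI : CharP A p := charP_of_injective_algebraMap (algebraMap k A).injective p
    set I := FrobAlg.splitIdeal p A φ with hI
    have hmem := mem_splitIdeal_iff p A φ hφ
    have hmk : ∀ x : FrobAlg.W2 p A, FrobAlg.splitRes p A φ (Ideal.Quotient.mk I x) = x.coeff 0 := by
      intro x
      show FrobAlg.res p A x = _
      rw [FrobAlg.res_apply]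
    -- K1
    have K1 : ∀ x : FrobAlg.W2 p A, x.coeff 0 = 0 → ∃ y : FrobAlg.W2 p A,
        Ideal.Quotient.mk I x = (p : FrobAlg.W2 p A ⧸ I) * Ideal.Quotient.mk I y := by
      intro x hx
      set a := φ (x.coeff 1) with ha
      let y : FrobAlg.W2 p A := truncate 2 (teichmuller p a)
      have hy0 : y.coeff 0 = a := by
        show (truncate 2 (teichmuller p a)).coeff 0 = a
        rw [coeff_truncate]; exact teichmuller_coeff_zero p a
      refine ⟨y, ?_⟩
      rw [← map_natCast (Ideal.Quotient.mk I), ← map_mul, Ideal.Quotient.eq, p_mul, hy0,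
        eq_vv_of_coeff_zero x hx, vv_sub, hmem]
      refine ⟨coeff_zero_vv p A _, ?_⟩
      rw [coeff_one_vv, map_sub]
      have := hφ a 1
      rw [mul_one, hφ1, mul_one] at this
      rw [this, ← ha, sub_self]
    have K2 : ∀ x : FrobAlg.W2 p A, (p : FrobAlg.W2 p A) * x ∈ I → x.coeff 0 = 0 := by
      intro x hx
      rw [p_mul, hmem, coeff_one_vv] at hx
      have := hφ (x.coeff 0) 1
      rw [mul_one, hφ1, mul_one] at this
      rw [← this]
      exact hx.2
    refine ⟨?_, ?_, ?_, ?_⟩
    · letI : Algebra (FrobAlg.W2 p k) (FrobAlg.W2 p A ⧸ I) :=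
        ((Ideal.Quotient.mk I).comp (WittGrp.truncMap p 2 (algebraMap k A))).toAlgebra
      show Module.Flat (FrobAlg.W2 p k) (FrobAlg.W2 p A ⧸ I)
      have hsm : ∀ m : FrobAlg.W2 p A ⧸ I, (p : FrobAlg.W2 p k) • m =
          (p : FrobAlg.W2 p A ⧸ I) * m := by
        intro m
        rw [Algebra.smul_def]
        show ((Ideal.Quotient.mk I).comp (WittGrp.truncMap p 2 (algebraMap k A)))
          (p : FrobAlg.W2 p k) * m = _
        rw [map_natCast]
      rw [Groth.Agent.H29.W2Flat.flat_iff p k (FrobAlg.W2 p A ⧸ I)]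
      intro m hm
      obtain ⟨x, rfl⟩ := Ideal.Quotient.mk_surjective m
      rw [hsm, ← map_natCast (Ideal.Quotient.mk I), ← map_mul,
        Ideal.Quotient.eq_zero_iff_mem] at hm
      obtain ⟨y, hy⟩ := K1 x (K2 x hm)
      exact ⟨Ideal.Quotient.mk I y, by rw [hsm]; exact hy⟩
    · intro a
      refine ⟨Ideal.Quotient.mk I (truncate 2 (teichmuller p a)), ?_⟩
      rw [hmk, coeff_truncate]
      exact teichmuller_coeff_zero p a
    · rw [ker_res_eq, Ideal.map_span, Set.image_singleton, map_natCast]
      ext b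
      obtain ⟨x, rfl⟩ := Ideal.Quotient.mk_surjective b
      rw [RingHom.mem_ker, hmk, Ideal.mem_span_singleton']
      constructor
      · intro hx
        obtain ⟨y, hy⟩ := K1 x hx
        exact ⟨Ideal.Quotient.mk I y, by rw [hy, mul_comm]⟩
      · rintro ⟨c, hc⟩
        have h1 := congrArg (FrobAlg.splitRes p A φ) hc
        rw [map_mul, map_natCast, CharP.cast_eq_zero, mul_zero, hmk] at h1
        exact h1.symm
    · refine RingHom.ext fun w => ?_
      show FrobAlg.splitRes p A φ (Ideal.Quotient.mk I (WittGrp.truncMap p 2 (algebraMap k A) w)) =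
        algebraMap k A (FrobAlg.res p k w)
      rw [hmk, WittGrp.coeff_truncMap, FrobAlg.res_apply]

end Main

end Groth.Agent.H29.W2Split
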