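import Mathlib
import Groth.Prelude.Def_W4c1liftfrobW2
import Groth.Agent.Lib.helper29.W2Flat
import Groth.Agent.Lib.helper29.W2Split

/-!
# The standard Frobenius lift on `W₂(k)[x]` and its perturbations (Taylor expansion mod `p²`)
-/

set_option autoImplicit false
universe u v

namespace Groth.Agent.H29.PolyFrob

open MvPolynomial

variable (p : ℕ) [hp : Fact p.Prime] (k : Type u) [Field k] [CharP k p] [PerfectRing k p]
variable (ι : Type v)

local notation "W" => FrobAlg.W2 p k
local notation "R'" => MvPolynomial ι (FrobAlg.W2 p k)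
local notation "F'" => FrobAlg.polyFrob p k ι

theorem res_sigma (w : W) : FrobAlg.res p k (FrobAlg.sigma p k w) = (FrobAlg.res p k w) ^ p := by
  rw [FrobAlg.res_apply, FrobAlg.res_apply, WittGrp.coeff_frob]

theorem sigma_sub_pow (w : W) : ∃ d : W, FrobAlg.sigma p k w - w ^ p = (p : W) * d := by
  have : FrobAlg.sigma p k w - w ^ p ∈ RingHom.ker (FrobAlg.res p k) := by
    rw [RingHom.mem_ker, map_sub, res_sigma, map_pow, sub_self]
  rw [Groth.Agent.H29.W2Split.ker_res_eq, Ideal.mem_span_singleton'] at this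
  obtain ⟨d, hd⟩ := this
  exact ⟨d, by rw [← hd, mul_comm]⟩

theorem p_mul_p : (p : R') * (p : R') = 0 := by
  have h := congrArg (C : W →+* R') (Groth.Agent.H29.W2Flat.p_mul_p p k)
  simpa using h

theorem polyFrob_C (w : W) : F' (C w) = C (FrobAlg.sigma p k w) := by
  simp [FrobAlg.polyFrob]

theorem polyFrob_X (i : ι) : F' (X i) = X i ^ p := by
  simp [FrobAlg.polyFrob]

/-- `F'(g) ≡ g^p` modulo `p`. -/
theorem polyFrob_sub_pow (g : R') : ∃ d : R', F' g - g ^ p = (p : R') * d := by
  induction g using MvPolynomial.induction_on with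
  | C w =>
    obtain ⟨d, hd⟩ := sigma_sub_pow p k w
    refine ⟨C d, ?_⟩
    rw [polyFrob_C, ← map_pow, ← map_sub, hd, map_mul, map_natCast]
  | add a b ha hb =>
    obtain ⟨da, hda⟩ := ha
    obtain ⟨db, hdb⟩ := hb
    obtain ⟨r, hr⟩ := exists_add_pow_prime_eq hp.out a b
    refine ⟨da + db - a * b * r, ?_⟩
    rw [map_add, hr]
    have : F' a + F' b - (a ^ p + b ^ p + (p : R') * a * b * r) =
        (F' a - a ^ p) + (F' b - b ^ p) - (p : R') * (a * b * r) := by ring
    rw [this, hda, hdb]
    ring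
  | mul_X g i hg =>
    obtain ⟨d, hd⟩ := hg
    refine ⟨d * X i ^ p, ?_⟩
    rw [map_mul, polyFrob_X, mul_pow, ← sub_mul, hd]
    ring

theorem p_mul_polyFrob (g : R') : (p : R') * F' g = (p : R') * g ^ p := by
  obtain ⟨d, hd⟩ := polyFrob_sub_pow p k ι g
  have : F' g = g ^ p + (p : R') * d := by rw [← hd]; ring
  rw [this, mul_add, ← mul_assoc, p_mul_p, zero_mul, add_zero]

theorem p_mul_add_pow (x y : R') : (p : R') * (x + y) ^ p = (p : R') * x ^ p + (p : R') * y ^ p := by
  obtain ⟨r, hr⟩ := exists_add_pow_prime_eq hp.out x y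
  rw [hr, mul_add, mul_add]
  have : (p : R') * ((p : R') * x * y * r) = ((p : R') * (p : R')) * (x * y * r) := by ring
  rw [this, p_mul_p, zero_mul, add_zero]

/-- the perturbed Frobenius lift `x_i ↦ x_i^p + p h_i` -/
noncomputable def pert (h : ι → R') : R' →+* R' :=
  MvPolynomial.eval₂Hom (MvPolynomial.C.comp (FrobAlg.sigma p k)) fun i => X i ^ p + (p : R') * h i

theorem pert_C (h : ι → R') (w : W) : pert p k ι h (C w) = C (FrobAlg.sigma p k w) := by
  simp [pert]

theorem pert_X (h : ι → R') (i : ι) : pert p k ι h (X i) = X i ^ p + (p : R') * h i := by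
  simp [pert]


/-- Taylor expansion modulo `p²` of the perturbed Frobenius lift. -/
theorem pert_eq [Fintype ι] [DecidableEq ι] (h : ι → R') (g : R') :
    pert p k ι h g = F' g + (p : R') * ∑ j, pderiv j g ^ p * h j := by
  have hp0 : p ≠ 0 := hp.out.ne_zero
  induction g using MvPolynomial.induction_on with
  | C w =>
    rw [pert_C, polyFrob_C]
    simp [pderiv_C, zero_pow hp0]
  | add a b ha hb =>
    rw [map_add, map_add, ha, hb]
    have : ∀ j, (p : R') * (pderiv j (a + b) ^ p * h j) =
        (p : R') * (pderiv j a ^ p * h j) + (p : R') * (pderiv j b ^ p * h j) := by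
      intro j
      rw [map_add, ← mul_assoc, p_mul_add_pow, add_mul, mul_assoc, mul_assoc]
    rw [Finset.mul_sum, Finset.mul_sum, Finset.mul_sum]
    simp_rw [this]
    rw [Finset.sum_add_distrib]
    ring
  | mul_X g i hg =>
    rw [map_mul, map_mul, hg, pert_X, polyFrob_X]
    have hterm : ∀ j, (p : R') * (pderiv j (g * X i) ^ p * h j) =
        (p : R') * (pderiv j g ^ p * h j) * X i ^ p +
          (if j = i then (p : R') * g ^ p * h i else 0) := by
      intro j
      rw [pderiv_mul, pderiv_X, ← mul_assoc, p_mul_add_pow, add_mul, mul_pow, mul_pow]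
      by_cases hji : j = i
      · subst hji
        rw [Pi.single_eq_same, if_pos rfl, one_pow]; ring
      · rw [Pi.single_eq_of_ne (Ne.symm hji), if_neg hji, zero_pow hp0]; ring
    rw [Finset.mul_sum (s := Finset.univ) (f := fun j => pderiv j (g * X i) ^ p * h j)]
    simp_rw [hterm]
    rw [Finset.sum_add_distrib, Finset.sum_ite_eq' Finset.univ i, if_pos (Finset.mem_univ i),
      ← Finset.sum_mul, ← Finset.mul_sum]
    have e1 : (F' g + (p : R') * ∑ j, pderiv j g ^ p * h j) * (X i ^ p + (p : R') * h i) =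
        F' g * X i ^ p + ((p : R') * F' g) * h i +
          (p : R') * (∑ j, pderiv j g ^ p * h j) * X i ^ p +
          ((p : R') * (p : R')) * ((∑ j, pderiv j g ^ p * h j) * h i) := by ring
    rw [e1, p_mul_p, zero_mul, add_zero, p_mul_polyFrob]
    ring

end Groth.Agent.H29.PolyFrob
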