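import Mathlib

/-!
# The apolar functional certifying that the quadric cone is not Frobenius-liftable (helper29)
-/

set_option autoImplicit false
universe u v
namespace Groth.Agent.H29.QuadLam
open MvPolynomial

section Lam
variable (W : Type*) [CommRing W] (n : ℕ) (F : MvPolynomial (Fin n) W)

/-- the "left" exponent vector -/
noncomputable def expL (m : Fin n × Fin 2 →₀ ℕ) : Fin n →₀ ℕ :=
  Finsupp.equivFunOnFinite.symm (fun i => m (i, 0))

theorem expL_apply (m : Fin n × Fin 2 →₀ ℕ) (i : Fin n) : expL n m i = m (i, 0) := rfl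

/-- balanced exponents -/
def Bal (m : Fin n × Fin 2 →₀ ℕ) : Prop := ∀ i, m (i, 0) = m (i, 1)

/-- weights of the apolar functional -/
noncomputable def wt (m : Fin n × Fin 2 →₀ ℕ) : W :=
  open Classical in
  if Bal n m then ((∏ i, (m (i, 0)).factorial : ℕ) : W) * coeff (expL n m) F else 0

/-- the apolar functional -/
noncomputable def lam : MvPolynomial (Fin n × Fin 2) W →ₗ[W] W :=
  (MvPolynomial.basisMonomials (Fin n × Fin 2) W).constr W (wt W n F)

theorem lam_monomial (m : Fin n × Fin 2 →₀ ℕ) (c : W) :
    lam W n F (monomial m c) = c * wt W n F m := by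
  have : monomial m c = c • (MvPolynomial.basisMonomials (Fin n × Fin 2) W) m := by
    rw [MvPolynomial.coe_basisMonomials, smul_monomial, smul_eq_mul, mul_one]
  rw [this, map_smul, lam, Module.Basis.constr_basis, smul_eq_mul]

/-- the exponent of `x_i y_i` -/
noncomputable def sI (i : Fin n) : Fin n × Fin 2 →₀ ℕ :=
  Finsupp.single (i, 0) 1 + Finsupp.single (i, 1) 1

theorem bal_add_sI (m : Fin n × Fin 2 →₀ ℕ) (i : Fin n) : Bal n (m + sI n i) ↔ Bal n m := by
  unfold Bal sI
  constructor
  · intro h j
    have := h j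
    simp only [Finsupp.add_apply, Finsupp.single_apply, Prod.mk.injEq] at this
    by_cases hj : i = j
    · subst hj; simp at this; omega
    · simp [hj] at this; omega
  · intro h j
    simp only [Finsupp.add_apply, Finsupp.single_apply, Prod.mk.injEq]
    by_cases hj : i = j
    · subst hj; simp; exact h i
    · simp [hj]; exact h j

theorem expL_add_sI (m : Fin n × Fin 2 →₀ ℕ) (i : Fin n) :
    expL n (m + sI n i) = expL n m + Finsupp.single i 1 := by
  ext j
  simp only [expL_apply, Finsupp.add_apply, sI, Finsupp.single_apply, Prod.mk.injEq]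
  by_cases hj : i = j
  · subst hj; simp
  · simp [hj]

theorem prod_fact_add_sI (m : Fin n × Fin 2 →₀ ℕ) (i : Fin n) :
    (∏ j, ((m + sI n i) (j, 0)).factorial) = (m (i, 0) + 1) * ∏ j, (m (j, 0)).factorial := by
  rw [← Finset.mul_prod_erase Finset.univ _ (Finset.mem_univ i),
    ← Finset.mul_prod_erase Finset.univ (fun j => (m (j, 0)).factorial) (Finset.mem_univ i)]
  have h1 : (m + sI n i) (i, 0) = m (i, 0) + 1 := by
    simp [sI]
  have h2 : ∀ j ∈ Finset.univ.erase i, ((m + sI n i) (j, 0)).factorial = (m (j, 0)).factorial := by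
    intro j hj
    have hne : j ≠ i := Finset.ne_of_mem_erase hj
    have : (m + sI n i) (j, 0) = m (j, 0) := by
      simp [sI, hne.symm]
    rw [this]
  rw [h1, Finset.prod_congr rfl h2, Nat.factorial_succ, mul_assoc]

/-- the quadric -/
noncomputable def qq : MvPolynomial (Fin n × Fin 2) W := ∑ i : Fin n, X (i, 0) * X (i, 1)

theorem qq_mul_monomial (m : Fin n × Fin 2 →₀ ℕ) (c : W) :
    qq W n * monomial m c = ∑ i : Fin n, monomial (m + sI n i) c := by
  rw [qq, Finset.sum_mul]
  apply Finset.sum_congr rfl
  intro i _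
  rw [X, X, monomial_mul, monomial_mul, one_mul, one_mul, sI, add_comm]

theorem lam_qq_mul (hDF : ∑ i : Fin n, pderiv i F = 0) (f : MvPolynomial (Fin n × Fin 2) W) :
    lam W n F (qq W n * f) = 0 := by
  induction f using MvPolynomial.induction_on' with
  | add f g hf hg => rw [mul_add, map_add, hf, hg, add_zero]
  | monomial m c =>
    rw [qq_mul_monomial, map_sum]
    simp_rw [lam_monomial]
    by_cases hb : Bal n m
    · have h1 : ∀ i, wt W n F (m + sI n i) =
          ((∏ j, (m (j, 0)).factorial : ℕ) : W) * coeff (expL n m) (pderiv i F) := by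
        intro i
        unfold wt
        rw [if_pos ((bal_add_sI n m i).mpr hb), expL_add_sI, prod_fact_add_sI, coeff_pderiv,
          expL_apply]
        push_cast
        ring
      simp_rw [h1, ← Finset.mul_sum, ← coeff_sum, hDF, coeff_zero, mul_zero]
    · have h1 : ∀ i, wt W n F (m + sI n i) = 0 := by
        intro i
        unfold wt
        rw [if_neg (fun h => hb ((bal_add_sI n m i).mp h))]
      simp_rw [h1, mul_zero, Finset.sum_const_zero]

theorem lam_X_pow_mul (p : ℕ) [hp : Fact p.Prime] [CharP W p] (v : Fin n × Fin 2)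
    (f : MvPolynomial (Fin n × Fin 2) W) : lam W n F (X v ^ p * f) = 0 := by
  induction f using MvPolynomial.induction_on' with
  | add f g hf hg => rw [mul_add, map_add, hf, hg, add_zero]
  | monomial m c =>
    rw [X_pow_eq_monomial, monomial_mul, one_mul, lam_monomial]
    unfold wt
    split_ifs with hb
    · have hge : p ≤ (Finsupp.single v p + m) (v.1, 0) := by
        obtain ⟨i, e⟩ := v
        have h0 := hb i
        fin_cases e
        · simp
        · have : (Finsupp.single ((i, 1) : Fin n × Fin 2) p + m) (i, 1) = p + m (i, 1) := by simp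
          change (Finsupp.single ((i, 1) : Fin n × Fin 2) p + m) (i, 0) =
            (Finsupp.single ((i, 1) : Fin n × Fin 2) p + m) (i, 1) at h0
          change p ≤ (Finsupp.single ((i, 1) : Fin n × Fin 2) p + m) (i, 0)
          rw [h0, this]
          omega
      have hdvd : p ∣ ∏ i, ((Finsupp.single v p + m) (i, 0)).factorial :=
        dvd_trans ((hp.out.dvd_factorial).mpr hge)
          (Finset.dvd_prod_of_mem _ (Finset.mem_univ v.1))
      rw [(CharP.cast_eq_zero_iff W p _).mpr hdvd, zero_mul, mul_zero]
    · rw [mul_zero]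

theorem lam_map {W' : Type*} [CommRing W'] (φ : W →+* W') (f : MvPolynomial (Fin n × Fin 2) W) :
    lam W' n (map φ F) (map φ f) = φ (lam W n F f) := by
  induction f using MvPolynomial.induction_on' with
  | add f g hf hg => rw [map_add, map_add, hf, hg, map_add, map_add]
  | monomial m c =>
    rw [map_monomial, lam_monomial, lam_monomial, map_mul]
    congr 1
    unfold wt
    split_ifs
    · rw [map_mul, map_natCast, coeff_map]
    · rw [map_zero]

end Lam
section FF
variable (W : Type*) [CommRing W] (n : ℕ) (hn : 3 ≤ n) (p : ℕ)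

/-- `coeff` of a pure power through substitution -/
theorem coeff_single_eq (G : MvPolynomial (Fin n) W) (i : Fin n) (d : ℕ) :
    coeff (Finsupp.single i d) G =
      Polynomial.coeff (aeval (fun j => if j = i then (Polynomial.X : Polynomial W) else 0) G) d := by
  induction G using MvPolynomial.induction_on' with
  | add f g hf hg => rw [coeff_add, map_add, Polynomial.coeff_add, hf, hg]
  | monomial m c =>
    rw [aeval_monomial, coeff_monomial]
    by_cases h : ∃ j, j ≠ i ∧ m j ≠ 0
    · obtain ⟨j, hji, hmj⟩ := h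
      have h1 : m ≠ Finsupp.single i d := by
        intro h2
        rw [h2, Finsupp.single_apply, if_neg (Ne.symm hji)] at hmj
        exact hmj rfl
      have h2 : (m.prod fun k e => (if k = i then (Polynomial.X : Polynomial W) else 0) ^ e) = 0 := by
        apply Finset.prod_eq_zero (Finsupp.mem_support_iff.mpr hmj)
        dsimp only
        rw [if_neg hji, zero_pow hmj]
      rw [if_neg h1, h2, mul_zero, Polynomial.coeff_zero]
    · push_neg at h
      have hm : m = Finsupp.single i (m i) := by
        ext j
        by_cases hj : j = i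
        · subst hj; simp
        · rw [Finsupp.single_apply, if_neg (Ne.symm hj)]; exact h j hj
      have h2 : (m.prod fun k e => (if k = i then (Polynomial.X : Polynomial W) else 0) ^ e) =
          Polynomial.X ^ (m i) := by
        conv_lhs => rw [hm]
        rw [Finsupp.prod_single_index (by simp), if_pos rfl]
      rw [h2, Polynomial.algebraMap_eq, Polynomial.coeff_C_mul, Polynomial.coeff_X_pow]
      by_cases hd : m i = d
      · rw [if_pos (by rw [hm, hd]), if_pos hd.symm, mul_one]
      · rw [if_neg (by intro h3; apply hd; rw [h3]; simp), if_neg (Ne.symm hd), mul_zero]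

/-- the three distinguished variables -/
def z0 : Fin n := ⟨0, by omega⟩
/-- second variable -/
def z1 : Fin n := ⟨1, by omega⟩
/-- third variable -/
def z2 : Fin n := ⟨2, by omega⟩

include hn in
theorem z_ne : z0 n hn ≠ z1 n hn ∧ z0 n hn ≠ z2 n hn ∧ z1 n hn ≠ z2 n hn := by
  refine ⟨?_, ?_, ?_⟩ <;> simp [z0, z1, z2, Fin.ext_iff]

/-- the apolar form `(Z₀ - Z₁)^(p-1) (Z₁ - Z₂)` -/
noncomputable def FF : MvPolynomial (Fin n) W :=
  (X (z0 n hn) - X (z1 n hn)) ^ (p - 1) * (X (z1 n hn) - X (z2 n hn))

theorem map_FF {W' : Type*} [CommRing W'] (φ : W →+* W') :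
    map φ (FF W n hn p) = FF W' n hn p := by
  simp [FF]

theorem dsum_X (j : Fin n) : ∑ i : Fin n, pderiv i (X j : MvPolynomial (Fin n) W) = 1 := by
  classical
  simp_rw [pderiv_X]
  simp

theorem dsum_FF : ∑ i : Fin n, pderiv i (FF W n hn p) = 0 := by
  have h1 : ∑ i : Fin n, pderiv i (X (z0 n hn) - X (z1 n hn) : MvPolynomial (Fin n) W) = 0 := by
    simp_rw [map_sub, Finset.sum_sub_distrib, dsum_X, sub_self]
  have h2 : ∑ i : Fin n, pderiv i (X (z1 n hn) - X (z2 n hn) : MvPolynomial (Fin n) W) = 0 := by
    simp_rw [map_sub, Finset.sum_sub_distrib, dsum_X, sub_self]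
  unfold FF
  simp_rw [pderiv_mul, pderiv_pow, Finset.sum_add_distrib, ← Finset.sum_mul, ← Finset.mul_sum,
    h1, h2, mul_zero, zero_mul, add_zero]

theorem coeff_single_FF (hp2 : 2 ≤ p) (i : Fin n) :
    coeff (Finsupp.single i p) (FF W n hn p) = if i = z1 n hn then (-1) ^ (p - 1) else 0 := by
  obtain ⟨h01, h02, h12⟩ := z_ne n hn
  rw [coeff_single_eq, FF, map_mul, map_pow, map_sub, map_sub, aeval_X, aeval_X, aeval_X]
  by_cases h1 : i = z1 n hn
  · subst h1
    rw [if_neg h01, if_pos rfl, if_neg (Ne.symm h12), if_pos rfl, zero_sub, sub_zero, neg_pow,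
      mul_assoc, ← pow_succ, Nat.sub_add_cancel (by omega)]
    rw [← Polynomial.C_1, ← Polynomial.C_neg, ← Polynomial.C_pow, Polynomial.coeff_C_mul,
      Polynomial.coeff_X_pow, if_pos rfl, mul_one]
  · rw [if_neg h1, if_neg (Ne.symm h1)]
    by_cases h2 : i = z2 n hn
    · subst h2
      rw [if_neg h02, sub_self, zero_pow (by omega), zero_mul, Polynomial.coeff_zero]
    · rw [if_neg (Ne.symm h2), sub_self, mul_zero, Polynomial.coeff_zero]

/-- the exponent of `x_i^p y_i^p` -/
theorem lam_pow_pow (hp2 : 2 ≤ p) (i : Fin n) :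
    lam W n (FF W n hn p) ((X (i, 0)) ^ p * (X (i, 1)) ^ p) =
      (p.factorial : W) * (if i = z1 n hn then (-1) ^ (p - 1) else 0) := by
  rw [X_pow_eq_monomial, X_pow_eq_monomial, monomial_mul, one_mul, lam_monomial, one_mul]
  unfold wt
  have hb : Bal n (Finsupp.single ((i, 0) : Fin n × Fin 2) p + Finsupp.single (i, 1) p) := by
    intro j
    simp only [Finsupp.add_apply, Finsupp.single_apply, Prod.mk.injEq]
    by_cases hj : i = j
    · subst hj; simp
    · simp [hj]
  have he : expL n (Finsupp.single ((i, 0) : Fin n × Fin 2) p + Finsupp.single (i, 1) p) =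
      Finsupp.single i p := by
    ext j
    simp only [expL_apply, Finsupp.add_apply, Finsupp.single_apply, Prod.mk.injEq]
    by_cases hj : i = j
    · subst hj; simp
    · simp [hj]
  have hf : (∏ j, ((Finsupp.single ((i, 0) : Fin n × Fin 2) p + Finsupp.single (i, 1) p :
      Fin n × Fin 2 →₀ ℕ) (j, 0)).factorial) = p.factorial := by
    rw [Finset.prod_eq_single i]
    · simp
    · intro j _ hj
      simp [Ne.symm hj]
    · intro h; exact absurd (Finset.mem_univ i) h
  rw [if_pos hb, he, hf, coeff_single_FF W n hn p hp2]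

end FF

end Groth.Agent.H29.QuadLam
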