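import Mathlib
import Groth.Prelude.Def_W4c1liftfrobW2
import Groth.Agent.Lib.helper29.W2Flat
import Groth.Agent.Lib.helper29.W2Split

/-!
# `W₂(k)` is an artinian local principal ideal ring; `W₂(k)/(p) ≃ k`
-/

set_option autoImplicit false
universe u v

namespace Groth.Agent.H29.W2Art

open Groth.Agent.Lib.helper28.TruncWitt

variable (p : ℕ) [hp : Fact p.Prime] (k : Type u) [Field k] [CharP k p] [PerfectRing k p]

local notation "W" => FrobAlg.W2 p k

theorem res_surjective : Function.Surjective (FrobAlg.res p k) := by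
  intro a
  refine ⟨WittVector.truncate 2 (WittVector.teichmuller p a), ?_⟩
  rw [FrobAlg.res_truncate, WittVector.teichmuller_coeff_zero]

theorem maxIdeal_eq : IsLocalRing.maximalIdeal W = Ideal.span {(p : W)} := maximalIdeal_eq p k 1

theorem ideal_cases (J : Ideal W) : J = ⊥ ∨ J = Ideal.span {(p : W)} ∨ J = ⊤ := by
  by_cases h0 : J = ⊥
  · exact Or.inl h0
  by_cases htop : J = ⊤
  · exact Or.inr (Or.inr htop)
  right; left
  have hle : J ≤ Ideal.span {(p : W)} := by
    rw [← maxIdeal_eq]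
    exact IsLocalRing.le_maximalIdeal htop
  refine le_antisymm hle ?_
  obtain ⟨x, hxJ, hx0⟩ := Submodule.exists_mem_ne_zero_of_ne_bot h0
  obtain ⟨d, hd⟩ := Ideal.mem_span_singleton'.mp (hle hxJ)
  have hdu : IsUnit d := by
    by_contra hnu
    have hdm : d ∈ IsLocalRing.maximalIdeal W := (IsLocalRing.mem_maximalIdeal _).mpr hnu
    rw [maxIdeal_eq, Ideal.mem_span_singleton'] at hdm
    obtain ⟨d', hd'⟩ := hdm
    apply hx0
    rw [← hd, ← hd', mul_assoc, Groth.Agent.H29.W2Flat.p_mul_p, mul_zero]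
  rw [Ideal.span_singleton_le_iff_mem]
  obtain ⟨u, rfl⟩ := hdu
  have : (p : W) = (↑u⁻¹ : W) * x := by
    rw [← hd, ← mul_assoc, Units.inv_mul, one_mul]
  rw [this]
  exact Ideal.mul_mem_left _ _ hxJ

instance : IsPrincipalIdealRing W := by
  refine ⟨fun J => ?_⟩
  rcases ideal_cases p k J with h | h | h
  · rw [h]; exact ⟨⟨0, by simp⟩⟩
  · rw [h]; exact ⟨⟨(p : W), rfl⟩⟩
  · rw [h]; exact ⟨⟨1, by simp⟩⟩

instance : IsArtinianRing W := by
  rw [isArtinianRing_iff_isNilpotent_maximalIdeal]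
  refine ⟨2, ?_⟩
  rw [maxIdeal_eq, Ideal.span_singleton_pow, Groth.Agent.H29.W2Flat.p_sq_eq_zero]
  simp

theorem span_p_ne_top : Ideal.span {(p : W)} ≠ ⊤ := by
  rw [← maxIdeal_eq]
  exact (IsLocalRing.maximalIdeal.isMaximal W).ne_top

/-- `W₂(k)/(p) ≃ k` -/
noncomputable def eK : (W ⧸ Ideal.span {(p : W)}) ≃+* k :=
  (Ideal.quotEquivOfEq (Groth.Agent.H29.W2Split.ker_res_eq p k).symm).trans
    (RingHom.quotientKerEquivOfSurjective (res_surjective p k))

theorem eK_mk (w : W) : eK p k (Ideal.Quotient.mk _ w) = FrobAlg.res p k w := by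
  simp [eK]

theorem eK_comp_mk : (eK p k).toRingHom.comp (Ideal.Quotient.mk _) = FrobAlg.res p k := by
  ext w
  exact eK_mk p k w

end Groth.Agent.H29.W2Art
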