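import Mathlib
import Groth.Prelude.Def_W4c1liftfrobW2
import Groth.Agent.Lib.helper29.W2Split

/-!
# The ghost map `w₁` on `W₂(B)`, Teichmüller representatives, Frobenius lifts (helper29)
-/

set_option autoImplicit false
universe u v

namespace Groth.Agent.H29.W2Ghost

open WittVector Groth.Agent.H29.W2Split

section Ghost

variable (p : ℕ) [hp : Fact p.Prime] (B : Type u) [CommRing B]

lemma ghostComponent_one (X : WittVector p B) :
    ghostComponent 1 X = X.coeff 0 ^ p + (p : B) * X.coeff 1 := by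
  rw [ghostComponent_apply, wittPolynomial_one]
  simp [add_comm]

/-- the ghost map `w₁ : W₂(B) → B`, `(b₀, b₁) ↦ b₀ ^ p + p b₁` -/
noncomputable def gh : TruncatedWittVector p 2 B →+* B :=
  RingHom.liftOfSurjective (truncate 2) (truncate_surjective p 2 B)
    ⟨ghostComponent 1, fun X hX => by
      rw [RingHom.mem_ker] at hX ⊢
      have h := (mem_ker_truncate 2 X).1 (RingHom.mem_ker.2 hX)
      rw [ghostComponent_one, h 0 (by omega), h 1 (by omega)]
      simp [hp.out.ne_zero]⟩

lemma gh_truncate (X : WittVector p B) : gh p B (truncate 2 X) = ghostComponent 1 X :=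
  RingHom.liftOfRightInverse_comp_apply _ _ _ _ X

lemma gh_apply (x : TruncatedWittVector p 2 B) :
    gh p B x = x.coeff 0 ^ p + (p : B) * x.coeff 1 := by
  obtain ⟨X, rfl⟩ := truncate_surjective p 2 B x
  rw [gh_truncate, ghostComponent_one, coeff_truncate, coeff_truncate]
  rfl

/-- Teichmüller representative in `W₂(B)` -/
noncomputable def tt (b : B) : TruncatedWittVector p 2 B := truncate 2 (teichmuller p b)

@[simp] lemma coeff_zero_tt (b : B) : (tt p B b).coeff 0 = b := by
  rw [tt, coeff_truncate]; exact teichmuller_coeff_zero p b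

@[simp] lemma coeff_one_tt (b : B) : (tt p B b).coeff 1 = 0 := by
  rw [tt, coeff_truncate]
  exact teichmuller_coeff_pos p b 1 Nat.one_pos

lemma tt_pow (b : B) (n : ℕ) : tt p B b ^ n = tt p B (b ^ n) := by
  rw [tt, tt, ← map_pow, ← map_pow]

lemma gh_tt (b : B) : gh p B (tt p B b) = b ^ p := by
  rw [gh_apply, coeff_zero_tt, coeff_one_tt, mul_zero, add_zero]

variable {p B}

lemma coeff_zero_add (x y : TruncatedWittVector p 2 B) :
    (x + y).coeff 0 = x.coeff 0 + y.coeff 0 := by
  rw [← FrobAlg.res_apply, ← FrobAlg.res_apply, ← FrobAlg.res_apply, map_add]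

lemma coeff_zero_mul (x y : TruncatedWittVector p 2 B) :
    (x * y).coeff 0 = x.coeff 0 * y.coeff 0 := by
  rw [← FrobAlg.res_apply, ← FrobAlg.res_apply, ← FrobAlg.res_apply, map_mul]

lemma coeff_zero_sub (x y : TruncatedWittVector p 2 B) :
    (x - y).coeff 0 = x.coeff 0 - y.coeff 0 := by
  rw [← FrobAlg.res_apply, ← FrobAlg.res_apply, ← FrobAlg.res_apply, map_sub]

lemma coeff_zero_one : (1 : TruncatedWittVector p 2 B).coeff 0 = 1 := by
  rw [← FrobAlg.res_apply, map_one]

lemma coeff_zero_zero : (0 : TruncatedWittVector p 2 B).coeff 0 = 0 := by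
  rw [← FrobAlg.res_apply, map_zero]

lemma truncMap_tt {A : Type v} [CommRing A] (f : B →+* A) (b : B) :
    WittGrp.truncMap p 2 f (tt p B b) = tt p A (f b) :=
  ext2 (by rw [WittGrp.coeff_truncMap, coeff_zero_tt, coeff_zero_tt])
    (by rw [WittGrp.coeff_truncMap, coeff_one_tt, coeff_one_tt, map_zero])

end Ghost

section Perfect

variable (p : ℕ) [hp : Fact p.Prime] (k : Type u) [Field k] [CharP k p] [PerfectRing k p]

lemma exists_eq_tt_add (w : TruncatedWittVector p 2 k) :
    ∃ c : k, w = tt p k (w.coeff 0) + (p : TruncatedWittVector p 2 k) * tt p k c := by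
  have h0 : (w - tt p k (w.coeff 0)).coeff 0 = 0 := by
    rw [coeff_zero_sub, coeff_zero_tt, sub_self]
  have h1 := eq_vv_of_coeff_zero _ h0
  obtain ⟨c, hc⟩ := (frobeniusEquiv k p).surjective ((w - tt p k (w.coeff 0)).coeff 1)
  refine ⟨c, ?_⟩
  rw [p_mul, coeff_zero_tt]
  have hc' : c ^ p = (w - tt p k (w.coeff 0)).coeff 1 := by
    rw [← hc]; rfl
  rw [hc', ← h1]
  ring

lemma ringHom_ext_tt {S : Type v} [CommRing S] (f g : TruncatedWittVector p 2 k →+* S)
    (h : ∀ a : k, f (tt p k a) = g (tt p k a)) : f = g := by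
  ext w
  obtain ⟨c, hc⟩ := exists_eq_tt_add p k w
  rw [hc, map_add, map_add, map_mul, map_mul, map_natCast, map_natCast, h, h]

lemma sigma_tt (a : k) : FrobAlg.sigma p k (tt p k a) = tt p k (a ^ p) :=
  ext2 (by rw [WittGrp.coeff_frob, coeff_zero_tt, coeff_zero_tt])
    (by rw [WittGrp.coeff_frob, coeff_one_tt, coeff_one_tt, zero_pow hp.out.ne_zero])

end Perfect

end Groth.Agent.H29.W2Ghost
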