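import Mathlib
import Groth.Prelude.Def_W4c1liftfrobW2
import Groth.Agent.Lib.helper29.W2Ghost

/-!
# Frobenius lifts on a flat lifting over `W₂(k)` versus maps to `W₂(A)` (helper29)
-/

set_option autoImplicit false
universe u

namespace Groth.Agent.H29.W2Frob

open WittVector Groth.Agent.H29.W2Split Groth.Agent.H29.W2Ghost

variable (p : ℕ) [hp : Fact p.Prime] (k : Type u) [Field k] [CharP k p] [PerfectRing k p]
  (A B : Type u) [CommRing A] [Algebra k A] [CommRing B]
  (ι : FrobAlg.W2 p k →+* B) (π : B →+* A) (hB : FrobAlg.IsLift p k A B ι π)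

include hB

lemma ker_eq_span : RingHom.ker π = Ideal.span {(p : B)} := by
  rw [hB.ker_eq, ker_res_eq, Ideal.map_span, Set.image_singleton, map_natCast]

lemma pi_p : π (p : B) = 0 := by
  have h : (p : B) ∈ RingHom.ker π := by
    rw [ker_eq_span p k A B ι π hB]; exact Ideal.subset_span rfl
  exact h

lemma p_mul_p : (p : B) * (p : B) = 0 := by
  have h := W2Flat.p_mul_p p k
  have h2 := congrArg ι h
  rwa [map_mul, map_natCast, map_zero] at h2

lemma pi_eq_zero_of_p_mul (b : B) (h : (p : B) * b = 0) : π b = 0 := by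
  letI := ι.toAlgebra
  have hflat : Module.Flat (FrobAlg.W2 p k) B := hB.flat
  have h1 : ((p : FrobAlg.W2 p k)) • b = 0 := by
    rw [Algebra.smul_def]
    show ι (p : FrobAlg.W2 p k) * b = 0
    rw [map_natCast]; exact h
  obtain ⟨b', hb'⟩ := (W2Flat.flat_iff p k B).mp hflat b h1
  rw [hb', Algebra.smul_def]
  show π (ι (p : FrobAlg.W2 p k) * b') = 0
  rw [map_natCast, map_mul, pi_p p k A B ι π hB, zero_mul]

lemma truncMap_eq_of_gh_eq (X Z : TruncatedWittVector p 2 B) (h0 : X.coeff 0 = Z.coeff 0)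
    (h1 : gh p B X = gh p B Z) :
    WittGrp.truncMap p 2 π X = WittGrp.truncMap p 2 π Z := by
  refine ext2 (by rw [WittGrp.coeff_truncMap, WittGrp.coeff_truncMap, h0]) ?_
  rw [WittGrp.coeff_truncMap, WittGrp.coeff_truncMap]
  rw [gh_apply, gh_apply, h0] at h1
  have h2 : (p : B) * (X.coeff 1 - Z.coeff 1) = 0 := by
    rw [mul_sub, sub_eq_zero]; exact add_left_cancel h1
  have h3 := pi_eq_zero_of_p_mul p k A B ι π hB _ h2
  rw [map_sub, sub_eq_zero] at h3
  exact h3

lemma truncMap_surjective : Function.Surjective (WittGrp.truncMap p 2 π) := by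
  intro y
  obtain ⟨b0, hb0⟩ := hB.surj (y.coeff 0)
  obtain ⟨b1, hb1⟩ := hB.surj (y.coeff 1)
  refine ⟨TruncatedWittVector.mk p ![b0, b1], ext2 ?_ ?_⟩
  · rw [WittGrp.coeff_truncMap, TruncatedWittVector.coeff_mk]; exact hb0
  · rw [WittGrp.coeff_truncMap, TruncatedWittVector.coeff_mk]; exact hb1

lemma gh_eq_zero_of_truncMap (X : TruncatedWittVector p 2 B)
    (hX : WittGrp.truncMap p 2 π X = 0) : gh p B X = 0 := by
  have h0 : π (X.coeff 0) = 0 := by
    rw [← WittGrp.coeff_truncMap, hX, TruncatedWittVector.coeff_zero]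
  have h1 : π (X.coeff 1) = 0 := by
    rw [← WittGrp.coeff_truncMap, hX, TruncatedWittVector.coeff_zero]
  have hk := ker_eq_span p k A B ι π hB
  have h0' : X.coeff 0 ∈ Ideal.span {(p : B)} := by rw [← hk]; exact h0
  have h1' : X.coeff 1 ∈ Ideal.span {(p : B)} := by rw [← hk]; exact h1
  rw [Ideal.mem_span_singleton'] at h0' h1'
  obtain ⟨c0, hc0⟩ := h0'
  obtain ⟨c1, hc1⟩ := h1'
  have hpp := p_mul_p p k A B ι π hB
  rw [gh_apply, ← hc0, ← hc1]
  have h2 : (c0 * (p : B)) ^ p = 0 := by
    have h3 : (p : B) ^ p = 0 :=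
      pow_eq_zero_of_le hp.out.two_le (by rw [pow_two]; exact hpp)
    rw [mul_pow, h3, mul_zero]
  rw [h2, zero_add, mul_comm c1, ← mul_assoc, hpp, zero_mul]

/-- the ring map `W₂(A) → B` induced by the ghost map `w₁` of `W₂(B)` -/
noncomputable def gbar : TruncatedWittVector p 2 A →+* B :=
  RingHom.liftOfSurjective (WittGrp.truncMap p 2 π) (truncMap_surjective p k A B ι π hB)
    ⟨gh p B, fun X hX => by
      rw [RingHom.mem_ker] at hX ⊢
      exact gh_eq_zero_of_truncMap p k A B ι π hB X hX⟩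

lemma gbar_truncMap (X : TruncatedWittVector p 2 B) :
    gbar p k A B ι π hB (WittGrp.truncMap p 2 π X) = gh p B X :=
  RingHom.liftOfRightInverse_comp_apply _ _ _ _ X

lemma iota_tt_pow (a : k) : ι (tt p k a) ^ p = ι (FrobAlg.sigma p k (tt p k a)) := by
  rw [sigma_tt, ← map_pow, tt_pow]

lemma pi_iota_tt (a : k) : π (ι (tt p k a)) = algebraMap k A a := by
  have h := congrArg (fun f : FrobAlg.W2 p k →+* A => f (tt p k a)) hB.comm
  simp only [RingHom.comp_apply, FrobAlg.res_apply, coeff_zero_tt] at h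
  exact h

theorem exists_frobLift_of_hom (θ : B →+* FrobAlg.W2 p A)
    (h1 : (FrobAlg.res p A).comp θ = π)
    (h2 : θ.comp ι = WittGrp.truncMap p 2 (algebraMap k A)) :
    ∃ Φ : B →+* B, FrobAlg.IsFrobLift p k A B ι π Φ := by
  refine ⟨(gbar p k A B ι π hB).comp θ, { toIsLift := hB, semi := ?_, red := ?_ }⟩
  · apply ringHom_ext_tt p k
    intro a
    have e1 : θ (ι (tt p k a)) = WittGrp.truncMap p 2 π (tt p B (ι (tt p k a))) := by
      have := congrArg (fun f : FrobAlg.W2 p k →+* FrobAlg.W2 p A => f (tt p k a)) h2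
      simp only [RingHom.comp_apply] at this
      rw [this, truncMap_tt, truncMap_tt, pi_iota_tt p k A B ι π hB]
    rw [RingHom.comp_apply, RingHom.comp_apply, RingHom.comp_apply, e1, gbar_truncMap, gh_tt,
      iota_tt_pow p k A B ι π hB]
  · intro b
    obtain ⟨X, hX⟩ := truncMap_surjective p k A B ι π hB (θ b)
    rw [RingHom.comp_apply, ← hX, gbar_truncMap, gh_apply, map_add, map_mul, map_pow,
      pi_p p k A B ι π hB, zero_mul, add_zero]
    have h3 : π (X.coeff 0) = (θ b).coeff 0 := by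
      rw [← hX, WittGrp.coeff_truncMap]
    have h4 : (θ b).coeff 0 = π b := by
      have := congrArg (fun f : B →+* A => f b) h1
      simp only [RingHom.comp_apply, FrobAlg.res_apply] at this
      exact this
    rw [h3, h4]

section Forward

variable (Φ : B →+* B) (hΦ : FrobAlg.IsFrobLift p k A B ι π Φ)

include hΦ

lemma exists_delta (b : B) : ∃ d : B, Φ b = b ^ p + (p : B) * d := by
  have h : Φ b - b ^ p ∈ RingHom.ker π := by
    rw [RingHom.mem_ker, map_sub, hΦ.red, map_pow, sub_self]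
  rw [ker_eq_span p k A B ι π hB, Ideal.mem_span_singleton'] at h
  obtain ⟨d, hd⟩ := h
  exact ⟨d, by rw [mul_comm, hd]; ring⟩

/-- a Witt vector `(b, δ b)` with ghost component `Φ b` -/
noncomputable def lift (b : B) : TruncatedWittVector p 2 B :=
  TruncatedWittVector.mk p ![b, (exists_delta p k A B ι π hB Φ hΦ b).choose]

lemma coeff_zero_lift (b : B) : (lift p k A B ι π hB Φ hΦ b).coeff 0 = b := by
  rw [lift, TruncatedWittVector.coeff_mk]; rfl

lemma gh_lift (b : B) : gh p B (lift p k A B ι π hB Φ hΦ b) = Φ b := by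
  rw [gh_apply, coeff_zero_lift]
  rw [lift, TruncatedWittVector.coeff_mk]
  exact ((exists_delta p k A B ι π hB Φ hΦ b).choose_spec).symm

lemma truncMap_eq_lift (X : TruncatedWittVector p 2 B) (hX : gh p B X = Φ (X.coeff 0)) :
    WittGrp.truncMap p 2 π X = WittGrp.truncMap p 2 π (lift p k A B ι π hB Φ hΦ (X.coeff 0)) := by
  apply truncMap_eq_of_gh_eq p k A B ι π hB
  · rw [coeff_zero_lift]
  · rw [gh_lift, hX]

/-- the ring map `B → W₂(A)` attached to a Frobenius lift -/
noncomputable def theta : B →+* FrobAlg.W2 p A where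
  toFun b := WittGrp.truncMap p 2 π (lift p k A B ι π hB Φ hΦ b)
  map_one' := by
    have h := truncMap_eq_lift p k A B ι π hB Φ hΦ 1
      (by rw [map_one, coeff_zero_one, map_one])
    rw [coeff_zero_one, map_one] at h
    exact h.symm
  map_zero' := by
    have h := truncMap_eq_lift p k A B ι π hB Φ hΦ 0
      (by rw [map_zero, coeff_zero_zero, map_zero])
    rw [coeff_zero_zero, map_zero] at h
    exact h.symm
  map_add' a b := by
    have h := truncMap_eq_lift p k A B ι π hB Φ hΦ
      (lift p k A B ι π hB Φ hΦ a + lift p k A B ι π hB Φ hΦ b)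
      (by rw [map_add, coeff_zero_add, gh_lift, gh_lift, coeff_zero_lift, coeff_zero_lift,
        map_add])
    rw [coeff_zero_add, coeff_zero_lift, coeff_zero_lift, map_add] at h
    exact h.symm
  map_mul' a b := by
    have h := truncMap_eq_lift p k A B ι π hB Φ hΦ
      (lift p k A B ι π hB Φ hΦ a * lift p k A B ι π hB Φ hΦ b)
      (by rw [map_mul, coeff_zero_mul, gh_lift, gh_lift, coeff_zero_lift, coeff_zero_lift,
        map_mul])
    rw [coeff_zero_mul, coeff_zero_lift, coeff_zero_lift, map_mul] at h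
    exact h.symm

lemma theta_apply (b : B) :
    theta p k A B ι π hB Φ hΦ b = WittGrp.truncMap p 2 π (lift p k A B ι π hB Φ hΦ b) := rfl

theorem exists_hom_of_frobLift :
    ∃ θ : B →+* FrobAlg.W2 p A,
      (FrobAlg.res p A).comp θ = π ∧ θ.comp ι = WittGrp.truncMap p 2 (algebraMap k A) := by
  refine ⟨theta p k A B ι π hB Φ hΦ, ?_, ?_⟩
  · ext b
    rw [RingHom.comp_apply, FrobAlg.res_apply, theta_apply, WittGrp.coeff_truncMap,
      coeff_zero_lift]
  · apply ringHom_ext_tt p k
    intro a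
    rw [RingHom.comp_apply, theta_apply, truncMap_tt]
    have h := truncMap_eq_lift p k A B ι π hB Φ hΦ (tt p B (ι (tt p k a))) (by
      rw [gh_tt, coeff_zero_tt, iota_tt_pow p k A B ι π hB]
      have := congrArg (fun f : FrobAlg.W2 p k →+* B => f (tt p k a)) hΦ.semi
      simp only [RingHom.comp_apply] at this
      exact this.symm)
    rw [coeff_zero_tt] at h
    rw [← h, truncMap_tt, pi_iota_tt p k A B ι π hB]

end Forward

end Groth.Agent.H29.W2Frob
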