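import Mathlib
import Groth.Prelude.Def_W4c1liftfrobW2
import Groth.Agent.Lib.helper29.QuadLam
import Groth.Agent.Lib.helper29.W2Frob
import Groth.Agent.Lib.helper29.W2Art

set_option autoImplicit false
universe u
namespace Groth.Agent.H29.QuadLift
open MvPolynomial Groth.Agent.H29.QuadLam Groth.Agent.H29

section Key
variable (p : ℕ) [hp : Fact p.Prime] (k : Type u) [Field k] [CharP k p] [PerfectRing k p]
  (n : ℕ) (hn : 3 ≤ n)

local notation "Wk" => FrobAlg.W2 p k

/-- the element `q^p - Σ x_i^p y_i^p` over `W₂(k)` -/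
noncomputable def EE : MvPolynomial (Fin n × Fin 2) Wk :=
  qq Wk n ^ p - ∑ i : Fin n, X (i, 0) ^ p * X (i, 1) ^ p

theorem map_res_qq : map (FrobAlg.res p k) (qq Wk n) = qq k n := by
  simp [qq]

theorem map_res_EE : map (FrobAlg.res p k) (EE p k n) = 0 := by
  rw [EE, map_sub, map_pow, map_res_qq, map_sum, qq, sum_pow_char, sub_eq_zero]
  apply Finset.sum_congr rfl
  intro i _
  rw [mul_pow, map_mul, map_pow, map_pow, map_X, map_X]

theorem exists_delta : ∃ δ : MvPolynomial (Fin n × Fin 2) Wk, EE p k n = C (p : Wk) * δ := by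
  have h : EE p k n ∈ RingHom.ker (map (FrobAlg.res p k) :
      MvPolynomial (Fin n × Fin 2) Wk →+* MvPolynomial (Fin n × Fin 2) k) := map_res_EE p k n
  rw [MvPolynomial.ker_map, W2Split.ker_res_eq, Ideal.map_span, Set.image_singleton,
    Ideal.mem_span_singleton'] at h
  obtain ⟨δ, hδ⟩ := h
  exact ⟨δ, by rw [← hδ, mul_comm]⟩

theorem lam_EE : lam Wk n (FF Wk n hn p) (EE p k n) =
    -((p.factorial : Wk) * (-1) ^ (p - 1)) := by
  have hp2 := hp.out.two_le
  have h1 : lam Wk n (FF Wk n hn p) (qq Wk n ^ p) = 0 := by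
    have : qq Wk n ^ p = qq Wk n * qq Wk n ^ (p - 1) := by
      rw [← pow_succ', Nat.sub_add_cancel (by omega)]
    rw [this, lam_qq_mul Wk n _ (dsum_FF Wk n hn p)]
  rw [EE, map_sub, h1, zero_sub, map_sum]
  simp_rw [lam_pow_pow Wk n hn p hp2]
  rw [← Finset.mul_sum, Finset.sum_ite_eq' Finset.univ (z1 n hn), if_pos (Finset.mem_univ _)]

theorem key (δ : MvPolynomial (Fin n × Fin 2) Wk) (hδ : EE p k n = C (p : Wk) * δ) :
    lam k n (FF k n hn p) (map (FrobAlg.res p k) δ) ≠ 0 := by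
  intro h0
  rw [← map_FF Wk n hn p (FrobAlg.res p k), lam_map] at h0
  have h1 : lam Wk n (FF Wk n hn p) δ ∈ RingHom.ker (FrobAlg.res p k) := h0
  rw [W2Split.ker_res_eq, Ideal.mem_span_singleton'] at h1
  obtain ⟨d, hd⟩ := h1
  have h2 : lam Wk n (FF Wk n hn p) (EE p k n) = 0 := by
    rw [hδ, C_mul', map_smul, smul_eq_mul, ← hd, mul_comm d, ← mul_assoc,
      W2Flat.p_mul_p p k, zero_mul]
  rw [lam_EE p k n hn, neg_eq_zero] at h2
  have h3 : ((p.factorial : ℕ) : Wk) = 0 := by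
    have := congrArg (fun x => x * (-1 : Wk) ^ (p - 1)) h2
    simp only [zero_mul, mul_assoc, ← mul_pow] at this
    simpa using this
  have hf : p.factorial = p * (p - 1).factorial := (Nat.mul_factorial_pred hp.out.ne_zero).symm
  rw [hf, Nat.cast_mul] at h3
  obtain ⟨e, he⟩ := W2Flat.exists_eq_p_mul_of_p_mul_eq_zero p k _ h3
  have h4 := congrArg (FrobAlg.res p k) he
  rw [map_natCast, map_mul, map_natCast, CharP.cast_eq_zero k p, zero_mul] at h4
  have h5 := (CharP.cast_eq_zero_iff k p _).mp h4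
  have h6 := (hp.out.dvd_factorial).mp h5
  have := hp.out.two_le
  omega

theorem lam_const (c : k) : lam k n (FF k n hn p) (C c) = 0 := by
  have hp2 := hp.out.two_le
  rw [C_apply, lam_monomial]
  unfold wt
  have : coeff (expL n 0) (FF k n hn p) = 0 := by
    have e : expL n (0 : Fin n × Fin 2 →₀ ℕ) = 0 := by
      ext i; rfl
    rw [e, ← constantCoeff_eq, FF, map_mul, map_pow, map_sub, map_sub, constantCoeff_X,
      constantCoeff_X, constantCoeff_X, sub_self, mul_zero]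
  split_ifs
  · rw [this, mul_zero, mul_zero]
  · rw [mul_zero]

/-- the ideal `(q, x_v^p)` -/
noncomputable abbrev I0 : Ideal (MvPolynomial (Fin n × Fin 2) k) :=
  Ideal.span (insert (∑ i : Fin n, X (i, (0 : Fin 2)) * X (i, (1 : Fin 2)))
    (Set.range fun v : Fin n × Fin 2 => (X v : MvPolynomial (Fin n × Fin 2) k) ^ p))

theorem lam_kills (f : MvPolynomial (Fin n × Fin 2) k) (hf : f ∈ I0 p k n) :
    lam k n (FF k n hn p) f = 0 := by
  have H : ∀ f ∈ I0 p k n, ∀ g : MvPolynomial (Fin n × Fin 2) k,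
      lam k n (FF k n hn p) (g * f) = 0 := by
    intro f hf
    induction hf using Submodule.span_induction with
    | mem x hx =>
      intro g
      rcases hx with rfl | ⟨v, rfl⟩
      · rw [mul_comm]
        exact lam_qq_mul k n _ (dsum_FF k n hn p) g
      · rw [mul_comm]
        exact lam_X_pow_mul k n _ p v g
    | zero => intro g; rw [mul_zero, map_zero]
    | add x y _ _ hx hy => intro g; rw [mul_add, map_add, hx, hy, add_zero]
    | smul r x _ hx =>
      intro g
      rw [smul_eq_mul, ← mul_assoc]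
      exact hx (g * r)
  have := H f hf 1
  rwa [one_mul] at this

end Key
section Lift
variable (p : ℕ) [hp : Fact p.Prime] (k : Type u) [Field k] [CharP k p] [PerfectRing k p]
  (n : ℕ) (I : Ideal (MvPolynomial (Fin n × Fin 2) k))
  (B : Type u) [CommRing B] (ι : FrobAlg.W2 p k →+* B)
  (π : B →+* (MvPolynomial (Fin n × Fin 2) k ⧸ I))
  (hB : FrobAlg.IsLift p k (MvPolynomial (Fin n × Fin 2) k ⧸ I) B ι π)

local notation "Wk" => FrobAlg.W2 p k

include hB

theorem exists_psi : ∃ Ψ : MvPolynomial (Fin n × Fin 2) Wk →+* B, (∀ w, Ψ (C w) = ι w) ∧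
    ∀ f, π (Ψ f) = Ideal.Quotient.mk I (map (FrobAlg.res p k) f) := by
  choose Xb hXb using fun v : Fin n × Fin 2 => hB.surj (Ideal.Quotient.mk I (X v))
  refine ⟨eval₂Hom ι Xb, fun w => eval₂Hom_C _ _ w, ?_⟩
  have h : π.comp (eval₂Hom ι Xb) = (Ideal.Quotient.mk I).comp (map (FrobAlg.res p k)) := by
    apply MvPolynomial.ringHom_ext
    · intro w
      rw [RingHom.comp_apply, RingHom.comp_apply, eval₂Hom_C, map_C]
      have := RingHom.congr_fun hB.comm w
      rw [RingHom.comp_apply, RingHom.comp_apply] at this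
      rw [this]
      rfl
    · intro v
      rw [RingHom.comp_apply, RingHom.comp_apply, eval₂Hom_X', map_X, hXb]
  intro f
  exact RingHom.congr_fun h f

theorem exists_p_mul (Ψ : MvPolynomial (Fin n × Fin 2) Wk →+* B)
    (hΨ : ∀ f, π (Ψ f) = Ideal.Quotient.mk I (map (FrobAlg.res p k) f))
    (f : MvPolynomial (Fin n × Fin 2) Wk) (hf : map (FrobAlg.res p k) f ∈ I) :
    ∃ h : B, Ψ f = (p : B) * h := by
  have h1 : Ψ f ∈ RingHom.ker π := by
    rw [RingHom.mem_ker, hΨ]
    exact Ideal.Quotient.eq_zero_iff_mem.mpr hf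
  rw [W2Frob.ker_eq_span p k _ B ι π hB, Ideal.mem_span_singleton'] at h1
  obtain ⟨h, hh⟩ := h1
  exact ⟨h, by rw [← hh, mul_comm]⟩

theorem p_pow_eq_zero : (p : B) ^ p = 0 :=
  pow_eq_zero_of_le hp.out.two_le (by rw [pow_two]; exact W2Frob.p_mul_p p k _ B ι π hB)

end Lift

section Main1
variable (p : ℕ) [hp : Fact p.Prime] (k : Type u) [Field k] [CharP k p] [PerfectRing k p]
  (n : ℕ) (hn : 3 ≤ n)

include hn in
theorem not_liftable_nbhd : ¬ FrobAlg.IsW2Liftable p k
    (MvPolynomial (Fin n × Fin 2) k ⧸ I0 p k n) := by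
  rintro ⟨B, _, ι, π, hB⟩
  obtain ⟨Ψ, hΨC, hΨ⟩ := exists_psi p k n (I0 p k n) B ι π hB
  have hpp := W2Frob.p_mul_p p k _ B ι π hB
  have hq : map (FrobAlg.res p k) (qq (FrobAlg.W2 p k) n) ∈ I0 p k n := by
    rw [map_res_qq]
    exact Ideal.subset_span (Set.mem_insert _ _)
  have hX : ∀ v : Fin n × Fin 2,
      map (FrobAlg.res p k) ((X v : MvPolynomial (Fin n × Fin 2) (FrobAlg.W2 p k)) ^ p) ∈
        I0 p k n := by
    intro v
    rw [map_pow, map_X]
    exact Ideal.subset_span (Set.mem_insert_of_mem _ ⟨v, rfl⟩)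
  have hE : Ψ (EE p k n) = 0 := by
    obtain ⟨h, hh⟩ := exists_p_mul p k n _ B ι π hB Ψ hΨ _ hq
    rw [EE, map_sub, map_pow, hh, mul_pow, p_pow_eq_zero p k n _ B ι π hB, zero_mul, zero_sub,
      neg_eq_zero, map_sum]
    apply Finset.sum_eq_zero
    intro i _
    obtain ⟨a, ha⟩ := exists_p_mul p k n _ B ι π hB Ψ hΨ _ (hX (i, 0))
    obtain ⟨b, hb⟩ := exists_p_mul p k n _ B ι π hB Ψ hΨ _ (hX (i, 1))
    rw [map_mul, ha, hb, mul_mul_mul_comm, hpp, zero_mul]
  obtain ⟨δ, hδ⟩ := exists_delta p k n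
  have h1 : (p : B) * Ψ δ = 0 := by
    rw [← hE, hδ, map_mul, hΨC, map_natCast]
  have h2 := W2Frob.pi_eq_zero_of_p_mul p k _ B ι π hB _ h1
  rw [hΨ] at h2
  have h3 := Ideal.Quotient.eq_zero_iff_mem.mp h2
  exact key p k n hn δ hδ (lam_kills p k n hn _ h3)

end Main1

end Groth.Agent.H29.QuadLift
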