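import Mathlib

/-!
# Quotients of regular local rings by ideals `J` with `J ⊓ 𝔪² ≤ 𝔪 J`
-/

set_option autoImplicit false

namespace Groth.Agent.H29.RegQuot
open IsLocalRing

variable {R : Type*} [CommRing R] [IsLocalRing R]

/-- the comparison map `J/𝔪J → 𝔪/𝔪²` -/
noncomputable def psi (J : Ideal R) (hJ : J ≤ maximalIdeal R) :
    (J ⧸ (maximalIdeal R) • (⊤ : Submodule R J)) →ₗ[R] CotangentSpace R :=
  Submodule.liftQ _ ((maximalIdeal R).toCotangent.comp (Submodule.inclusion hJ)) (by
    rw [Submodule.smul_le]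
    intro r hr y _
    rw [LinearMap.mem_ker, map_smul, LinearMap.comp_apply]
    exact Ideal.Cotangent.smul_eq_zero_of_mem hr _)

theorem psi_mk (J : Ideal R) (hJ : J ≤ maximalIdeal R) (y : J) :
    psi J hJ (Submodule.Quotient.mk y) = (maximalIdeal R).toCotangent ⟨y, hJ y.2⟩ := rfl

theorem psi_injective (J : Ideal R) (hJ : J ≤ maximalIdeal R)
    (h : J ⊓ (maximalIdeal R) ^ 2 ≤ maximalIdeal R * J) : Function.Injective (psi J hJ) := by
  rw [← LinearMap.ker_eq_bot, LinearMap.ker_eq_bot']
  intro q hq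
  obtain ⟨y, rfl⟩ := Submodule.Quotient.mk_surjective _ q
  rw [psi_mk, Ideal.toCotangent_eq_zero] at hq
  rw [Submodule.Quotient.mk_eq_zero, Submodule.mem_smul_top_iff]
  exact h ⟨y.2, hq⟩


variable [IsNoetherianRing R]

local notation "𝓀" => ResidueField R

set_option backward.isDefEq.respectTransparency false in
theorem exists_gens (J : Ideal R) (hJ : J ≤ maximalIdeal R)
    (h : J ⊓ (maximalIdeal R) ^ 2 ≤ maximalIdeal R * J) :
    ∃ (n : ℕ) (x : Fin n → R), n + J.spanFinrank = (maximalIdeal R).spanFinrank ∧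
      (∀ i, x i ∈ maximalIdeal R) ∧
      maximalIdeal R ≤ Ideal.span (Set.range x) ⊔ J := by
  classical
  letI : Module 𝓀 (J ⧸ (maximalIdeal R) • (⊤ : Submodule R J)) :=
    inferInstanceAs (Module (R ⧸ maximalIdeal R) _)
  haveI : IsScalarTower R 𝓀 (J ⧸ (maximalIdeal R) • (⊤ : Submodule R J)) :=
    inferInstanceAs (IsScalarTower R (R ⧸ maximalIdeal R) _)
  have hc : J.spanFinrank = Module.finrank 𝓀 (J ⧸ (maximalIdeal R) • (⊤ : Submodule R J)) :=
    spanFinrank_eq_finrank_quotient J (IsNoetherian.noetherian J)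
  have hd : (maximalIdeal R).spanFinrank = Module.finrank 𝓀 (CotangentSpace R) :=
    spanFinrank_maximalIdeal_eq_finrank_cotangentSpace R
  let ψ : (J ⧸ (maximalIdeal R) • (⊤ : Submodule R J)) →ₗ[𝓀] CotangentSpace R :=
    (psi J hJ).extendScalarsOfSurjective residue_surjective
  have hψ : Function.Injective ψ := psi_injective J hJ h
  haveI : Module.Finite 𝓀 (J ⧸ (maximalIdeal R) • (⊤ : Submodule R J)) :=
    Module.Finite.of_restrictScalars_finite R 𝓀 _
  have hrange : Module.finrank 𝓀 (LinearMap.range ψ) =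
      Module.finrank 𝓀 (J ⧸ (maximalIdeal R) • (⊤ : Submodule R J)) :=
    LinearMap.finrank_range_of_inj hψ
  obtain ⟨W, hW⟩ := Submodule.exists_isCompl (LinearMap.range ψ)
  have hsum := Submodule.finrank_add_eq_of_isCompl hW
  let b := Module.finBasis 𝓀 W
  choose x' hx' using fun i => (maximalIdeal R).toCotangent_surjective (b i : CotangentSpace R)
  refine ⟨Module.finrank 𝓀 W, fun i => (x' i : R), ?_, fun i => (x' i).2, ?_⟩
  · rw [hc, hd, ← hsum, hrange, add_comm]
  · set s : Set (maximalIdeal R) :=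
      Set.range x' ∪ (Submodule.comap (maximalIdeal R).subtype J : Set (maximalIdeal R)) with hs
    have h1 : Submodule.span 𝓀 ((maximalIdeal R).toCotangent '' s) = ⊤ := by
      rw [eq_top_iff, ← hW.sup_eq_top]
      apply sup_le
      · rintro _ ⟨q, rfl⟩
        obtain ⟨y, rfl⟩ := Submodule.Quotient.mk_surjective _ q
        apply Submodule.subset_span
        refine ⟨⟨y, hJ y.2⟩, Or.inr ?_, rfl⟩
        exact y.2
      · intro w hw
        have hmem : (⟨w, hw⟩ : W) ∈ Submodule.span 𝓀 (Set.range b) := by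
          rw [b.span_eq]; trivial
        have := Submodule.apply_mem_span_image_of_mem_span W.subtype hmem
        refine Submodule.span_mono ?_ this
        rintro _ ⟨_, ⟨i, rfl⟩, rfl⟩
        exact ⟨x' i, Or.inl ⟨i, rfl⟩, hx' i⟩
    rw [CotangentSpace.span_image_eq_top_iff] at h1
    intro x hx
    have hxs : (⟨x, hx⟩ : maximalIdeal R) ∈ Submodule.span R s := by rw [h1]; trivial
    rw [hs, Submodule.span_union, Submodule.span_eq, Submodule.mem_sup] at hxs
    obtain ⟨t, ht, y, hy, hty⟩ := hxs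
    have hx_eq : x = (t : R) + (y : R) := by
      have := congrArg Subtype.val hty
      simpa using this.symm
    rw [hx_eq]
    refine Ideal.add_mem _ (Ideal.mem_sup_left ?_) (Ideal.mem_sup_right hy)
    have := Submodule.apply_mem_span_image_of_mem_span (maximalIdeal R).subtype ht
    refine Submodule.span_mono ?_ this
    rintro _ ⟨_, ⟨i, rfl⟩, rfl⟩
    exact ⟨i, rfl⟩


set_option backward.isDefEq.respectTransparency false in
/-- If `J ⊓ 𝔪² ≤ 𝔪 J` then `J` is generated by elements of `𝔪` whose classes in the cotangent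
space are linearly independent. -/
theorem exists_gens_linearIndependent (J : Ideal R) (hJ : J ≤ maximalIdeal R)
    (h : J ⊓ (maximalIdeal R) ^ 2 ≤ maximalIdeal R * J) :
    ∃ (m : ℕ) (f : Fin m → maximalIdeal R),
      Ideal.span (Set.range fun i : Fin m => (f i : R)) = J ∧
      LinearIndependent 𝓀 (fun i : Fin m => (maximalIdeal R).toCotangent (f i)) := by
  classical
  letI : Module 𝓀 (J ⧸ (maximalIdeal R) • (⊤ : Submodule R J)) :=
    inferInstanceAs (Module (R ⧸ maximalIdeal R) _)
  haveI : IsScalarTower R 𝓀 (J ⧸ (maximalIdeal R) • (⊤ : Submodule R J)) :=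
    inferInstanceAs (IsScalarTower R (R ⧸ maximalIdeal R) _)
  let ψ : (J ⧸ (maximalIdeal R) • (⊤ : Submodule R J)) →ₗ[𝓀] CotangentSpace R :=
    (psi J hJ).extendScalarsOfSurjective residue_surjective
  have hψ : Function.Injective ψ := psi_injective J hJ h
  haveI : Module.Finite 𝓀 (J ⧸ (maximalIdeal R) • (⊤ : Submodule R J)) :=
    Module.Finite.of_restrictScalars_finite R 𝓀 _
  let b := Module.finBasis 𝓀 (J ⧸ (maximalIdeal R) • (⊤ : Submodule R J))
  choose y hy using fun i => Submodule.Quotient.mk_surjective _ (b i)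
  refine ⟨_, fun i => ⟨(y i : R), hJ (y i).2⟩, ?_, ?_⟩
  · -- generation by Nakayama
    apply le_antisymm
    · rw [Ideal.span_le]
      rintro _ ⟨i, rfl⟩
      exact (y i).2
    · have hfg : (J : Submodule R R).FG := IsNoetherian.noetherian J
      have hjac : maximalIdeal R ≤ Ideal.jacobson (⊥ : Ideal R) := by
        rw [IsLocalRing.jacobson_eq_maximalIdeal ⊥ bot_ne_top]
      refine Submodule.le_of_le_smul_of_le_jacobson_bot hfg hjac ?_
      intro x hx
      -- the class of x is a combination of the b i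
      have hsum := b.sum_repr (Submodule.Quotient.mk (⟨x, hx⟩ : J))
      choose a ha using fun i => residue_surjective
        (b.repr (Submodule.Quotient.mk (⟨x, hx⟩ : J)) i)
      have h1 : (Submodule.Quotient.mk (⟨x, hx⟩ : J) :
          J ⧸ (maximalIdeal R) • (⊤ : Submodule R J)) =
          Submodule.Quotient.mk (∑ i, a i • y i) := by
        rw [← hsum]
        have hmk : ∀ z : J, (Submodule.Quotient.mk z :
            J ⧸ (maximalIdeal R) • (⊤ : Submodule R J)) = Submodule.mkQ _ z := fun _ => rfl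
        rw [hmk (∑ i, a i • y i), map_sum]
        refine Finset.sum_congr rfl fun i _ => ?_
        rw [map_smul, Submodule.mkQ_apply, hy, ← ha i]
        rfl
      rw [Submodule.Quotient.eq, Submodule.mem_smul_top_iff] at h1
      have h2 : x = (∑ i, a i * (y i : R)) + ((⟨x, hx⟩ : J) - ∑ i, a i • y i : J) := by
        simp
      rw [h2]
      refine Submodule.add_mem _ (Submodule.mem_sup_left ?_) (Submodule.mem_sup_right h1)
      refine Submodule.sum_mem _ fun i _ => ?_
      exact Ideal.mul_mem_left _ _ (Ideal.subset_span ⟨i, rfl⟩)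
  · have hli : LinearIndependent 𝓀 (fun i => ψ (b i)) :=
      b.linearIndependent.map' ψ (LinearMap.ker_eq_bot.mpr hψ)
    convert hli using 2 with i
    rw [← hy i]
    rfl

theorem maximalIdeal_quotient (J : Ideal R) [Nontrivial (R ⧸ J)] [IsLocalRing (R ⧸ J)] :
    maximalIdeal (R ⧸ J) = (maximalIdeal R).map (Ideal.Quotient.mk J) := by
  have h1 : (maximalIdeal (R ⧸ J)).comap (Ideal.Quotient.mk J) = maximalIdeal R := by
    haveI := Ideal.comap_isMaximal_of_surjective (Ideal.Quotient.mk J)
      Ideal.Quotient.mk_surjective (K := maximalIdeal (R ⧸ J))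
    exact IsLocalRing.eq_maximalIdeal this
  rw [← h1, Ideal.map_comap_of_surjective _ Ideal.Quotient.mk_surjective]

/-- If `R` is a regular local ring and `J ⊓ 𝔪² ≤ 𝔪 J`, then `R ⧸ J` is regular. -/
theorem isRegularLocalRing_quotient {R : Type*} [CommRing R] [IsRegularLocalRing R]
    (J : Ideal R) (hJ : J ≤ maximalIdeal R)
    (h : J ⊓ (maximalIdeal R) ^ 2 ≤ maximalIdeal R * J) : IsRegularLocalRing (R ⧸ J) := by
  classical
  have hJtop : J ≠ ⊤ := fun hh => (maximalIdeal.isMaximal R).ne_top (top_le_iff.mp (hh ▸ hJ))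
  haveI : Nontrivial (R ⧸ J) := Ideal.Quotient.nontrivial_iff.mpr hJtop
  haveI : IsLocalRing (R ⧸ J) :=
    IsLocalRing.of_surjective' (Ideal.Quotient.mk J) Ideal.Quotient.mk_surjective
  obtain ⟨n, x, hn, hxm, hle⟩ := exists_gens J hJ h
  have hmeq : maximalIdeal R = Ideal.span (Set.range x) ⊔ J := by
    refine le_antisymm hle (sup_le ?_ hJ)
    rw [Ideal.span_le]
    rintro _ ⟨i, rfl⟩
    exact hxm i
  have hmB : maximalIdeal (R ⧸ J) = Ideal.span (Set.range fun i => Ideal.Quotient.mk J (x i)) := by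
    rw [maximalIdeal_quotient, hmeq, Ideal.map_sup, Ideal.map_span, Ideal.map_quotient_self,
      sup_bot_eq, ← Set.range_comp]
    rfl
  have hsB : (maximalIdeal (R ⧸ J)).spanFinrank ≤ n := by
    rw [hmB]
    refine (Submodule.spanFinrank_span_le_ncard_of_finite (Set.finite_range _)).trans ?_
    rw [← Set.image_univ]
    refine (Set.ncard_image_le (Set.finite_univ)).trans ?_
    simp
  apply IsRegularLocalRing.of_spanFinrank_maximalIdeal_le
  have hjac : J ≤ Ring.jacobson R := by
    rw [← Ideal.jacobson_bot, IsLocalRing.jacobson_eq_maximalIdeal ⊥ bot_ne_top]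
    exact hJ
  have hdim := ringKrullDim_le_ringKrullDim_quotient_add_spanFinrank J hjac
  rw [← IsRegularLocalRing.spanFinrank_maximalIdeal, ← hn] at hdim
  have hne : ringKrullDim (R ⧸ J) ≠ ⊥ := ringKrullDim_ne_bot
  obtain ⟨e, he⟩ := WithBot.ne_bot_iff_exists.mp hne
  rw [← he] at hdim ⊢
  have h2 : ((n + J.spanFinrank : ℕ) : ℕ∞) ≤ e + (J.spanFinrank : ℕ∞) := by
    exact_mod_cast hdim
  have h3 : (n : ℕ∞) ≤ e := by
    rw [Nat.cast_add] at h2
    exact (ENat.add_le_add_iff_right (ENat.coe_ne_top _)).mp h2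
  have h4 : ((maximalIdeal (R ⧸ J)).spanFinrank : ℕ∞) ≤ e :=
    le_trans (by exact_mod_cast hsB) h3
  exact_mod_cast h4

end Groth.Agent.H29.RegQuot
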