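import Mathlib
import Groth.Prelude.Def_FrobAlg
import Groth.Agent.Lib.helper29.RelFrob2

/-!
# Relatively perfect algebras are formally étale (helper29)
-/

set_option autoImplicit false
universe u v w

namespace Groth.Agent.H29.RelFrob

open TensorProduct FrobAlg

section PowHom

variable (p : ℕ) [hp : Fact p.Prime] (T : Type w) [CommRing T] (hpT : (p : T) = 0)

/-- the `p`-th power map of a ring in which `p = 0` -/
def powHom : T →+* T where
  toFun x := x ^ p
  map_one' := one_pow p
  map_mul' x y := mul_pow x y p
  map_zero' := zero_pow hp.out.ne_zero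
  map_add' x y := by
    obtain ⟨r, hr⟩ := exists_add_pow_prime_eq hp.out x y
    rw [hr, hpT]; ring

@[simp] lemma powHom_apply (x : T) : powHom p T hpT x = x ^ p := rfl

variable (I : Ideal T) (hI : I ^ 2 = ⊥)

include hI in
lemma pow_eq_zero_of_mem (n : T) (hn : n ∈ I) : n ^ p = 0 := by
  have h2 : n ^ 2 = 0 := by
    have : n ^ 2 ∈ I ^ 2 := Ideal.pow_mem_pow hn 2
    rw [hI] at this
    exact this
  exact pow_eq_zero_of_le hp.out.two_le h2

/-- the map `T ⧸ I → T`, `x̄ ↦ x ^ p` for a square-zero ideal `I` in a ring with `p = 0` -/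
def frobLift : T ⧸ I →+* T :=
  Ideal.Quotient.lift I (powHom p T hpT) fun n hn => pow_eq_zero_of_mem p T I hI n hn

@[simp] lemma frobLift_mk (x : T) :
    frobLift p T hpT I hI (Ideal.Quotient.mk I x) = x ^ p := rfl

lemma mk_frobLift (y : T ⧸ I) :
    Ideal.Quotient.mk I (frobLift p T hpT I hI y) = y ^ p := by
  obtain ⟨x, rfl⟩ := Ideal.Quotient.mk_surjective y
  rw [frobLift_mk, map_pow]

end PowHom

section Twisted

variable (p : ℕ) [hp : Fact p.Prime] (A : Type u) [CommRing A] [CharP A p]
  (T : Type w) [CommRing T] [Algebra A T]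

omit hp in
lemma natCast_eq_zero_of_algebra (p : ℕ) (A : Type u) [CommRing A] [CharP A p]
    (T : Type w) [CommRing T] [Algebra A T] : ((p : ℕ) : T) = 0 := by
  have h : ((p : ℕ) : T) = algebraMap A T (p : A) := by rw [map_natCast]
  rw [h, CharP.cast_eq_zero, map_zero]

/-- `T` with the `A`-algebra structure twisted by Frobenius -/
@[nolint unusedArguments]
def TwT (_p : ℕ) (_A : Type u) (T : Type w) : Type w := T

instance : CommRing (TwT p A T) := inferInstanceAs (CommRing T)

/-- identity `T → TwT` -/
def toTwT : T ≃+* TwT p A T := RingEquiv.refl T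

noncomputable instance : Algebra A (TwT p A T) :=
  ((toTwT p A T : T →+* TwT p A T).comp
    ((powHom p T (natCast_eq_zero_of_algebra p A T)).comp (algebraMap A T))).toAlgebra

lemma algebraMap_twT (a : A) :
    algebraMap A (TwT p A T) a = toTwT p A T ((algebraMap A T a) ^ p) := rfl

end Twisted

section Main

variable (p : ℕ) [hp : Fact p.Prime] (A : Type u) [CommRing A] [CharP A p]
  (B : Type v) [CommRing B] [Algebra A B] [CharP B p]
  (T : Type w) [CommRing T] [Algebra A T] (I : Ideal T) (hI : I ^ 2 = ⊥)
  (f : B →ₐ[A] T ⧸ I)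

/-- `b ↦ (lift of f b) ^ p` as an algebra map to the twisted `T` -/
noncomputable def psi : B →ₐ[A] TwT p A T where
  toRingHom := (toTwT p A T : T →+* TwT p A T).comp
    ((frobLift p T (natCast_eq_zero_of_algebra p A T) I hI).comp f.toRingHom)
  commutes' a := by
    show toTwT p A T (frobLift p T _ I hI (f (algebraMap A B a))) = _
    rw [f.commutes, algebraMap_twT]
    rfl

lemma psi_apply (b : B) :
    psi p A B T I hI f b =
      toTwT p A T (frobLift p T (natCast_eq_zero_of_algebra p A T) I hI (f b)) := rfl

/-- the structure map of the twisted copy of `A` -/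
noncomputable def incl : Twist p A →ₐ[A] TwT p A T where
  toRingHom := (toTwT p A T : T →+* TwT p A T).comp
    ((algebraMap A T).comp ((toTwist p A).symm : Twist p A →+* A))
  commutes' a := by
    show toTwT p A T (algebraMap A T ((toTwist p A).symm (algebraMap A (Twist p A) a))) = _
    rw [algebraMap_twist, algebraMap_twT, RingEquiv.symm_apply_apply, map_pow]

/-- the ring map `B^{(p)} → T` -/
noncomputable def bigG : BaseChange p A B →+* T :=
  ((toTwT p A T).symm : TwT p A T →+* T).comp
    (Algebra.TensorProduct.lift (psi p A B T I hI f) (incl p A T)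
      (fun _ _ => Commute.all _ _)).toRingHom

lemma bigG_tmul (b : B) (a : Twist p A) :
    bigG p A B T I hI f (b ⊗ₜ[A] a) =
      frobLift p T (natCast_eq_zero_of_algebra p A T) I hI (f b) *
        algebraMap A T ((toTwist p A).symm a) := by
  unfold bigG
  rw [RingHom.comp_apply]
  show (toTwT p A T).symm ((Algebra.TensorProduct.lift (psi p A B T I hI f) (incl p A T)
    (fun _ _ => Commute.all _ _)) (b ⊗ₜ[A] a)) = _
  rw [Algebra.TensorProduct.lift_tmul]
  rfl

lemma mk_bigG (c : BaseChange p A B) :
    Ideal.Quotient.mk I (bigG p A B T I hI f c) = f (relFrob p A B c) := by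
  induction c using TensorProduct.induction_on with
  | zero => simp
  | tmul b a =>
    rw [bigG_tmul, map_mul, mk_frobLift, relFrob_tmul, map_mul, map_pow, f.commutes]
    rfl
  | add x y hx hy => rw [map_add, map_add, hx, hy, map_add, map_add]

variable (h : Function.Bijective (relFrob p A B))

/-- the lift `B → T` of `f` -/
noncomputable def liftHom : B →ₐ[A] T where
  toRingHom := (bigG p A B T I hI f).comp
    ((RingEquiv.ofBijective (relFrob p A B) h).symm : B →+* BaseChange p A B)
  commutes' a := by
    show bigG p A B T I hI f ((RingEquiv.ofBijective (relFrob p A B) h).symm (algebraMap A B a)) = _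
    have h1 : (RingEquiv.ofBijective (relFrob p A B) h).symm (algebraMap A B a) =
        (1 : B) ⊗ₜ[A] (toTwist p A a) := by
      rw [RingEquiv.symm_apply_eq, RingEquiv.ofBijective_apply, relFrob_tmul, one_pow, one_mul,
        RingEquiv.symm_apply_apply]
    rw [h1, bigG_tmul, map_one, map_one, one_mul, RingEquiv.symm_apply_apply]

lemma mk_liftHom (b : B) : Ideal.Quotient.mk I (liftHom p A B T I hI f h b) = f b := by
  show Ideal.Quotient.mk I (bigG p A B T I hI f
    ((RingEquiv.ofBijective (relFrob p A B) h).symm b)) = f b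
  rw [mk_bigG]
  congr 1
  exact (RingEquiv.ofBijective (relFrob p A B) h).apply_symm_apply b

end Main

theorem formallyEtale_of_bijective (p : ℕ) [hp : Fact p.Prime] (A : Type u) [CommRing A]
    [CharP A p] (B : Type v) [CommRing B] [Algebra A B] [CharP B p]
    (h : Function.Bijective (relFrob p A B)) : Algebra.FormallyEtale A B := by
  haveI : Algebra.FormallyUnramified A B := by
    rw [formallyUnramified_iff p A B]
    letI : Algebra (BaseChange p A B) B := (relFrob p A B).toAlgebra
    exact Algebra.FormallyUnramified.of_surjective (Algebra.ofId (BaseChange p A B) B) h.2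
  haveI : Algebra.FormallySmooth A B := by
    refine Algebra.FormallySmooth.of_comp_surjective fun T _ _ I hI f => ?_
    refine ⟨liftHom p A B T I hI f h, ?_⟩
    ext b
    exact mk_liftHom p A B T I hI f h b
  exact Algebra.FormallyEtale.of_formallyUnramified_and_formallySmooth

end Groth.Agent.H29.RelFrob
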