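import Groth.Prelude.Def_ComodSub
import Groth.Prelude.Def_GLin
import Groth.Prelude.Def_W4c1tameactTame
import Groth.Agent.Lib.helper12.Comod
import Groth.Agent.Lib.helper28.ComodMod

/-!
Reynolds operators for linearly reductive groups (helper29).

* `semisimple_asMod`: for `A` linearly reductive (every f.d. comodule semisimple), EVERY comodule
  (any dimension) is a semisimple module over helper28's algebra `R k A`.
* `exists_reynolds`, `reynolds_unique`: existence and uniqueness of the Reynolds operator.
* `reynolds_natural`: naturality (from S19398).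
* `reynolds_mul`: `E (x*y) = E x * y` for `y` invariant.
-/

set_option autoImplicit false
set_option linter.unusedSectionVars false
set_option linter.unusedVariables false
universe u v

open TensorProduct

namespace Groth.Agent.Lib.helper29.Reynolds

open Groth.Agent.Lib.helper28.ComodMod

variable {k : Type u} [Field k] {A : Type v} [CommRing A] [HopfAlgebra k A]

theorem mem_fixedPts_iff
    {V : Type v} [AddCommGroup V] [Module k V] [HopfRep.Comod k A V] (x : V) :
    x ∈ HopfRep.fixedPts k A V ↔ ∀ φ : A →ₗ[k] k, op φ x = φ 1 • x := by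
  constructor
  · intro h φ
    have h' : HopfRep.Comod.coact (k := k) (A := A) x = x ⊗ₜ[k] (1 : A) := h
    rw [op_apply, h', T_tmul]
  · intro h
    show HopfRep.Comod.coact (k := k) (A := A) x = x ⊗ₜ[k] (1 : A)
    apply eq_of_forall_T
    intro φ
    rw [T_tmul, ← op_apply, h φ]

theorem natural_key
    (hG : HopfRep.IsLinearlyReductive k A)
    (V W : Type v) [AddCommGroup V] [Module k V] [cV : HopfRep.Comod k A V]
    [AddCommGroup W] [Module k W] [HopfRep.Comod k A W]
    (E : V →ₗ[k] V) (hE₁ : Hoch.IsComodHom A E)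
    (hE₃ : ∀ x : V, E x = x ↔ x ∈ HopfRep.fixedPts k A V)
    (E' : W →ₗ[k] W) (hE'₁ : Hoch.IsComodHom A E') (hE'₂ : E' ∘ₗ E' = E')
    (hE'₃ : ∀ y : W, E' y = y ↔ y ∈ HopfRep.fixedPts k A W)
    (u : V →ₗ[k] W) (hu : Hoch.IsComodHom A u) (y : V) (hy : E y = 0) : E' (u y) = 0 := by
  obtain ⟨Y₀, hfin, hyY₀, hY₀⟩ := Groth.Agent.H12Comod.exists_finite_subcomod (k := k) (C := A) y
  have hK : HopfRep.IsSubcomod (k := k) (A := A) (LinearMap.ker E) := isSubcomod_ker E hE₁
  set Y : Submodule k V := Y₀ ⊓ LinearMap.ker E with hYdef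
  have hY : HopfRep.IsSubcomod (k := k) (A := A) Y := isSubcomod_inf _ _ hY₀ hK
  letI cY : HopfRep.Comod k A Y := ComodSub.Comod.restr cV Y hY
  have hsub : Hoch.IsComodHom A Y.subtype := ComodSub.isComodHom_subtype cV Y hY
  haveI : Module.Finite k Y :=
    Module.Finite.of_injective (Submodule.inclusion (inf_le_left : Y ≤ Y₀))
      (Submodule.inclusion_injective _)
  have hss : HopfRep.IsSemisimpleComod k A Y := hG Y inferInstance
  let g : Y →ₗ[k] W := E' ∘ₗ u ∘ₗ Y.subtype
  have hgop : ∀ (φ : A →ₗ[k] k) (v : Y), g (op φ v) = op φ (g v) := by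
    intro φ v
    show E' (u (Y.subtype (op φ v))) = op φ (E' (u (Y.subtype v)))
    rw [(isComodHom_iff _).mp hsub, (isComodHom_iff _).mp hu, (isComodHom_iff _).mp hE'₁]
  have hg : Hoch.IsComodHom A g := (isComodHom_iff g).mpr hgop
  have hN : HopfRep.IsSubcomod (k := k) (A := A) (LinearMap.ker g) := isSubcomod_ker g hg
  obtain ⟨N', hN', hc⟩ := hss _ hN
  have hgfix : ∀ v : Y, g v ∈ HopfRep.fixedPts k A W := by
    intro v
    rw [← hE'₃]
    show E' (E' (u (Y.subtype v))) = E' (u (Y.subtype v))
    rw [← LinearMap.comp_apply, hE'₂]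
  have hN'bot : N' = ⊥ := by
    rw [eq_bot_iff]
    intro n' hn'
    have hfix : (n' : V) ∈ HopfRep.fixedPts k A V := by
      rw [mem_fixedPts_iff]
      intro φ
      have hz1 : op φ n' - φ 1 • n' ∈ N' :=
        N'.sub_mem ((isSubcomod_iff N').mp hN' φ n' hn') (N'.smul_mem _ hn')
      have hz2 : op φ n' - φ 1 • n' ∈ LinearMap.ker g := by
        rw [LinearMap.mem_ker, map_sub, map_smul, hgop, (mem_fixedPts_iff _).mp (hgfix n') φ, sub_self]
      have hz : op φ n' - φ 1 • n' = 0 := by
        have : op φ n' - φ 1 • n' ∈ LinearMap.ker g ⊓ N' := ⟨hz2, hz1⟩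
        rw [hc.inf_eq_bot] at this
        exact this
      have := congrArg Y.subtype hz
      rw [map_sub, map_smul, (isComodHom_iff _).mp hsub, map_zero, sub_eq_zero] at this
      exact this
    have h1 : E (n' : V) = n' := (hE₃ _).mpr hfix
    have h2 : E (n' : V) = 0 := (n'.2 : (n' : V) ∈ Y₀ ⊓ LinearMap.ker E).2
    rw [Submodule.mem_bot]
    apply Subtype.ext
    rw [← h1, h2]
    rfl
  have htop : LinearMap.ker g = ⊤ := by
    have := hc.sup_eq_top
    rwa [hN'bot, sup_bot_eq] at this
  have hyY : y ∈ Y := ⟨hyY₀, hy⟩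
  have : (⟨y, hyY⟩ : Y) ∈ LinearMap.ker g := by rw [htop]; trivial
  exact this

theorem natural_result
    (hG : HopfRep.IsLinearlyReductive k A)
    (V W : Type v) [AddCommGroup V] [Module k V] [HopfRep.Comod k A V]
    [AddCommGroup W] [Module k W] [HopfRep.Comod k A W]
    (E : V →ₗ[k] V) (hE₁ : Hoch.IsComodHom A E) (hE₂ : E ∘ₗ E = E)
    (hE₃ : ∀ x : V, E x = x ↔ x ∈ HopfRep.fixedPts k A V)
    (E' : W →ₗ[k] W) (hE'₁ : Hoch.IsComodHom A E') (hE'₂ : E' ∘ₗ E' = E')
    (hE'₃ : ∀ y : W, E' y = y ↔ y ∈ HopfRep.fixedPts k A W)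
    (u : V →ₗ[k] W) (hu : Hoch.IsComodHom A u) :
    E' ∘ₗ u = u ∘ₗ E := by
  apply LinearMap.ext
  intro x
  have hEE : E (E x) = E x := by rw [← LinearMap.comp_apply, hE₂]
  have hEx : E x ∈ HopfRep.fixedPts k A V := (hE₃ (E x)).mp hEE
  have hufix : u (E x) ∈ HopfRep.fixedPts k A W := by
    rw [mem_fixedPts_iff]
    intro φ
    rw [← (isComodHom_iff u).mp hu, (mem_fixedPts_iff _).mp hEx φ, map_smul]
  have h1 : E' (u (E x)) = u (E x) := (hE'₃ _).mpr hufix
  have h2 : E' (u (x - E x)) = 0 :=
    natural_key hG V W E hE₁ hE₃ E' hE'₁ hE'₂ hE'₃ u hu (x - E x) (by rw [map_sub, hEE, sub_self])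
  have h3 : x = E x + (x - E x) := by abel
  show E' (u x) = u (E x)
  conv_lhs => rw [h3]
  rw [map_add, map_add, h1, h2, add_zero]

/-- `E` is a Reynolds operator on the comodule `V`. -/
def IsReynolds (V : Type v) [AddCommGroup V] [Module k V] [HopfRep.Comod k A V]
    (E : V →ₗ[k] V) : Prop :=
  Hoch.IsComodHom A E ∧ E ∘ₗ E = E ∧ ∀ x : V, E x = x ↔ x ∈ HopfRep.fixedPts k A V

theorem semisimple_asMod (hG : HopfRep.IsLinearlyReductive k A)
    (V : Type v) [AddCommGroup V] [Module k V] [cV : HopfRep.Comod k A V] :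
    IsSemisimpleModule (R k A) (AsMod k A V) := by
  classical
  have key : ∀ v : V, ∃ p : Submodule (R k A) (AsMod k A V),
      IsSemisimpleModule (R k A) p ∧ (v : AsMod k A V) ∈ p := by
    intro v
    obtain ⟨Y, hfin, hmem, hsub⟩ :=
      Groth.Agent.H12Comod.exists_finite_subcomod (k := k) (C := A) v
    letI cY : HopfRep.Comod k A Y := ComodSub.Comod.restr cV Y hsub
    have hsubt : Hoch.IsComodHom A Y.subtype := ComodSub.isComodHom_subtype cV Y hsub
    have hss : HopfRep.IsSemisimpleComod k A Y := hG Y hfin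
    haveI : IsSemisimpleModule (R k A) (AsMod k A Y) :=
      (isSemisimpleModule_asMod_iff k A Y).mpr hss
    exact ⟨LinearMap.range (toLin Y.subtype hsubt), IsSemisimpleModule.range _, ⟨⟨v, hmem⟩, rfl⟩⟩
  choose p hp hvp using key
  apply isSemisimpleModule_of_isSemisimpleModule_submodule' hp
  rw [eq_top_iff]
  intro v _
  exact Submodule.mem_iSup_of_mem v (hvp v)

theorem isSubcomod_fixedPts (V : Type v) [AddCommGroup V] [Module k V] [HopfRep.Comod k A V] :
    HopfRep.IsSubcomod (k := k) (A := A) (HopfRep.fixedPts k A V) := by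
  rw [isSubcomod_iff]
  intro φ x hx
  rw [(mem_fixedPts_iff x).mp hx φ]
  exact Submodule.smul_mem _ _ hx

theorem exists_reynolds (hG : HopfRep.IsLinearlyReductive k A)
    (V : Type v) [AddCommGroup V] [Module k V] [HopfRep.Comod k A V] :
    ∃ E : V →ₗ[k] V, Hoch.IsComodHom A E ∧ E ∘ₗ E = E ∧
      ∀ x : V, E x = x ↔ x ∈ HopfRep.fixedPts k A V := by
  haveI := semisimple_asMod hG V
  have hF := isSubcomod_fixedPts (k := k) (A := A) V
  obtain ⟨N, hN⟩ := exists_isCompl (toSub (HopfRep.fixedPts k A V) hF)
  let P := Submodule.projectionOnto _ _ hN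
  let E' : AsMod k A V →ₗ[R k A] AsMod k A V := (toSub _ hF).subtype ∘ₗ P
  refine ⟨ofLin E', isComodHom_ofLin E', ?_, ?_⟩
  · apply LinearMap.ext
    intro x
    have : P ((P (x : AsMod k A V) : toSub _ hF) : AsMod k A V) = P (x : AsMod k A V) :=
      Submodule.projectionOnto_apply_left hN _
    exact congrArg Subtype.val this
  · intro x
    constructor
    · intro h
      have : ((P x : toSub _ hF) : AsMod k A V) = x := h
      have h2 : ((P x : toSub _ hF) : AsMod k A V) ∈ toSub (HopfRep.fixedPts k A V) hF := (P x).2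
      rw [this] at h2
      exact h2
    · intro hx
      show ((P x : toSub _ hF) : AsMod k A V) = x
      have : P ((⟨x, hx⟩ : toSub (HopfRep.fixedPts k A V) hF) : AsMod k A V) = ⟨x, hx⟩ :=
        Submodule.projectionOnto_apply_left hN _
      exact congrArg Subtype.val this

theorem reynolds_natural (hG : HopfRep.IsLinearlyReductive k A)
    {V W : Type v} [AddCommGroup V] [Module k V] [HopfRep.Comod k A V]
    [AddCommGroup W] [Module k W] [HopfRep.Comod k A W]
    {E : V →ₗ[k] V} (hE : IsReynolds (k := k) (A := A) V E)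
    {E' : W →ₗ[k] W} (hE' : IsReynolds (k := k) (A := A) W E')
    (u : V →ₗ[k] W) (hu : Hoch.IsComodHom A u) (x : V) : E' (u x) = u (E x) :=
  LinearMap.congr_fun
    (natural_result hG V W E hE.1 hE.2.1 hE.2.2 E' hE'.1 hE'.2.1 hE'.2.2 u hu) x

theorem reynolds_unique (hG : HopfRep.IsLinearlyReductive k A)
    {V : Type v} [AddCommGroup V] [Module k V] [HopfRep.Comod k A V]
    {E E' : V →ₗ[k] V} (hE : IsReynolds (k := k) (A := A) V E)
    (hE' : IsReynolds (k := k) (A := A) V E') : E = E' := by
  apply LinearMap.ext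
  intro x
  -- E' (E x) = E x since E x is fixed; E' (E x) = E (E' x) by naturality of u = E ... use u = id twice
  have h1 := reynolds_natural hG hE hE' LinearMap.id (by
    show _ = _
    rw [LinearMap.rTensor_id]; rfl) x
  simp only [LinearMap.id_apply] at h1
  -- h1 : E' x = E x
  exact h1.symm

theorem reynolds_mem_subcomod (hG : HopfRep.IsLinearlyReductive k A)
    {V : Type v} [AddCommGroup V] [Module k V] [cV : HopfRep.Comod k A V]
    {E : V →ₗ[k] V} (hE : IsReynolds (k := k) (A := A) V E)
    (W : Submodule k V) (hW : HopfRep.IsSubcomod (k := k) (A := A) W) (x : V) (hx : x ∈ W) :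
    E x ∈ W := by
  letI cW : HopfRep.Comod k A W := ComodSub.Comod.restr cV W hW
  have hsubt : Hoch.IsComodHom A W.subtype := ComodSub.isComodHom_subtype cV W hW
  obtain ⟨EW, hEW⟩ := exists_reynolds (k := k) (A := A) hG W
  have h := reynolds_natural hG (E := EW) (E' := E) hEW hE W.subtype hsubt ⟨x, hx⟩
  have h' : E x = (EW ⟨x, hx⟩ : V) := h
  rw [h']
  exact (EW ⟨x, hx⟩).2

theorem reynolds_mem_fixedPts
    {V : Type v} [AddCommGroup V] [Module k V] [cV : HopfRep.Comod k A V]
    {E : V →ₗ[k] V} (hE : IsReynolds (k := k) (A := A) V E) (x : V) :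
    E x ∈ HopfRep.fixedPts k A V := by
  rw [← hE.2.2, ← LinearMap.comp_apply, hE.2.1]

section Alg

variable (Rr : Type v) [CommRing Rr] [Algebra k Rr] [HopfRep.Comod k A Rr] [GLin.IsCoactAlg k A Rr]

theorem isComodHom_mulRight (y : Rr) (hy : y ∈ GLin.invariants k A Rr) :
    Hoch.IsComodHom A (LinearMap.mulRight k y) := by
  apply LinearMap.ext
  intro x
  show HopfRep.Comod.coact (k := k) (A := A) (x * y) =
    (LinearMap.mulRight k y).rTensor A (HopfRep.Comod.coact (k := k) (A := A) x)
  rw [GLin.IsCoactAlg.coact_mul, (GLin.mem_invariants_iff k A Rr y).mp hy]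
  generalize HopfRep.Comod.coact (k := k) (A := A) x = t
  induction t using TensorProduct.induction_on with
  | zero => simp
  | tmul a b => simp [Algebra.TensorProduct.tmul_mul_tmul]
  | add a b ha hb => rw [add_mul, ha, hb, map_add]

theorem reynolds_mul (hG : HopfRep.IsLinearlyReductive k A)
    {E : Rr →ₗ[k] Rr} (hE : IsReynolds (k := k) (A := A) Rr E)
    (x y : Rr) (hy : y ∈ GLin.invariants k A Rr) : E (x * y) = E x * y :=
  reynolds_natural hG hE hE (LinearMap.mulRight k y) (isComodHom_mulRight Rr y hy) x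

/-- The Reynolds operator with values in the ring of invariants. -/
noncomputable def toInv {E : Rr →ₗ[k] Rr} (hE : IsReynolds (k := k) (A := A) Rr E) :
    Rr →ₗ[k] GLin.invariants k A Rr :=
  E.codRestrict (Subalgebra.toSubmodule (GLin.invariants k A Rr)) (fun r => reynolds_mem_fixedPts hE r)

@[simp] lemma toInv_coe {E : Rr →ₗ[k] Rr} (hE : IsReynolds (k := k) (A := A) Rr E) (r : Rr) :
    ((toInv Rr hE r : GLin.invariants k A Rr) : Rr) = E r := rfl

/-- if `r` lies in the extension `I R` of an ideal `I` of the invariants, then `E r ∈ I`. -/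
theorem toInv_mem_of_mem_map (hG : HopfRep.IsLinearlyReductive k A)
    {E : Rr →ₗ[k] Rr} (hE : IsReynolds (k := k) (A := A) Rr E)
    (I : Ideal (GLin.invariants k A Rr)) (r : Rr)
    (hr : r ∈ Ideal.map (GLin.invariants k A Rr).val.toRingHom I) : toInv Rr hE r ∈ I := by
  have hEmem : ∀ r : Rr, E r ∈ GLin.invariants k A Rr := fun r => reynolds_mem_fixedPts hE r
  let J : Ideal Rr :=
    { carrier := {r | ∀ a : Rr, toInv Rr hE (a * r) ∈ I}
      add_mem' := by
        intro r s hr hs a
        have : toInv Rr hE (a * (r + s)) = toInv Rr hE (a * r) + toInv Rr hE (a * s) := by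
          rw [mul_add, map_add]
        rw [this]
        exact I.add_mem (hr a) (hs a)
      zero_mem' := by
        intro a
        rw [mul_zero, map_zero]
        exact I.zero_mem
      smul_mem' := by
        intro b r hr a
        have : toInv Rr hE (a * (b • r)) = toInv Rr hE ((a * b) * r) := by
          rw [smul_eq_mul, mul_assoc]
        rw [this]
        exact hr (a * b) }
  have hJ : Ideal.map (GLin.invariants k A Rr).val.toRingHom I ≤ J := by
    rw [Ideal.map_le_iff_le_comap]
    intro y hy a
    have : toInv Rr hE (a * (y : Rr)) = toInv Rr hE a * y := by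
      apply Subtype.ext
      show E (a * (y : Rr)) = E a * (y : Rr)
      exact reynolds_mul Rr hG hE a y y.2
    show toInv Rr hE (a * (y : Rr)) ∈ I
    rw [this]
    exact I.mul_mem_left _ hy
  have h1 : r ∈ J := hJ hr
  have h2 := h1 1
  rwa [one_mul] at h2

/-- `(I R) ∩ R^G = I` for an ideal `I` of the ring of invariants of a linearly reductive group. -/
theorem comap_map_invariants (hG : HopfRep.IsLinearlyReductive k A)
    (I : Ideal (GLin.invariants k A Rr)) :
    Ideal.comap (GLin.invariants k A Rr).val.toRingHom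
        (Ideal.map (GLin.invariants k A Rr).val.toRingHom I) = I := by
  apply le_antisymm
  · obtain ⟨E, hE⟩ := exists_reynolds (k := k) (A := A) hG Rr
    have hEmem : ∀ r : Rr, E r ∈ GLin.invariants k A Rr := fun r => reynolds_mem_fixedPts hE r
    let J : Ideal Rr :=
      { carrier := {r | ∀ a : Rr, (⟨E (a * r), hEmem _⟩ : GLin.invariants k A Rr) ∈ I}
        add_mem' := by
          intro r s hr hs a
          have : (⟨E (a * (r + s)), hEmem _⟩ : GLin.invariants k A Rr) =
              ⟨E (a * r), hEmem _⟩ + ⟨E (a * s), hEmem _⟩ := by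
            apply Subtype.ext
            show E (a * (r + s)) = E (a * r) + E (a * s)
            rw [mul_add, map_add]
          rw [this]
          exact I.add_mem (hr a) (hs a)
        zero_mem' := by
          intro a
          have : (⟨E (a * 0), hEmem _⟩ : GLin.invariants k A Rr) = 0 := by
            apply Subtype.ext
            show E (a * 0) = 0
            rw [mul_zero, map_zero]
          rw [this]
          exact I.zero_mem
        smul_mem' := by
          intro b r hr a
          have : (⟨E (a * (b • r)), hEmem _⟩ : GLin.invariants k A Rr) =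
              ⟨E ((a * b) * r), hEmem _⟩ := by
            apply Subtype.ext
            show E (a * (b * r)) = E ((a * b) * r)
            rw [mul_assoc]
          rw [this]
          exact hr (a * b) }
    have hJ : Ideal.map (GLin.invariants k A Rr).val.toRingHom I ≤ J := by
      rw [Ideal.map_le_iff_le_comap]
      intro y hy a
      have : (⟨E (a * (y : Rr)), hEmem _⟩ : GLin.invariants k A Rr) = ⟨E a, hEmem _⟩ * y := by
        apply Subtype.ext
        show E (a * (y : Rr)) = E a * (y : Rr)
        exact reynolds_mul Rr hG hE a y y.2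
      show (⟨E (a * (y : Rr)), hEmem _⟩ : GLin.invariants k A Rr) ∈ I
      rw [this]
      exact I.mul_mem_left _ hy
    intro z hz
    have h1 : (z : Rr) ∈ J := hJ hz
    have h2 := h1 1
    have : (⟨E (1 * (z : Rr)), hEmem _⟩ : GLin.invariants k A Rr) = z := by
      apply Subtype.ext
      show E (1 * (z : Rr)) = z
      rw [one_mul]
      exact (hE.2.2 _).mpr z.2
    rw [this] at h2
    exact h2
  · exact Ideal.le_comap_map

/-- The ring of invariants of a linearly reductive group acting on a Noetherian ring is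
Noetherian. -/
theorem isNoetherianRing_invariants (hG : HopfRep.IsLinearlyReductive k A) [IsNoetherianRing Rr] :
    IsNoetherianRing (GLin.invariants k A Rr) := by
  rw [isNoetherianRing_iff, isNoetherian_iff']
  have hinj : Function.Injective
      (fun I : Ideal (GLin.invariants k A Rr) =>
        Ideal.map (GLin.invariants k A Rr).val.toRingHom I) := by
    intro I J hIJ
    have := congrArg (Ideal.comap (GLin.invariants k A Rr).val.toRingHom) hIJ
    simpa only [comap_map_invariants Rr hG] using this
  have hmono : StrictMono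
      (fun I : Ideal (GLin.invariants k A Rr) =>
        Ideal.map (GLin.invariants k A Rr).val.toRingHom I) :=
    Monotone.strictMono_of_injective (fun _ _ h => Ideal.map_mono h) hinj
  haveI : WellFoundedGT (Ideal Rr) := (isNoetherian_iff' (R := Rr) (M := Rr)).mp inferInstance
  exact hmono.wellFoundedGT

section HopfMod

variable (M : Type v) [AddCommGroup M] [Module k M] [Module Rr M] [IsScalarTower k Rr M]
  [HopfRep.Comod k A M] [TameAct.IsHopfMod k A Rr M]

/-- `a ↦ a • m` as a `k`-linear map. -/
noncomputable def smulRight (m : M) : Rr →ₗ[k] M :=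
  ((LinearMap.toSpanSingleton Rr M m).restrictScalars k)

@[simp] lemma smulRight_apply (m : M) (a : Rr) : smulRight (k := k) Rr M m a = a • m := rfl

theorem isComodHom_smulRight (m : M) (hm : m ∈ HopfRep.fixedPts k A M) :
    Hoch.IsComodHom A (smulRight (k := k) Rr M m) := by
  apply LinearMap.ext
  intro a
  show HopfRep.Comod.coact (k := k) (A := A) (a • m) =
    (smulRight (k := k) Rr M m).rTensor A (HopfRep.Comod.coact (k := k) (A := A) a)
  rw [TameAct.IsHopfMod.coact_smul (k := k) (A := A) (B := Rr) (M := M)]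
  have hm' : HopfRep.Comod.coact (k := k) (A := A) m = m ⊗ₜ[k] (1 : A) := hm
  rw [hm']
  generalize HopfRep.Comod.coact (k := k) (A := A) a = t
  induction t using TensorProduct.induction_on with
  | zero => simp
  | tmul b h => simp [smulRight_apply]
  | add x y hx hy => rw [map_add, LinearMap.add_apply, hx, hy, map_add]

theorem reynolds_smul (hG : HopfRep.IsLinearlyReductive k A)
    {E : Rr →ₗ[k] Rr} (hE : IsReynolds (k := k) (A := A) Rr E)
    {EM : M →ₗ[k] M} (hEM : IsReynolds (k := k) (A := A) M EM)
    (a : Rr) (m : M) (hm : m ∈ HopfRep.fixedPts k A M) : EM (a • m) = E a • m :=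
  reynolds_natural hG hE hEM (smulRight Rr M m) (isComodHom_smulRight Rr M m hm) a

/-- Finite generation of the module of invariants over the ring of invariants. -/
theorem exists_finset_fixedPts (hG : HopfRep.IsLinearlyReductive k A)
    [IsNoetherianRing Rr] [Module.Finite Rr M] :
    ∃ s : Finset M, (↑s : Set M) ⊆ (HopfRep.fixedPts k A M : Set M) ∧
      ∀ m ∈ HopfRep.fixedPts k A M, ∃ c : M → Rr,
        (∀ y, c y ∈ GLin.invariants k A Rr) ∧ m = ∑ y ∈ s, c y • y := by
  classical
  obtain ⟨E, hE⟩ := exists_reynolds (k := k) (A := A) hG Rr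
  obtain ⟨EM, hEM⟩ := exists_reynolds (k := k) (A := A) hG M
  haveI : IsNoetherian Rr M := isNoetherian_of_isNoetherianRing_of_finite Rr M
  have hfg : (Submodule.span Rr (HopfRep.fixedPts k A M : Set M)).FG := IsNoetherian.noetherian _
  obtain ⟨s, hs, hspan⟩ := (Submodule.fg_span_iff_fg_span_finset_subset _).mp hfg
  refine ⟨s, hs, ?_⟩
  intro m hm
  have hm1 : m ∈ Submodule.span Rr (s : Set M) := by
    rw [← hspan]; exact Submodule.subset_span hm
  obtain ⟨c, -, hc⟩ := Submodule.mem_span_finset.mp hm1
  refine ⟨fun y => E (c y), fun y => reynolds_mem_fixedPts hE (c y), ?_⟩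
  have hEm : EM m = m := (hEM.2.2 m).mpr hm
  rw [← hEm, ← hc, map_sum]
  apply Finset.sum_congr rfl
  intro y hy
  exact reynolds_smul Rr M hG hE hEM (c y) y (hs hy)

end HopfMod

end Alg

end Groth.Agent.Lib.helper29.Reynolds
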