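import Mathlib
import Groth.Agent.Lib.helper29.RegQuot

set_option autoImplicit false
universe u

namespace Groth.Agent.H29.Sop

open IsLocalRing in
theorem dim_quot_succ_le {R : Type u} [CommRing R] {r : R} (hr : ∀ p ∈ minimalPrimes R, r ∉ p) :
    ringKrullDim (R ⧸ Ideal.span {r}) + 1 ≤ ringKrullDim R := by
  by_cases hr' : Ideal.span {r} = ⊤
  · rw [hr', ringKrullDim_eq_bot_of_subsingleton]
    simp
  have : Nonempty (PrimeSpectrum.zeroLocus (R := R) (Ideal.span {r})) := by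
    rwa [Set.nonempty_coe_sort, Set.nonempty_iff_ne_empty, ne_eq,
      PrimeSpectrum.zeroLocus_empty_iff_eq_top]
  have := Ideal.Quotient.nontrivial_iff.mpr hr'
  have := (Ideal.Quotient.mk (Ideal.span {r})).domain_nontrivial
  rw [ringKrullDim_quotient, Order.krullDim_eq_iSup_length, ringKrullDim,
    Order.krullDim_eq_iSup_length, ← WithBot.coe_one, ← WithBot.coe_add,
    ENat.iSup_add, WithBot.coe_le_coe, iSup_le_iff]
  intro l
  obtain ⟨p, hp, hp'⟩ := Ideal.exists_minimalPrimes_le (J := l.head.1.asIdeal) bot_le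
  let p' : PrimeSpectrum R := ⟨p, hp.1.1⟩
  have hp' : p' < l.head := lt_of_le_of_ne hp' fun h ↦ hr p hp
    (show r ∈ p by simpa [← h, p'] using l.head.2)
  refine le_trans ?_ (le_iSup _ ((l.map Subtype.val (fun _ _ ↦ id)).cons p' hp'))
  simp


/-- extend `f` (avoiding all minimal primes) to a system of parameters with the other members in
`m ^ k`. -/
theorem exists_sop (R : Type u) [CommRing R] [IsNoetherianRing R] [IsLocalRing R]
    (d : ℕ) (hd : ringKrullDim R = d) (f : R) (hf : f ∈ IsLocalRing.maximalIdeal R)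
    (hmin : ∀ p ∈ minimalPrimes R, f ∉ p) (k : ℕ) :
    ∃ g : Fin (d - 1) → R, (∀ i, g i ∈ IsLocalRing.maximalIdeal R ^ k) ∧ (∀ i, g i ∈ IsLocalRing.maximalIdeal R) ∧
      IsLocalRing.maximalIdeal R ≤ (Ideal.span (insert f (Set.range g))).radical := by
  classical
  set m := IsLocalRing.maximalIdeal R with hm
  set 𝔞 : Ideal R := Ideal.span {f} with h𝔞def
  have h𝔞 : 𝔞 ≤ m := (Ideal.span_singleton_le_iff_mem _).mpr hf
  have h𝔞top : 𝔞 ≠ ⊤ := fun h =>
    (Ideal.IsPrime.ne_top inferInstance : m ≠ ⊤) (top_le_iff.mp (h ▸ h𝔞))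
  haveI : Nontrivial (R ⧸ 𝔞) := Ideal.Quotient.nontrivial_iff.mpr h𝔞top
  haveI : IsLocalRing (R ⧸ 𝔞) :=
    IsLocalRing.of_surjective' (Ideal.Quotient.mk 𝔞) Ideal.Quotient.mk_surjective
  set π := Ideal.Quotient.mk 𝔞 with hπ
  have hπs : Function.Surjective π := Ideal.Quotient.mk_surjective
  set m' := IsLocalRing.maximalIdeal (R ⧸ 𝔞) with hm'def
  have hm' : m' = m.map π := Groth.Agent.H29.RegQuot.maximalIdeal_quotient 𝔞
  have hdim : ringKrullDim (R ⧸ 𝔞) + 1 ≤ (d : WithBot ℕ∞) := hd ▸ dim_quot_succ_le hmin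
  have hht : (m'.height : WithBot ℕ∞) = ringKrullDim (R ⧸ 𝔞) :=
    IsLocalRing.maximalIdeal_height_eq_ringKrullDim
  have hht' : m'.height + 1 ≤ (d : ℕ∞) := by
    have : ((m'.height + 1 : ℕ∞) : WithBot ℕ∞) ≤ ((d : ℕ∞) : WithBot ℕ∞) := by
      rw [WithBot.coe_add, hht]; exact_mod_cast hdim
    exact_mod_cast this
  obtain ⟨e, he⟩ : ∃ e : ℕ, m'.height = e := by
    have : m'.height ≠ ⊤ :=
      ne_top_of_le_ne_top (ENat.natCast_ne_top d) (le_trans le_self_add hht')
    exact ⟨m'.height.toNat, (ENat.natCast_toNat this).symm⟩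
  have hed : e + 1 ≤ d := by rw [he] at hht'; exact_mod_cast hht'
  set K := max k 1 with hKdef
  have hK : K ≠ 0 := by omega
  have hIht : (e : ℕ∞) ≤ (m' ^ K).height := by
    rw [Ideal.height_eq_inf_minimalPrimes]
    refine le_iInf₂ fun J hJ => ?_
    have hJp : J.IsPrime := hJ.1.1
    have : m' ≤ J := hJp.le_of_pow_le hJ.1.2
    have hJm : J = m' := le_antisymm (IsLocalRing.le_maximalIdeal hJp.ne_top) this
    rw [hJm, he]
  obtain ⟨J', hJ'I, hJ'r, hJ'h⟩ := exists_spanRank_le_and_le_height_of_le_height (m' ^ K) e hIht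
  have hJ'm : J' ≤ m' := le_trans hJ'I (Ideal.pow_le_self hK)
  have hminJ : m' ∈ J'.minimalPrimes :=
    Ideal.mem_minimalPrimes_of_height_le hJ'm (he ▸ hJ'h)
  have hrad : m' ≤ J'.radical := by
    rw [Ideal.radical_eq_sInf]
    refine le_sInf fun q hq => ?_
    exact hminJ.2 ⟨hq.2, hq.1⟩ (IsLocalRing.le_maximalIdeal hq.2.ne_top)
  have hfg : Submodule.FG J' := IsNoetherian.noetherian J'
  obtain ⟨s, hscard, hsspan⟩ := Submodule.FG.exists_span_finset_card_eq_spanFinrank hfg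
  have hsle : s.card ≤ e := by
    rw [hscard]; exact (Submodule.FG.spanRank_le_iff hfg e).mp hJ'r
  let gbar : Fin (d - 1) → R ⧸ 𝔞 := fun i =>
    if h : i.val < s.card then ((s.equivFin.symm ⟨i.val, h⟩ : s) : R ⧸ 𝔞) else 0
  have hgbarJ : ∀ i, gbar i ∈ J' := by
    intro i
    simp only [gbar]
    split_ifs with h
    · rw [← hsspan]; exact Submodule.subset_span (s.equivFin.symm ⟨i.val, h⟩).2
    · exact J'.zero_mem
  have hsub : (s : Set (R ⧸ 𝔞)) ⊆ Set.range gbar := by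
    intro x hx
    let j := s.equivFin ⟨x, hx⟩
    have hj : j.val < d - 1 := by have := j.2; omega
    refine ⟨⟨j.val, hj⟩, ?_⟩
    simp only [gbar]
    rw [dif_pos j.2]
    simp [j]
  have hlift : ∀ i, ∃ y ∈ m ^ K, π y = gbar i := by
    intro i
    have : gbar i ∈ (m ^ K).map π := by
      rw [Ideal.map_pow, ← hm']; exact hJ'I (hgbarJ i)
    exact (Ideal.mem_map_iff_of_surjective π hπs).mp this
  choose g hgK hgπ using hlift
  refine ⟨g, fun i => Ideal.pow_le_pow_right (le_max_left k 1) (hgK i),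
    fun i => Ideal.pow_le_self hK (hgK i), fun x hx => ?_⟩
  have hx' : π x ∈ J'.radical := hrad (hm' ▸ Ideal.mem_map_of_mem π hx)
  obtain ⟨N, hN⟩ := hx'
  refine ⟨N, ?_⟩
  have h1 : J' ≤ (Ideal.span (Set.range g)).map π := by
    rw [← hsspan, Ideal.map_span, ← Set.range_comp]
    have : (π ∘ g) = gbar := funext hgπ
    rw [this]
    exact Ideal.span_mono hsub
  have h2 : π (x ^ N) ∈ (Ideal.span (Set.range g)).map π := by
    rw [map_pow]; exact h1 hN
  have h3 : x ^ N ∈ ((Ideal.span (Set.range g)).map π).comap π := h2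
  rw [Ideal.comap_map_of_surjective π hπs, ← RingHom.ker_eq_comap_bot, Ideal.mk_ker] at h3
  rw [Set.insert_eq, Ideal.span_union, sup_comm]
  exact h3

end Groth.Agent.H29.Sop
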