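import Mathlib
import Groth.Agent.Lib.helper13.EsymmFree

/-!
Explicit (staircase / Artin) monomial basis of `R[t_1..t_n]` over `R[e_1..e_n]`, building on
helper13's `EsymmFree`.
-/

set_option autoImplicit false

namespace Groth.Agent.Lib.helper29.Stair

open Groth.Agent.Lib.helper13.EsymmFree

universe u

theorem polyExt_bijective' {A B : Type*} [CommRing A] [CommRing B] (f : A →+* B)
    {ι : Type*} [Fintype ι] (b : ι → B)
    (h : Function.Bijective (fun p : ι → A => ∑ k, f (p k) * b k)) :
    Function.Bijective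
      (fun P : ι → Polynomial A => ∑ k, (P k).map f * Polynomial.C (b k)) := by
  classical
  have hcoeff : ∀ (P : ι → Polynomial A) (m : ℕ),
      (∑ k, (P k).map f * Polynomial.C (b k)).coeff m = ∑ k, f ((P k).coeff m) * b k := by
    intro P m
    rw [Polynomial.finsetSum_coeff]
    apply Finset.sum_congr rfl
    intro k _
    rw [Polynomial.coeff_mul_C, Polynomial.coeff_map]
  constructor
  · intro P Q hPQ
    funext k
    ext m
    have h1 := congrArg (fun p : Polynomial B => p.coeff m) hPQ
    simp only [hcoeff] at h1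
    exact congrFun (h.1 h1) k
  · intro p
    choose g hg using h.2
    have hg0 : g 0 = 0 := by
      apply h.1
      rw [hg 0]
      simp
    refine ⟨fun k => ∑ m ∈ p.support, Polynomial.monomial m (g (p.coeff m) k), ?_⟩
    ext m
    rw [hcoeff]
    have hc : ∀ k, (∑ m' ∈ p.support, Polynomial.monomial m' (g (p.coeff m') k)).coeff m =
        g (p.coeff m) k := by
      intro k
      rw [Polynomial.finsetSum_coeff]
      simp only [Polynomial.coeff_monomial]
      rw [Finset.sum_ite_eq' p.support m]
      split_ifs with hm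
      · rfl
      · rw [Polynomial.notMem_support_iff.mp hm, hg0]
        rfl
    simp only [hc]
    exact hg (p.coeff m)

variable (R : Type u) [CommRing R]

theorem step [Nontrivial R] {ι' : Type*} [Fintype ι'] (r : ℕ) (b' : ι' → MvPolynomial (Fin r) R)
    (hb' : Function.Bijective (fun p : ι' → MvPolynomial (Fin r) R =>
      ∑ k, fr R r (p k) * b' k)) :
    Function.Bijective (fun p : Fin (r + 1) × ι' → MvPolynomial (Fin (r + 1)) R =>
      ∑ k, fr R (r + 1) (p k) *
        (MvPolynomial.finSuccEquiv R r).symm (Polynomial.X ^ (k.1 : ℕ) * Polynomial.C (b' k.2))) := by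
  let E₁ := MvPolynomial.finSuccEquiv R r
  have hΦ'' := polyExt_bijective' (fr R r) b' hb'
  have hΞ := Xi_bijective R r
  let ρ : (Fin (r + 1) × ι' → MvPolynomial (Fin (r + 1)) R) ≃
      (ι' → Fin (r + 1) → MvPolynomial (Fin (r + 1)) R) :=
    { toFun := fun p j l => p (l, j)
      invFun := fun P i => P i.2 i.1
      left_inv := fun p => rfl
      right_inv := fun P => rfl }
  have hPi : Function.Bijective (fun P : ι' → Fin (r + 1) → MvPolynomial (Fin (r + 1)) R =>
      fun j => ∑ l : Fin (r + 1), psi' R r (P j l) * Polynomial.X ^ (l : ℕ)) := by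
    constructor
    · intro P Q hPQ
      funext j
      exact hΞ.1 (congrFun hPQ j)
    · intro Y
      choose P hP using fun j => hΞ.2 (Y j)
      exact ⟨P, funext hP⟩
  have hcomp := (hΦ''.comp hPi).comp ρ.bijective
  have hE : Function.Bijective E₁ := E₁.bijective
  rw [← Function.Bijective.of_comp_iff' hE]
  convert hcomp using 1
  funext p
  simp only [Function.comp_apply, map_sum, map_mul]
  have h1 : ∀ i, E₁ (fr R (r + 1) (p i)) = Polynomial.map (fr R r) (psi' R r (p i)) :=
    fun i => finSuccEquiv_fr R r (p i)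
  simp only [h1, E₁, AlgEquiv.apply_symm_apply]
  rw [Fintype.sum_prod_type, Finset.sum_comm]
  apply Finset.sum_congr rfl
  intro j _
  simp only [ρ, Equiv.coe_fn_mk, Polynomial.map_sum, Polynomial.map_mul,
    Polynomial.map_pow, Polynomial.map_X, Finset.sum_mul]
  apply Finset.sum_congr rfl
  intro l _
  ring


/-- The staircase index type. -/
abbrev Idx (n : ℕ) := Π i : Fin n, Fin (n - (i : ℕ))

/-- The staircase monomials. -/
noncomputable def stair (n : ℕ) (d : Idx n) : MvPolynomial (Fin n) R :=
  ∏ i : Fin n, MvPolynomial.X i ^ ((d i : ℕ))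

def sigma (r : ℕ) : Idx (r + 1) ≃ Fin (r + 1) × Idx r :=
  (Fin.consEquiv (fun i : Fin (r + 1) => Fin (r + 1 - (i : ℕ)))).symm.trans
    (Equiv.prodCongr (finCongr (by simp)) (Equiv.piCongrRight fun i => finCongr (by simp)))

theorem sigma_fst (r : ℕ) (d : Idx (r + 1)) : ((sigma r d).1 : ℕ) = (d 0 : ℕ) := rfl

theorem sigma_snd (r : ℕ) (d : Idx (r + 1)) (i : Fin r) :
    ((sigma r d).2 i : ℕ) = (d i.succ : ℕ) := rfl

theorem stair_eq (r : ℕ) (d : Idx (r + 1)) :
    stair R (r + 1) d = (MvPolynomial.finSuccEquiv R r).symm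
      (Polynomial.X ^ ((sigma r d).1 : ℕ) * Polynomial.C (stair R r (sigma r d).2)) := by
  apply (MvPolynomial.finSuccEquiv R r).injective
  rw [AlgEquiv.apply_symm_apply]
  unfold stair
  rw [map_prod, Fin.prod_univ_succ, map_prod]
  simp only [map_pow, MvPolynomial.finSuccEquiv_X_zero, MvPolynomial.finSuccEquiv_X_succ,
    sigma_fst, sigma_snd]

theorem stair_bijective (n : ℕ) :
    Function.Bijective (fun p : Idx n → MvPolynomial (Fin n) R =>
      ∑ d, fr R n (p d) * stair R n d) := by
  rcases subsingleton_or_nontrivial R with hs | hn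
  · constructor
    · intro p q _
      funext d
      exact MvPolynomial.ext _ _ (fun m => Subsingleton.elim _ _)
    · intro y
      exact ⟨fun _ => 0, MvPolynomial.ext _ _ (fun m => Subsingleton.elim _ _)⟩
  induction n with
  | zero =>
    have hid : ∀ p : MvPolynomial (Fin 0) R, fr R 0 p = p := by
      intro p
      rw [fr_apply, MvPolynomial.eq_C_of_isEmpty p]
      simp
    have e : (fun p : Idx 0 → MvPolynomial (Fin 0) R => ∑ d, fr R 0 (p d) * stair R 0 d)
        = fun p => p default := by
      funext p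
      rw [Fintype.sum_unique]
      simp [hid, stair]
    rw [e]
    exact (Equiv.funUnique (Idx 0) _).bijective
  | succ r ih =>
    have hstep := step R r (stair R r) ih
    have e : (fun p : Idx (r + 1) → MvPolynomial (Fin (r + 1)) R =>
        ∑ d, fr R (r + 1) (p d) * stair R (r + 1) d) =
        (fun p : Fin (r + 1) × Idx r → MvPolynomial (Fin (r + 1)) R =>
          ∑ k, fr R (r + 1) (p k) * (MvPolynomial.finSuccEquiv R r).symm
            (Polynomial.X ^ (k.1 : ℕ) * Polynomial.C (stair R r k.2))) ∘
        (fun p => p ∘ (sigma r).symm) := by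
      funext p
      simp only [Function.comp_apply]
      refine Fintype.sum_equiv (sigma r) _ _ (fun d => ?_)
      rw [Equiv.symm_apply_apply, stair_eq]
    rw [e]
    exact hstep.comp ((Equiv.arrowCongr (sigma r) (Equiv.refl _)).bijective)

/-- The staircase monomials are compatible with base change. -/
theorem map_stair {S : Type*} [CommRing S] (f : R →+* S) (n : ℕ) (d : Idx n) :
    MvPolynomial.map f (stair R n d) = stair S n d := by
  unfold stair
  rw [map_prod]
  simp only [map_pow, MvPolynomial.map_X]

variable (n : ℕ) (a : Fin n → R)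

/-- Quotient injectivity for the staircase family. -/
theorem quot_inj (c : Idx n → R)
    (hc : ∑ d, MvPolynomial.C (c d) * stair R n d ∈ II R n a) : c = 0 := by
  have hb := stair_bijective R n
  unfold II at hc
  rw [Ideal.mem_span_range_iff_exists_fun] at hc
  obtain ⟨g, hg⟩ := hc
  choose G hG using fun i => hb.2 (g i)
  have hG' : ∀ i, ∑ k, fr R n (G i k) * stair R n k = g i := hG
  have h1 : (fun k => MvPolynomial.C (c k)) =
      fun k => ∑ i, G i k * (MvPolynomial.X i - MvPolynomial.C (a i)) := by
    apply hb.1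
    change ∑ k, fr R n (MvPolynomial.C (c k)) * stair R n k =
      ∑ k, fr R n (∑ i, G i k * (MvPolynomial.X i - MvPolynomial.C (a i))) * stair R n k
    have e0 : ∑ k, fr R n (MvPolynomial.C (c k)) * stair R n k
        = ∑ d, MvPolynomial.C (c d) * stair R n d := by
      apply Finset.sum_congr rfl
      intro k _
      rw [fr_apply, MvPolynomial.aeval_C, MvPolynomial.algebraMap_eq]
    rw [e0, ← hg]
    simp only [← hG', map_sum, map_mul, map_sub, Finset.sum_mul]
    rw [Finset.sum_comm]
    apply Finset.sum_congr rfl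
    intro k _
    apply Finset.sum_congr rfl
    intro i _
    simp only [fr_apply, MvPolynomial.aeval_X, MvPolynomial.aeval_C, MvPolynomial.algebraMap_eq]
    ring
  funext k
  have h2 := congrArg (MvPolynomial.aeval a) (congrFun h1 k)
  simpa using h2

/-- Quotient surjectivity for the staircase family. -/
theorem quot_surj (q : MvPolynomial (Fin n) R) :
    ∃ c : Idx n → R, q - ∑ d, MvPolynomial.C (c d) * stair R n d ∈ II R n a := by
  obtain ⟨p, hp⟩ := (stair_bijective R n).2 q
  have hp' : ∑ k, fr R n (p k) * stair R n k = q := hp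
  refine ⟨fun k => MvPolynomial.aeval a (p k), ?_⟩
  rw [← Ideal.Quotient.eq, ← hp', map_sum, map_sum]
  apply Finset.sum_congr rfl
  intro k _
  rw [map_mul, map_mul, mk_fr]


theorem lemmaA (J : Ideal R) (c : Idx n → R) :
    ∑ d, MvPolynomial.C (c d) * stair R n d ∈
      II R n a ⊔ Ideal.map (MvPolynomial.C : R →+* MvPolynomial (Fin n) R) J ↔ ∀ d, c d ∈ J := by
  constructor
  · intro h
    let φ : MvPolynomial (Fin n) R →+* MvPolynomial (Fin n) (R ⧸ J) :=
      MvPolynomial.map (Ideal.Quotient.mk J)
    have hle : II R n a ⊔ Ideal.map (MvPolynomial.C : R →+* MvPolynomial (Fin n) R) J ≤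
        Ideal.comap φ (II (R ⧸ J) n (fun i => Ideal.Quotient.mk J (a i))) := by
      refine sup_le ?_ ?_
      · unfold II
        rw [Ideal.span_le]
        rintro _ ⟨i, rfl⟩
        rw [SetLike.mem_coe, Ideal.mem_comap, map_sub]
        change MvPolynomial.map (Ideal.Quotient.mk J) _ - MvPolynomial.map (Ideal.Quotient.mk J) _ ∈ _
        rw [MvPolynomial.map_esymm, MvPolynomial.map_C]
        exact Ideal.subset_span ⟨i, rfl⟩
      · rw [Ideal.map_le_iff_le_comap]
        intro j hj
        rw [Ideal.mem_comap, Ideal.mem_comap]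
        change MvPolynomial.map (Ideal.Quotient.mk J) (MvPolynomial.C j) ∈ _
        rw [MvPolynomial.map_C, Ideal.Quotient.eq_zero_iff_mem.2 hj, map_zero]
        exact Ideal.zero_mem _
    have h2 : φ (∑ d, MvPolynomial.C (c d) * stair R n d) ∈
        II (R ⧸ J) n (fun i => Ideal.Quotient.mk J (a i)) := hle h
    rw [map_sum] at h2
    have h3 : ∑ d, φ (MvPolynomial.C (c d) * stair R n d) =
        ∑ d, MvPolynomial.C (Ideal.Quotient.mk J (c d)) * stair (R ⧸ J) n d := by
      apply Finset.sum_congr rfl
      intro d _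
      rw [map_mul, MvPolynomial.map_C, map_stair]
    rw [h3] at h2
    have h4 := quot_inj (R ⧸ J) n _ (fun d => Ideal.Quotient.mk J (c d)) h2
    intro d
    exact Ideal.Quotient.eq_zero_iff_mem.1 (congrFun h4 d)
  · intro h
    refine Ideal.mem_sup_right (Ideal.sum_mem _ fun d _ => ?_)
    exact Ideal.mul_mem_right _ _ (Ideal.mem_map_of_mem _ (h d))

theorem lemmaB (J : Ideal R) (x : MvPolynomial (Fin n) R) :
    x ∈ II R n a ⊔ Ideal.map (MvPolynomial.C : R →+* MvPolynomial (Fin n) R) J ↔
      ∃ j : Idx n → R, (∀ d, j d ∈ J) ∧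
        x - ∑ d, MvPolynomial.C (j d) * stair R n d ∈ II R n a := by
  constructor
  · intro hx
    obtain ⟨c, hc⟩ := quot_surj R n a x
    refine ⟨c, ?_, hc⟩
    rw [← lemmaA R n a J c]
    have : ∑ d, MvPolynomial.C (c d) * stair R n d =
        x - (x - ∑ d, MvPolynomial.C (c d) * stair R n d) := by ring
    rw [this]
    exact Ideal.sub_mem _ hx (Ideal.mem_sup_left hc)
  · rintro ⟨j, hj, hx⟩
    have : x = (x - ∑ d, MvPolynomial.C (j d) * stair R n d) +
        ∑ d, MvPolynomial.C (j d) * stair R n d := by ring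
    rw [this]
    exact Ideal.add_mem _ (Ideal.mem_sup_left hx) ((lemmaA R n a J j).2 hj)

end Groth.Agent.Lib.helper29.Stair
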