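import Groth.Prelude.Def_SymTen
import Groth.Prelude.Def_PolLaw2
import Groth.Prelude.Def_W4c5normfunctorschNorm
import Mathlib.LinearAlgebra.PiTensorProduct.Basis
import Mathlib.LinearAlgebra.Matrix.Determinant.Basic
import Mathlib.Tactic

/-!
# Symmetric tensors acting on the top exterior power (helper29 library, part A)

General facts on `SymTen.altSpan` and `SymTen.tpowAct`.
-/

set_option autoImplicit false
universe u

open scoped TensorProduct

namespace Groth.Agent.Lib.helper29.SymTenA

open SymTen PiTensorProduct

section General

variable (R : Type u) [CommRing R] (P : Type u) [AddCommGroup P] [Module R P] (d : ℕ)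

theorem tprod_mem_altSpan (p : Fin d → P) (i j : Fin d) (hij : i ≠ j) (h : p i = p j) :
    tprod R p ∈ altSpan R P d :=
  Submodule.subset_span ⟨p, i, j, hij, h, rfl⟩

/-- `p ⊗ q + q ⊗ p` (at positions `i`, `j`) lies in the alternating span. -/
theorem tprod_swap_add_mem (p : Fin d → P) (i j : Fin d) (hij : i ≠ j) :
    tprod R (p ∘ Equiv.swap i j) + tprod R p ∈ altSpan R P d := by
  classical
  set s := p i + p j with hs
  have h1 : tprod R (Function.update (Function.update p i s) j s) ∈ altSpan R P d := by
    apply tprod_mem_altSpan R P d _ i j hij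
    simp [Function.update_of_ne hij]
  have h2 : tprod R (Function.update (Function.update p i (p i)) j (p i)) ∈ altSpan R P d := by
    apply tprod_mem_altSpan R P d _ i j hij
    simp [Function.update_of_ne hij]
  have h3 : tprod R (Function.update (Function.update p i (p j)) j (p j)) ∈ altSpan R P d := by
    apply tprod_mem_altSpan R P d _ i j hij
    simp [Function.update_of_ne hij]
  have e1 : Function.update (Function.update p i (p i)) j (p j) = p := by
    simp
  have e2 : Function.update (Function.update p i (p j)) j (p i) = p ∘ Equiv.swap i j := by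
    funext k
    by_cases hk : k = j
    · subst hk; simp
    · by_cases hk' : k = i
      · subst hk'; simp [Function.update_of_ne hij]
      · simp [Function.update_of_ne hk, Function.update_of_ne hk', Equiv.swap_apply_of_ne_of_ne hk' hk]
  have key : tprod R (Function.update (Function.update p i s) j s) =
      tprod R (Function.update (Function.update p i (p i)) j (p i)) + tprod R p +
      (tprod R (p ∘ Equiv.swap i j) + tprod R (Function.update (Function.update p i (p j)) j (p j))) := by
    have c : ∀ v w : P, Function.update (Function.update p i v) j w =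
        Function.update (Function.update p j w) i v := fun v w =>
      Function.update_comm hij v w p
    rw [hs, MultilinearMap.map_update_add, c, c, MultilinearMap.map_update_add,
      MultilinearMap.map_update_add, ← c, ← c, ← c, ← c, e1, e2]
    abel
  have : tprod R (p ∘ Equiv.swap i j) + tprod R p =
      tprod R (Function.update (Function.update p i s) j s) -
      tprod R (Function.update (Function.update p i (p i)) j (p i)) -
      tprod R (Function.update (Function.update p i (p j)) j (p j)) := by
    rw [key]; abel
  rw [this]
  exact Submodule.sub_mem _ (Submodule.sub_mem _ h1 h2) h3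

/-- `w + τ w` lies in the alternating span for a transposition `τ`. -/
theorem add_reindex_swap_mem (i j : Fin d) (hij : i ≠ j) (w : ⨂[R] _ : Fin d, P) :
    w + reindex R (fun _ : Fin d => P) (Equiv.swap i j) w ∈ altSpan R P d := by
  induction w using PiTensorProduct.induction_on with
  | smul_tprod r p =>
    rw [map_smul, ← smul_add, reindex_tprod]
    apply Submodule.smul_mem
    rw [add_comm]
    exact tprod_swap_add_mem R P d p i j hij
  | add x y hx hy =>
    rw [map_add]
    have : x + y + (reindex R (fun _ : Fin d => P) (Equiv.swap i j) x +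
        reindex R (fun _ : Fin d => P) (Equiv.swap i j) y) =
        (x + reindex R (fun _ : Fin d => P) (Equiv.swap i j) x) +
        (y + reindex R (fun _ : Fin d => P) (Equiv.swap i j) y) := by abel
    rw [this]
    exact Submodule.add_mem _ hx hy

/-- Permuting the factors of a pure tensor changes it by the sign, modulo the alternating span. -/
theorem tprod_perm_sub_sign_mem (σ : Equiv.Perm (Fin d)) :
    ∀ p : Fin d → P, tprod R (p ∘ σ) - ((Equiv.Perm.sign σ : ℤˣ) : ℤ) • tprod R p ∈ altSpan R P d := by
  induction σ using Equiv.Perm.swap_induction_on with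
  | one => intro p; simp
  | swap_mul f x y hxy ih =>
    intro p
    have h1 := ih (p ∘ Equiv.swap x y)
    have h2 := tprod_swap_add_mem R P d p x y hxy
    have e : p ∘ ⇑(Equiv.swap x y * f) = (p ∘ Equiv.swap x y) ∘ f := by
      funext k; simp
    rw [e, Equiv.Perm.sign_mul, Equiv.Perm.sign_swap hxy]
    have : tprod R ((p ∘ Equiv.swap x y) ∘ f) - ((-1 * Equiv.Perm.sign f : ℤˣ) : ℤ) • tprod R p =
        (tprod R ((p ∘ Equiv.swap x y) ∘ f) - ((Equiv.Perm.sign f : ℤˣ) : ℤ) • tprod R (p ∘ Equiv.swap x y))
        + ((Equiv.Perm.sign f : ℤˣ) : ℤ) • (tprod R (p ∘ Equiv.swap x y) + tprod R p) := by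
      simp only [Units.val_mul, Units.val_neg, Units.val_one]
      module
    rw [this]
    exact Submodule.add_mem _ h1 (Submodule.smul_of_tower_mem _ _ h2)

end General

section Free

variable (R : Type u) [CommRing R] (P : Type u) [AddCommGroup P] [Module R P] (d : ℕ)
  {n : ℕ} (bP : Module.Basis (Fin n) R P)

/-- The basis of pure tensors of basis vectors. -/
noncomputable abbrev bT : Module.Basis (Fin d → Fin n) R (⨂[R] _ : Fin d, P) :=
  Basis.piTensorProduct (fun _ : Fin d => bP)

theorem bT_apply (f : Fin d → Fin n) : bT R P d bP f = tprod R (fun i => bP (f i)) :=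
  Basis.piTensorProduct_apply _ f

theorem reindex_bT (σ : Equiv.Perm (Fin d)) (f : Fin d → Fin n) :
    reindex R (fun _ : Fin d => P) σ (bT R P d bP f) = bT R P d bP (f ∘ σ.symm) := by
  rw [bT_apply, bT_apply, reindex_tprod]
  rfl

include bP in
/-- A tensor fixed by the transposition `(i j)` lies in the alternating span (free case). -/
theorem mem_altSpan_of_swap_fixed_free (i j : Fin d) (hij : i ≠ j) (y : ⨂[R] _ : Fin d, P)
    (hy : reindex R (fun _ : Fin d => P) (Equiv.swap i j) y = y) : y ∈ altSpan R P d := by
  classical
  let b := bT R P d bP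
  let πe : (⨂[R] _ : Fin d, P) →ₗ[R] (⨂[R] _ : Fin d, P) :=
    b.constr R (fun f => if f i = f j then b f else 0)
  let πl : (⨂[R] _ : Fin d, P) →ₗ[R] (⨂[R] _ : Fin d, P) :=
    b.constr R (fun f => if f i < f j then b f else 0)
  let πg : (⨂[R] _ : Fin d, P) →ₗ[R] (⨂[R] _ : Fin d, P) :=
    b.constr R (fun f => if f j < f i then b f else 0)
  let τ := (reindex R (fun _ : Fin d => P) (Equiv.swap i j)).toLinearMap
  have hsum : πe + πl + πg = LinearMap.id := by
    apply b.ext
    intro f
    simp only [LinearMap.add_apply, πe, πl, πg, Module.Basis.constr_basis, LinearMap.id_apply]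
    rcases lt_trichotomy (f i) (f j) with h | h | h
    · simp [h, h.ne, h.not_gt]
    · simp [h]
    · simp [h, h.ne', h.not_gt]
  have hcomm : τ ∘ₗ πl = πg ∘ₗ τ := by
    apply b.ext
    intro f
    simp only [LinearMap.comp_apply, πl, πg, Module.Basis.constr_basis, τ, LinearEquiv.coe_coe]
    rw [show reindex R (fun _ : Fin d => P) (Equiv.swap i j) (b f) = b (f ∘ (Equiv.swap i j).symm) from
      reindex_bT R P d bP _ f, Module.Basis.constr_basis]
    simp only [Function.comp_apply, Equiv.symm_swap, Equiv.swap_apply_left, Equiv.swap_apply_right]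
    by_cases h : f i < f j
    · rw [if_pos h, if_pos h]
      exact reindex_bT R P d bP _ f
    · rw [if_neg h, if_neg h, map_zero]
  have hπe : ∀ z, πe z ∈ altSpan R P d := by
    intro z
    have : (altSpan R P d).mkQ ∘ₗ πe = 0 := by
      apply b.ext
      intro f
      simp only [LinearMap.comp_apply, πe, Module.Basis.constr_basis, LinearMap.zero_apply]
      by_cases h : f i = f j
      · rw [if_pos h, Submodule.mkQ_apply, Submodule.Quotient.mk_eq_zero]
        show bT R P d bP f ∈ _
        rw [bT_apply]
        exact tprod_mem_altSpan R P d _ i j hij (by rw [h])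
      · rw [if_neg h, map_zero]
    have h2 := LinearMap.congr_fun this z
    simpa [Submodule.Quotient.mk_eq_zero] using h2
  have h1 : y = πe y + (πl y + τ (πl y)) := by
    have := LinearMap.congr_fun hsum y
    have h3 := LinearMap.congr_fun hcomm y
    simp only [LinearMap.comp_apply] at h3
    have hy' : τ y = y := hy
    rw [hy'] at h3
    simp only [LinearMap.add_apply, LinearMap.id_apply] at this
    rw [h3, ← add_assoc]
    exact this.symm
  rw [h1]
  exact Submodule.add_mem _ (hπe y) (add_reindex_swap_mem R P d i j hij (πl y))

end Free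

section Act

variable (R : Type u) [CommRing R] (A : Type u) [CommRing A] [Algebra R A]
  (P : Type u) [AddCommGroup P] [Module R P] [Module A P] [IsScalarTower R A P] (d : ℕ)

theorem tpowAct_tprod (a : Fin d → A) :
    tpowAct R A P d (tprod R a) =
      PiTensorProduct.map (fun i => (Algebra.lsmul R R P (a i) : P →ₗ[R] P)) := by
  rw [tpowAct, lift.tprod]
  rfl

theorem tpowAct_tprod_tprod (a : Fin d → A) (x : Fin d → P) :
    tpowAct R A P d (tprod R a) (tprod R x) = tprod R (fun i => a i • x i) := by
  rw [tpowAct_tprod, map_tprod]
  rfl

/-- The factorwise action is equivariant for permutations of the factors. -/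
theorem reindex_tpowAct (σ : Equiv.Perm (Fin d)) (a : ⨂[R] _ : Fin d, A) (x : ⨂[R] _ : Fin d, P) :
    reindex R (fun _ : Fin d => P) σ (tpowAct R A P d a x) =
      tpowAct R A P d (reindex R (fun _ : Fin d => A) σ a) (reindex R (fun _ : Fin d => P) σ x) := by
  induction a using PiTensorProduct.induction_on with
  | smul_tprod r a =>
    induction x using PiTensorProduct.induction_on with
    | smul_tprod s x =>
      simp only [map_smul, LinearMap.smul_apply, reindex_tprod, tpowAct_tprod_tprod]
    | add x y hx hy => simp only [map_add, hx, hy]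
  | add a b ha hb => simp only [map_add, LinearMap.add_apply, ha, hb]

theorem tpowAct_mul (a b : ⨂[R] _ : Fin d, A) (x : ⨂[R] _ : Fin d, P) :
    tpowAct R A P d (a * b) x = tpowAct R A P d a (tpowAct R A P d b x) := by
  induction a using PiTensorProduct.induction_on with
  | smul_tprod r a =>
    induction b using PiTensorProduct.induction_on with
    | smul_tprod s b =>
      induction x using PiTensorProduct.induction_on with
      | smul_tprod t x =>
        simp only [smul_mul_smul_comm, map_smul, LinearMap.smul_apply, tprod_mul_tprod,
          tpowAct_tprod_tprod, mul_smul, Pi.mul_apply]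
        rw [smul_comm r s]
      | add x y hx hy => simp only [map_add, hx, hy]
    | add b c hb hc => simp only [mul_add, map_add, LinearMap.add_apply, hb, hc]
  | add a c ha hc => simp only [add_mul, map_add, LinearMap.add_apply, ha, hc]

theorem tpowAct_one (x : ⨂[R] _ : Fin d, P) : tpowAct R A P d 1 x = x := by
  induction x using PiTensorProduct.induction_on with
  | smul_tprod t x =>
    rw [PiTensorProduct.one_def, map_smul, tpowAct_tprod_tprod]
    simp
  | add x y hx hy => simp only [map_add, hx, hy]

end Act

section Proj

variable (R : Type u) [CommRing R] (P : Type u) [AddCommGroup P] [Module R P] (d : ℕ)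

theorem map_mem_altSpan {Q : Type u} [AddCommGroup Q] [Module R Q] (f : Q →ₗ[R] P)
    (x : ⨂[R] _ : Fin d, Q) (hx : x ∈ altSpan R Q d) :
    PiTensorProduct.map (fun _ : Fin d => f) x ∈ altSpan R P d := by
  induction hx using Submodule.span_induction with
  | mem x hx =>
    obtain ⟨p, i, j, hij, hp, rfl⟩ := hx
    rw [map_tprod]
    exact tprod_mem_altSpan R P d _ i j hij (by rw [hp])
  | zero => rw [map_zero]; exact Submodule.zero_mem _
  | add x y _ _ hx hy => rw [map_add]; exact Submodule.add_mem _ hx hy
  | smul r x _ hx => rw [map_smul]; exact Submodule.smul_mem _ _ hx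

/-- A tensor fixed by the transposition `(i j)` lies in the alternating span (finite projective case). -/
theorem mem_altSpan_of_swap_fixed [Module.Finite R P] [Module.Projective R P]
    (i j : Fin d) (hij : i ≠ j) (y : ⨂[R] _ : Fin d, P)
    (hy : reindex R (fun _ : Fin d => P) (Equiv.swap i j) y = y) : y ∈ altSpan R P d := by
  obtain ⟨n, f, g, hf, hfg⟩ := Module.Finite.exists_comp_eq_id_of_projective R P
  have h1 : reindex R (fun _ : Fin d => (Fin n → R)) (Equiv.swap i j)
      (PiTensorProduct.map (fun _ : Fin d => g) y) = PiTensorProduct.map (fun _ : Fin d => g) y := by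
    have := map_reindex (R := R) (fun _ : Fin d => g) (Equiv.swap i j) y
    rw [hy] at this
    exact this.symm
  have h2 := mem_altSpan_of_swap_fixed_free R (Fin n → R) d (Pi.basisFun R (Fin n)) i j hij _ h1
  have h3 := map_mem_altSpan R P d f _ h2
  have h4 : PiTensorProduct.map (fun _ : Fin d => f) (PiTensorProduct.map (fun _ : Fin d => g) y) = y := by
    rw [← LinearMap.comp_apply, ← PiTensorProduct.map_comp]
    simp only [hfg]
    rw [PiTensorProduct.map_id]
    rfl
  rwa [h4] at h3

variable (A : Type u) [CommRing A] [Algebra R A] [Module A P] [IsScalarTower R A P]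

/-- Symmetric tensors preserve the alternating span (the statement of S17910). -/
theorem tpowAct_mem_altSpan [Module.Finite R P] [Module.Projective R P]
    (a : ⨂[R] _ : Fin d, A) (ha : a ∈ SymTen.TS R A d)
    (x : ⨂[R] _ : Fin d, P) (hx : x ∈ SymTen.altSpan R P d) :
    SymTen.tpowAct R A P d a x ∈ SymTen.altSpan R P d := by
  induction hx using Submodule.span_induction with
  | mem x hx =>
    obtain ⟨p, i, j, hij, hp, rfl⟩ := hx
    apply mem_altSpan_of_swap_fixed R P d i j hij
    rw [reindex_tpowAct, ha (Equiv.swap i j), reindex_tprod]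
    congr 2
    funext k
    simp only [Equiv.symm_swap]
    by_cases hk : k = i
    · subst hk; rw [Equiv.swap_apply_left, hp]
    · by_cases hk' : k = j
      · subst hk'; rw [Equiv.swap_apply_right, hp]
      · rw [Equiv.swap_apply_of_ne_of_ne hk hk']
  | zero => rw [map_zero]; exact Submodule.zero_mem _
  | add x y _ _ hx hy => rw [map_add]; exact Submodule.add_mem _ hx hy
  | smul r x _ hx => rw [map_smul]; exact Submodule.smul_mem _ _ hx

end Proj

end Groth.Agent.Lib.helper29.SymTenA
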