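import Groth.Agent.Lib.helper29.SymTenA
import Mathlib.RingTheory.Norm.Defs
import Mathlib.LinearAlgebra.Determinant

/-!
# Symmetric tensors acting on the top exterior power (helper29 library, part B)

For an `R`-algebra `B` with a basis `b` indexed by `Fin d`: the determinant functional `D` on the `d`-fold
tensor power, the fact that the tensor power modulo the alternating span is free of rank one, and the
algebra map `chiAlg : TS^d_R(B) → R` through which symmetric tensors act on the top exterior power.
-/

set_option autoImplicit false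
universe u

open scoped TensorProduct

namespace Groth.Agent.Lib.helper29.SymTenB

open SymTen PiTensorProduct Groth.Agent.Lib.helper29.SymTenA

variable {R : Type u} [CommRing R] {B : Type u} [CommRing B] [Algebra R B] {d : ℕ}
  (b : Module.Basis (Fin d) R B)

/-- The determinant of the coordinates, as a multilinear map. -/
noncomputable def Dm : MultilinearMap R (fun _ : Fin d => B) R :=
  ((Matrix.detRowAlternating : (Fin d → R) [⋀^Fin d]→ₗ[R] R).compLinearMap
    b.equivFun.toLinearMap).toMultilinearMap

theorem Dm_apply (x : Fin d → B) : Dm b x = Matrix.det (Matrix.of fun i => b.equivFun (x i)) := rfl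

/-- The determinant functional on the tensor power. -/
noncomputable def D : (⨂[R] _ : Fin d, B) →ₗ[R] R := lift (Dm b)

theorem D_tprod (x : Fin d → B) :
    D b (tprod R x) = Matrix.det (Matrix.of fun i => b.equivFun (x i)) := by
  rw [D, lift.tprod, Dm_apply]

theorem D_altSpan (x : ⨂[R] _ : Fin d, B) (hx : x ∈ altSpan R B d) : D b x = 0 := by
  induction hx using Submodule.span_induction with
  | mem x hx =>
    obtain ⟨p, i, j, hij, hp, rfl⟩ := hx
    rw [D_tprod]
    exact Matrix.det_zero_of_row_eq hij (by funext k; simp [hp])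
  | zero => exact map_zero _
  | add x y _ _ hx hy => rw [map_add, hx, hy, add_zero]
  | smul r x _ hx => rw [map_smul, hx, smul_zero]

/-- The generator `b₀ ⊗ ⋯ ⊗ b_{d-1}`. -/
noncomputable def e0 : ⨂[R] _ : Fin d, B := tprod R (fun i => b i)

theorem D_e0 : D b (e0 b) = 1 := by
  rw [e0, D_tprod]
  convert Matrix.det_one (n := Fin d) (R := R)
  ext i j
  simp [Matrix.one_apply, Finsupp.single_apply]

/-- The tensor power modulo the alternating span is generated by `e0`, with coordinate `D`. -/
theorem sub_D_smul_mem (x : ⨂[R] _ : Fin d, B) : x - D b x • e0 b ∈ altSpan R B d := by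
  classical
  have key : (altSpan R B d).mkQ ∘ₗ (LinearMap.id - (LinearMap.toSpanSingleton R _ (e0 b)) ∘ₗ D b) = 0 := by
    apply (bT R B d b).ext
    intro f
    simp only [LinearMap.comp_apply, LinearMap.sub_apply, LinearMap.id_apply,
      LinearMap.toSpanSingleton_apply, LinearMap.zero_apply, Submodule.mkQ_apply,
      Submodule.Quotient.mk_eq_zero]
    rw [bT_apply]
    by_cases hf : Function.Injective f
    · have hbij : Function.Bijective f := Finite.injective_iff_bijective.mp hf
      let σ : Equiv.Perm (Fin d) := Equiv.ofBijective f hbij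
      have h1 := tprod_perm_sub_sign_mem R B d σ (fun i => b i)
      have e1 : (fun i => b (f i)) = (fun i => b i) ∘ σ := by
        funext i; rfl
      have h2 := D_altSpan b _ h1
      rw [map_sub, map_zsmul, sub_eq_zero] at h2
      rw [e1, h2]
      change _ - _ • e0 b ∈ _
      have : D b (e0 b) = 1 := D_e0 b
      change D b (e0 b) = 1 at this
      rw [show D b (tprod R fun i => b i) = 1 from this]
      rw [smul_assoc, one_smul]
      exact h1
    · have : ∃ i j, i ≠ j ∧ f i = f j := by
        by_contra hcon
        push Not at hcon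
        exact hf (fun i j hij => by_contra fun hne => hcon i j hne hij)
      obtain ⟨i, j, hij, hfij⟩ := this
      have hmem : tprod R (fun i => b (f i)) ∈ altSpan R B d :=
        tprod_mem_altSpan R B d _ i j hij (by rw [hfij])
      rw [D_altSpan b _ hmem, zero_smul, sub_zero]
      exact hmem
  have := LinearMap.congr_fun key x
  simp only [LinearMap.comp_apply, LinearMap.sub_apply, LinearMap.id_apply,
      LinearMap.toSpanSingleton_apply, LinearMap.zero_apply, Submodule.mkQ_apply,
      Submodule.Quotient.mk_eq_zero] at this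
  exact this

/-- The linear functional `t ↦ D (t · e0)`; on symmetric tensors it is the character by which they act on
the top exterior power. -/
noncomputable def chiLin : (⨂[R] _ : Fin d, B) →ₗ[R] R :=
  (D b) ∘ₗ (LinearMap.applyₗ (e0 b)) ∘ₗ (tpowAct R B B d)

theorem chiLin_apply (t : ⨂[R] _ : Fin d, B) : chiLin b t = D b (tpowAct R B B d t (e0 b)) := rfl

theorem tpowAct_sub_chiLin_smul_mem (t : ⨂[R] _ : Fin d, B) (ht : t ∈ TS R B d)
    (x : ⨂[R] _ : Fin d, B) : tpowAct R B B d t x - chiLin b t • x ∈ altSpan R B d := by
  haveI : Module.Finite R B := Module.Finite.of_basis b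
  haveI : Module.Free R B := Module.Free.of_basis b
  have h1 := sub_D_smul_mem b x
  have h2 := sub_D_smul_mem b (tpowAct R B B d t (e0 b))
  have h3 := tpowAct_mem_altSpan R B d B t ht _ h1
  rw [map_sub, map_smul] at h3
  rw [← chiLin_apply] at h2
  have : tpowAct R B B d t x - chiLin b t • x =
      (tpowAct R B B d t x - D b x • tpowAct R B B d t (e0 b)) +
      D b x • (tpowAct R B B d t (e0 b) - chiLin b t • e0 b) -
      chiLin b t • (x - D b x • e0 b) := by
    rw [smul_sub, smul_sub, smul_comm (D b x) (chiLin b t)]
    abel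
  rw [this]
  exact Submodule.sub_mem _ (Submodule.add_mem _ h3 (Submodule.smul_mem _ _ h2))
    (Submodule.smul_mem _ _ h1)

theorem chiLin_one : chiLin b (1 : ⨂[R] _ : Fin d, B) = 1 := by
  rw [chiLin_apply, tpowAct_one, D_e0]

theorem chiLin_mul (t t' : ⨂[R] _ : Fin d, B) (ht : t ∈ TS R B d) :
    chiLin b (t * t') = chiLin b t * chiLin b t' := by
  have h1 := tpowAct_sub_chiLin_smul_mem b t ht (tpowAct R B B d t' (e0 b))
  have h2 := D_altSpan b _ h1
  rw [map_sub, map_smul, sub_eq_zero, ← tpowAct_mul, smul_eq_mul] at h2
  rw [chiLin_apply, h2, ← chiLin_apply]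

/-- The character of the symmetric tensors on the top exterior power, as an algebra map. -/
noncomputable def chiAlg : TS R B d →ₐ[R] R :=
  AlgHom.ofLinearMap ((chiLin b) ∘ₗ (TS R B d).val.toLinearMap) (chiLin_one b)
    (fun x y => chiLin_mul b x.1 y.1 x.2)

theorem chiAlg_apply (t : TS R B d) : chiAlg b t = chiLin b t.1 := rfl

theorem chiLin_tprod (a : Fin d → B) :
    chiLin b (tprod R a) = Matrix.det (Matrix.of fun i => b.equivFun (a i * b i)) := by
  rw [chiLin_apply, e0, tpowAct_tprod_tprod, D_tprod]
  rfl

theorem chiAlg_tpow (r : B) : chiAlg b (tpow R B d r) = Algebra.norm R r := by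
  classical
  rw [chiAlg_apply]
  change chiLin b (tprod R (fun _ : Fin d => r)) = _
  rw [chiLin_tprod, Algebra.norm_eq_matrix_det b, ← Matrix.det_transpose]
  congr 1
  ext i j
  simp [Algebra.leftMulMatrix_eq_repr_mul]

end Groth.Agent.Lib.helper29.SymTenB
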