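import Groth.Agent.Lib.helper29.SymTenB
import Mathlib.Data.Nat.Choose.Sum

/-!
# Polarization: symmetric tensors are spanned by the `x ⊗ ⋯ ⊗ x` when `d!` is invertible (helper29, part C)
-/

set_option autoImplicit false
universe u

open scoped TensorProduct

namespace Groth.Agent.Lib.helper29.SymTenC

open SymTen PiTensorProduct

section Polarization

variable {R : Type*} [CommRing R] {ι : Type*} [Fintype ι] [DecidableEq ι]
  {M N : Type*} [AddCommGroup M] [Module R M] [AddCommGroup N] [Module R N]

/-- The polarization identity for a multilinear map. -/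
theorem polarization (F : MultilinearMap R (fun _ : ι => M) N) (x : ι → M) :
    ∑ σ : Equiv.Perm ι, F (x ∘ σ) =
      ∑ U : Finset ι, ((-1 : ℤ) ^ U.card) • F (fun _ => ∑ i ∈ Uᶜ, x i) := by
  have h1 : ∀ U : Finset ι, F (fun _ => ∑ i ∈ Uᶜ, x i) =
      ∑ g : ι → ι, if (∀ i, g i ∉ U) then F (x ∘ g) else 0 := by
    intro U
    rw [F.map_sum_finset (fun _ j => x j) (fun _ => Uᶜ), ← Finset.sum_filter]
    apply Finset.sum_congr
    · ext g
      simp [Fintype.mem_piFinset]
    · intro g _; rfl
  simp_rw [h1, Finset.smul_sum]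
  rw [Finset.sum_comm]
  have h2 : ∀ g : ι → ι, ∑ U : Finset ι, ((-1 : ℤ) ^ U.card) • (if (∀ i, g i ∉ U) then F (x ∘ g) else 0) =
      if Function.Surjective g then F (x ∘ g) else 0 := by
    intro g
    have : ∀ U : Finset ι, ((-1 : ℤ) ^ U.card) • (if (∀ i, g i ∉ U) then F (x ∘ g) else 0) =
        if U ∈ ((Finset.univ.image g)ᶜ).powerset then ((-1 : ℤ) ^ U.card) • F (x ∘ g) else 0 := by
      intro U
      have : (∀ i, g i ∉ U) ↔ U ∈ ((Finset.univ.image g)ᶜ).powerset := by
        rw [Finset.mem_powerset]
        constructor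
        · intro h a ha
          simp only [Finset.mem_compl, Finset.mem_image, Finset.mem_univ, true_and, not_exists]
          intro i hi
          exact h i (hi ▸ ha)
        · intro h i hi
          have := h hi
          simp at this
      by_cases hU : ∀ i, g i ∉ U
      · rw [if_pos hU, if_pos (this.mp hU)]
      · rw [if_neg hU, if_neg (fun h => hU (this.mpr h)), smul_zero]
    simp_rw [this]
    rw [← Finset.sum_filter, Finset.filter_mem_eq_inter, Finset.univ_inter, ← Finset.sum_smul,
      Finset.sum_powerset_neg_one_pow_card]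
    by_cases hg : Function.Surjective g
    · have : (Finset.univ.image g)ᶜ = ∅ := by
        rw [Finset.compl_eq_empty_iff]
        exact Finset.image_univ_of_surjective hg
      rw [if_pos this, if_pos hg, one_smul]
    · have : (Finset.univ.image g)ᶜ ≠ ∅ := by
        rw [Ne, Finset.compl_eq_empty_iff]
        intro h
        apply hg
        intro a
        have : a ∈ Finset.univ.image g := by rw [h]; exact Finset.mem_univ a
        obtain ⟨i, _, hi⟩ := Finset.mem_image.mp this
        exact ⟨i, hi⟩
      rw [if_neg this, if_neg hg, zero_smul]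
  simp_rw [h2]
  rw [← Finset.sum_filter]
  symm
  refine Finset.sum_bij' (fun (g : ι → ι) hg => Equiv.ofBijective g
      (Finite.surjective_iff_bijective.mp (Finset.mem_filter.mp hg).2))
    (fun (σ : Equiv.Perm ι) _ => (σ : ι → ι)) ?_ ?_ ?_ ?_ ?_
  · intro g hg; exact Finset.mem_univ _
  · intro σ _; exact Finset.mem_filter.mpr ⟨Finset.mem_univ _, σ.surjective⟩
  · intro g hg; rfl
  · intro σ _; exact Equiv.ext (fun _ => rfl)
  · intro g hg; rfl

end Polarization

section Span

variable (R : Type u) [CommRing R] (B : Type u) [CommRing B] [Algebra R B] (d : ℕ)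

/-- Sum over all permutations of the factors. -/
noncomputable def symSum : (⨂[R] _ : Fin d, B) →ₗ[R] (⨂[R] _ : Fin d, B) :=
  ∑ σ : Equiv.Perm (Fin d), (reindex R (fun _ : Fin d => B) σ).toLinearMap

theorem symSum_of_mem_TS (t : ⨂[R] _ : Fin d, B) (ht : t ∈ TS R B d) :
    symSum R B d t = (Nat.factorial d) • t := by
  rw [symSum, LinearMap.sum_apply]
  simp only [LinearEquiv.coe_coe]
  rw [Finset.sum_congr rfl (fun σ _ => ht σ), Finset.sum_const, Finset.card_univ,
    Fintype.card_perm, Fintype.card_fin]

theorem symSum_mem_span (t : ⨂[R] _ : Fin d, B) :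
    symSum R B d t ∈ Submodule.span R (Set.range (fun r : B => tprod R (fun _ : Fin d => r))) := by
  classical
  induction t using PiTensorProduct.induction_on with
  | smul_tprod r x =>
    rw [map_smul]
    apply Submodule.smul_mem
    rw [symSum, LinearMap.sum_apply]
    simp only [LinearEquiv.coe_coe, reindex_tprod]
    have : ∑ σ : Equiv.Perm (Fin d), tprod R (fun i => x (σ.symm i)) =
        ∑ σ : Equiv.Perm (Fin d), tprod R (x ∘ σ) :=
      Fintype.sum_equiv (Equiv.inv _) _ _ (fun σ => rfl)
    rw [this, polarization (tprod R) x]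
    apply Submodule.sum_mem
    intro U _
    apply Submodule.smul_of_tower_mem
    exact Submodule.subset_span ⟨_, rfl⟩
  | add x y hx hy => rw [map_add]; exact Submodule.add_mem _ hx hy

/-- For a symmetric tensor `t`, `d! • t` is a combination of the `x ⊗ ⋯ ⊗ x`. -/
theorem factorial_smul_mem_span (t : TS R B d) :
    (Nat.factorial d) • t ∈ Submodule.span R (Set.range (tpow R B d)) := by
  have h1 := symSum_mem_span R B d t.1
  rw [symSum_of_mem_TS R B d t.1 t.2] at h1
  have h2 : Submodule.span R (Set.range (fun r : B => tprod R (fun _ : Fin d => r))) =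
      (Submodule.span R (Set.range (tpow R B d))).map (TS R B d).val.toLinearMap := by
    rw [Submodule.map_span, ← Set.range_comp]
    rfl
  rw [h2] at h1
  obtain ⟨w, hw, hw'⟩ := h1
  have : w = (Nat.factorial d) • t := by
    apply Subtype.ext
    rw [show (w : ⨂[R] _ : Fin d, B) = (Nat.factorial d) • (t : ⨂[R] _ : Fin d, B) from hw']
    simp
  rwa [← this]

/-- Two linear maps on the symmetric tensors agreeing on the `x ⊗ ⋯ ⊗ x` agree, when `d!` is invertible. -/
theorem linearMap_ext_of_tpow {N : Type*} [AddCommGroup N] [Module R N]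
    (hfact : IsUnit ((Nat.factorial d : ℕ) : R)) (f g : TS R B d →ₗ[R] N)
    (h : ∀ r : B, f (tpow R B d r) = g (tpow R B d r)) : f = g := by
  apply LinearMap.ext
  intro t
  have h1 := factorial_smul_mem_span R B d t
  have h2 : Submodule.span R (Set.range (tpow R B d)) ≤ LinearMap.eqLocus f g := by
    rw [Submodule.span_le]
    rintro _ ⟨r, rfl⟩
    exact h r
  have h3 : f ((Nat.factorial d) • t) = g ((Nat.factorial d) • t) := h2 h1
  rw [map_nsmul, map_nsmul, ← Nat.cast_smul_eq_nsmul R, ← Nat.cast_smul_eq_nsmul R] at h3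
  obtain ⟨u, hu⟩ := hfact
  rw [← hu] at h3
  have := congrArg (fun z => (↑u⁻¹ : R) • z) h3
  simpa [smul_smul] using this

end Span

end Groth.Agent.Lib.helper29.SymTenC
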