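import Groth.Agent.Lib.helper29.SymTenB
import Mathlib.LinearAlgebra.Multilinear.Basis
import Mathlib.RingTheory.PolynomialLaw.Basic

/-!
# The character of symmetric tensors on the top exterior power and the norm law (helper29, part D)
-/

set_option autoImplicit false
universe u

open scoped TensorProduct

namespace Groth.Agent.Lib.helper29.SymTenD

open SymTen PiTensorProduct Groth.Agent.Lib.helper29.SymTenA Groth.Agent.Lib.helper29.SymTenB

section RingTest

variable {R : Type u} [CommRing R] {B : Type u} [CommRing B] [Algebra R B] {d : ℕ}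
  (b : Module.Basis (Fin d) R B) (S : Type u) [CommRing S] [Algebra R S]

/-- First multilinear map: `(z_j) ↦ (S ⊗ chiLin) (∏_j (S ⊗ single_j) z_j)`. -/
noncomputable def G1 : MultilinearMap S (fun _ : Fin d => S ⊗[R] B) (S ⊗[R] R) :=
  ((chiLin b).baseChange S).compMultilinearMap
    ((MultilinearMap.mkPiAlgebra S (Fin d) (S ⊗[R] (⨂[R] _ : Fin d, B))).compLinearMap
      (fun j => (Algebra.TensorProduct.map (AlgHom.id S S)
        (PiTensorProduct.singleAlgHom (R := R) (A := fun _ : Fin d => B) j)).toLinearMap))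

theorem G1_apply (z : Fin d → S ⊗[R] B) :
    G1 b S z = (chiLin b).baseChange S (∏ j, Algebra.TensorProduct.map (AlgHom.id S S)
        (PiTensorProduct.singleAlgHom (R := R) (A := fun _ : Fin d => B) j) (z j)) := rfl

/-- Second multilinear map: `(z_j) ↦ det (coordinates of z_j * (1 ⊗ b_j)) ⊗ 1`. -/
noncomputable def G2 : MultilinearMap S (fun _ : Fin d => S ⊗[R] B) (S ⊗[R] R) :=
  ((Algebra.TensorProduct.rid R S S).symm.toLinearMap).compMultilinearMap
    ((Matrix.detRowAlternating (R := S) (n := Fin d)).toMultilinearMap.compLinearMap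
      (fun j => (Algebra.TensorProduct.basis S b).equivFun.toLinearMap ∘ₗ
        LinearMap.mulRight S ((Algebra.TensorProduct.basis S b) j)))

theorem G2_apply (z : Fin d → S ⊗[R] B) :
    G2 b S z = (Matrix.det (Matrix.of fun j => (Algebra.TensorProduct.basis S b).equivFun
      (z j * (Algebra.TensorProduct.basis S b) j))) ⊗ₜ[R] (1 : R) := rfl

theorem prod_single_tprod (x : Fin d → B) :
    ∏ j, PiTensorProduct.singleAlgHom (R := R) (A := fun _ : Fin d => B) j (x j) = tprod R x := by
  classical
  simp only [PiTensorProduct.singleAlgHom_apply, MonoidHom.mulSingle_apply]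
  rw [← PiTensorProduct.tprod_prod]
  exact congrArg _ (Finset.univ_prod_mulSingle x)

theorem G1_eq_G2 : G1 b S = G2 b S := by
  classical
  apply Module.Basis.ext_multilinear (fun _ => Algebra.TensorProduct.basis S b)
  intro v
  rw [G1_apply, G2_apply]
  simp only [Algebra.TensorProduct.basis_apply, Algebra.TensorProduct.map_tmul, AlgHom.id_apply]
  have h1 : ∏ j, ((1 : S) ⊗ₜ[R] PiTensorProduct.singleAlgHom (R := R) (A := fun _ : Fin d => B) j (b (v j)))
      = (1 : S) ⊗ₜ[R] tprod R (fun j => b (v j)) := by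
    rw [← prod_single_tprod]
    have : ∀ (s : Finset (Fin d)), ∏ j ∈ s, ((1 : S) ⊗ₜ[R]
        PiTensorProduct.singleAlgHom (R := R) (A := fun _ : Fin d => B) j (b (v j))) =
        (1 : S) ⊗ₜ[R] ∏ j ∈ s, PiTensorProduct.singleAlgHom (R := R) (A := fun _ : Fin d => B) j (b (v j)) := by
      intro s
      induction s using Finset.induction_on with
      | empty => simp [Algebra.TensorProduct.one_def]
      | insert j s hj ih =>
        rw [Finset.prod_insert hj, Finset.prod_insert hj, ih, Algebra.TensorProduct.tmul_mul_tmul, mul_one]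
    exact this Finset.univ
  rw [h1, LinearMap.baseChange_tmul, chiLin_tprod]
  have h2 : (Matrix.of fun j => (Algebra.TensorProduct.basis S b).equivFun
      (((1 : S) ⊗ₜ[R] b (v j)) * ((1 : S) ⊗ₜ[R] b j))) =
      (algebraMap R S).mapMatrix (Matrix.of fun i => b.equivFun (b (v i) * b i)) := by
    ext i j
    simp [Algebra.TensorProduct.tmul_mul_tmul, Algebra.TensorProduct.basis_repr_tmul]
  rw [h2, ← RingHom.map_det, Algebra.algebraMap_eq_smul_one, TensorProduct.smul_tmul, smul_eq_mul, mul_one]

/-- The key computation: over a ring test algebra, `S ⊗ chiLin` of the `d`-fold tensor power of `z`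
is the norm of `z`. -/
theorem chiLin_lTensor_tpowLaw (z : S ⊗[R] B) :
    (chiLin b).lTensor S ((tpowLaw R B d).law.toFun' S z) = (Algebra.norm S z) ⊗ₜ[R] (1 : R) := by
  classical
  have h1 : (chiLin b).lTensor S ((tpowLaw R B d).law.toFun' S z) = G1 b S (fun _ => z) := by
    rw [G1_apply]
    rfl
  rw [h1, G1_eq_G2, G2_apply, Algebra.norm_eq_matrix_det (Algebra.TensorProduct.basis S b),
    ← Matrix.det_transpose]
  congr 2
  ext i j
  simp [Algebra.leftMulMatrix_eq_repr_mul]

end RingTest

section LawExt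

variable {R : Type u} [CommRing R] {M N : Type u} [AddCommGroup M] [Module R M]
  [AddCommGroup N] [Module R N]

/-- Two polynomial laws agreeing over all test algebras that are rings are equal. -/
theorem law_ext_of_ring (F G : M →ₚₗ[R] N)
    (h : ∀ (S : Type u) [CommRing S] [Algebra R S] (z : S ⊗[R] M), F.toFun' S z = G.toFun' S z) :
    F = G := by
  apply PolynomialLaw.ext
  funext S _ _ z
  obtain ⟨n, ψ, p, rfl⟩ := PolynomialLaw.exists_lift (R := R) (M := M) z
  rw [← PolynomialLaw.isCompat_apply' (f := F), ← PolynomialLaw.isCompat_apply' (f := G),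
    h (MvPolynomial (Fin n) R) p]

end LawExt

section Laws

variable (R : Type u) [CommRing R] (B : Type u) [CommRing B] [Algebra R B] (d : ℕ)

theorem perm_comp_single (σ : Equiv.Perm (Fin d)) (j : Fin d) :
    (perm R B d σ).comp (PiTensorProduct.singleAlgHom (R := R) (A := fun _ : Fin d => B) j) =
      PiTensorProduct.singleAlgHom (R := R) (A := fun _ : Fin d => B) (σ j) := by
  classical
  apply AlgHom.ext
  intro x
  simp only [AlgHom.comp_apply, PiTensorProduct.singleAlgHom_apply, MonoidHom.mulSingle_apply,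
    perm_tprod]
  congr 1
  funext i
  by_cases h : i = σ j
  · subst h; simp
  · have : σ.symm i ≠ j := fun h' => h (by rw [← h', Equiv.apply_symm_apply])
    rw [Pi.mulSingle_eq_of_ne this, Pi.mulSingle_eq_of_ne h]

theorem postcomp_perm_tpowLaw (σ : Equiv.Perm (Fin d)) :
    PolLaw.postcomp (perm R B d σ).toLinearMap (tpowLaw R B d).law = (tpowLaw R B d).law := by
  apply PolynomialLaw.ext
  funext S _ _ z
  change (perm R B d σ).toLinearMap.lTensor S ((tpowLaw R B d).law.toFun' S z) = _
  rw [PolLaw.lTensor_algHom_apply]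
  change Algebra.TensorProduct.map (AlgHom.id S S) (perm R B d σ)
    (∏ j, Algebra.TensorProduct.map (AlgHom.id S S)
      (PiTensorProduct.singleAlgHom (R := R) (A := fun _ : Fin d => B) j) z) =
    ∏ j, Algebra.TensorProduct.map (AlgHom.id S S)
      (PiTensorProduct.singleAlgHom (R := R) (A := fun _ : Fin d => B) j) z
  rw [map_prod]
  have : ∀ j, Algebra.TensorProduct.map (AlgHom.id S S) (perm R B d σ)
      (Algebra.TensorProduct.map (AlgHom.id S S)
        (PiTensorProduct.singleAlgHom (R := R) (A := fun _ : Fin d => B) j) z) =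
      Algebra.TensorProduct.map (AlgHom.id S S)
        (PiTensorProduct.singleAlgHom (R := R) (A := fun _ : Fin d => B) (σ j)) z := by
    intro j
    rw [← perm_comp_single]
    induction z using TensorProduct.induction_on with
    | zero => simp
    | tmul s x => simp [Algebra.TensorProduct.map_tmul]
    | add x y hx hy => simp only [map_add, hx, hy]
  simp_rw [this]
  exact Equiv.prod_comp σ (fun j => Algebra.TensorProduct.map (AlgHom.id S S)
      (PiTensorProduct.singleAlgHom (R := R) (A := fun _ : Fin d => B) j) z)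

end Laws

section Main

variable (R : Type u) [CommRing R] (R' : Type u) [CommRing R'] [Algebra R R']
  [Module.Free R R'] [Module.Finite R R'] (d : ℕ) (hd : Module.finrank R R' = d)
  {C : Type u} [CommRing C] [Algebra R C] (γ : PolLaw.MulLaw R R' C d) (hγ : PolLaw.IsGammaD γ)
  (φ : C →ₐ[R] (⨂[R] _ : Fin d, R')) (hφ : PolLaw.MulLaw.postcomp φ γ = SymTen.tpowLaw R R' d)
  (π : C →ₐ[R] R) (hπ : PolLaw.MulLaw.postcomp π γ = PolLaw.normLaw R R' d hd)

include hγ hφ in
theorem phi_mem_TS (c : C) : φ c ∈ TS R R' d := by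
  intro σ
  have hφ' : PolLaw.postcomp φ.toLinearMap γ.law = (tpowLaw R R' d).law :=
    congrArg PolLaw.MulLaw.law hφ
  have h2 : PolLaw.postcomp ((perm R R' d σ).comp φ).toLinearMap γ.law = (tpowLaw R R' d).law := by
    rw [← postcomp_perm_tpowLaw R R' d σ, ← hφ']
    apply PolynomialLaw.ext
    funext S _ _ z
    change ((perm R R' d σ).comp φ).toLinearMap.lTensor S (γ.law.toFun' S z) =
      (perm R R' d σ).toLinearMap.lTensor S (φ.toLinearMap.lTensor S (γ.law.toFun' S z))
    rw [← LinearMap.lTensor_comp_apply]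
    rfl
  have h3 := (hγ _ (tpowLaw R R' d)).unique h2 hφ'
  have h4 := AlgHom.congr_fun h3 c
  rw [AlgHom.comp_apply, perm_apply] at h4
  exact h4

include hγ hφ hπ in
theorem main (c : C) (x : ⨂[R] _ : Fin d, R') :
    SymTen.tpowAct R R' R' d (φ c) x - π c • x ∈ SymTen.altSpan R R' d := by
  rcases subsingleton_or_nontrivial R with hR | hR
  · have : Subsingleton (⨂[R] _ : Fin d, R') := Module.subsingleton R _
    rw [Subsingleton.elim (SymTen.tpowAct R R' R' d (φ c) x - π c • x) 0]
    exact Submodule.zero_mem _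
  let b : Module.Basis (Fin d) R R' := Module.finBasisOfFinrankEq R R' hd
  have hφ' : PolLaw.postcomp φ.toLinearMap γ.law = (tpowLaw R R' d).law :=
    congrArg PolLaw.MulLaw.law hφ
  have hπ' : PolLaw.postcomp π.toLinearMap γ.law = (PolLaw.normLaw R R' d hd).law :=
    congrArg PolLaw.MulLaw.law hπ
  have hTS := phi_mem_TS R R' d γ hγ φ hφ
  let φ' : C →ₐ[R] TS R R' d := φ.codRestrict (TS R R' d) hTS
  let ψ : C →ₐ[R] R := (chiAlg b).comp φ'
  have hψlin : ψ.toLinearMap = (chiLin b) ∘ₗ φ.toLinearMap := by
    apply LinearMap.ext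
    intro c
    rfl
  have hψ : PolLaw.postcomp ψ.toLinearMap γ.law = (PolLaw.normLaw R R' d hd).law := by
    apply law_ext_of_ring
    intro S _ _ z
    change ψ.toLinearMap.lTensor S (γ.law.toFun' S z) = _
    rw [hψlin, LinearMap.lTensor_comp_apply]
    have : φ.toLinearMap.lTensor S (γ.law.toFun' S z) = (tpowLaw R R' d).law.toFun' S z := by
      rw [← hφ']
      rfl
    rw [this, chiLin_lTensor_tpowLaw b S z, PolLaw.normLaw_apply]
  have h3 : ψ = π := (hγ _ (PolLaw.normLaw R R' d hd)).unique hψ hπ'
  have h4 := tpowAct_sub_chiLin_smul_mem b (φ c) (hTS c) x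
  have h5 : chiLin b (φ c) = π c := by
    rw [← h3]
    rfl
  rw [← h5]
  exact h4

end Main

end Groth.Agent.Lib.helper29.SymTenD
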