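import Groth.Prelude.Def_W4c3ghconstell
import Groth.Agent.Lib.helper28.ComodMod
import Groth.Agent.Lib.helper28.LinRed
import Groth.Agent.Lib.helper12.Comod
import Mathlib.LinearAlgebra.TensorProduct.RightExactness

/-!
Isotypic components, weights `theta` and generation `genIn` for equivariant modules (helper29).
-/

set_option autoImplicit false
set_option linter.unusedSectionVars false
set_option linter.unusedVariables false
universe u v w x

open TensorProduct

namespace Groth.Agent.Lib.helper29.Theta

open Groth.Agent.Lib.helper28.ComodMod W4c3ghconstell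

section Iso

variable {k : Type u} [Field k] {A : Type v} [AddCommGroup A] [Module k A] [Coalgebra k A]
variable {M : Type x} [AddCommGroup M] [Module k M] [HopfRep.Comod k A M]

lemma T_lTensor {C C' : Type*} [AddCommGroup C] [Module k C] [AddCommGroup C'] [Module k C']
    (g : C →ₗ[k] C') (φ : C' →ₗ[k] k) (t : M ⊗[k] C) :
    T M φ (g.lTensor M t) = T M (φ ∘ₗ g) t := by
  induction t using TensorProduct.induction_on with
  | zero => simp
  | tmul m c => simp
  | add a b ha hb => simp only [map_add, ha, hb]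

theorem mem_range_lTensor_iff (D : Submodule k A) (t : M ⊗[k] A) :
    t ∈ LinearMap.range (LinearMap.lTensor M D.subtype) ↔
      ∀ φ : A →ₗ[k] k, (∀ d ∈ D, φ d = 0) → T M φ t = 0 := by
  constructor
  · rintro ⟨y, rfl⟩ φ hφ
    rw [T_lTensor]
    induction y using TensorProduct.induction_on with
    | zero => simp
    | tmul m d => simp [hφ d.1 d.2]
    | add a b ha hb => simp only [map_add, ha, hb, add_zero]
  · intro h
    have hex := lTensor_exact M (LinearMap.exact_subtype_mkQ D) (Submodule.mkQ_surjective D)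
    rw [← hex.linearMap_ker_eq, LinearMap.mem_ker]
    apply eq_zero_of_forall_T
    intro ψ
    rw [T_lTensor]
    apply h
    intro d hd
    rw [LinearMap.comp_apply]
    have : D.mkQ d = 0 := (Submodule.Quotient.mk_eq_zero D).mpr hd
    rw [this, map_zero]

theorem mem_isoComp_iff (D : Submodule k A) (m : M) :
    m ∈ isoComp M D ↔ ∀ φ : A →ₗ[k] k, (∀ d ∈ D, φ d = 0) → op φ m = 0 := by
  unfold isoComp
  rw [Submodule.mem_comap, mem_range_lTensor_iff]
  rfl

lemma op_op (φ ψ : A →ₗ[k] k) (m : M) :
    op φ (op ψ m) = op (φ ∘ₗ Groth.Agent.H12Comod.S ψ) m := by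
  have h1 := Groth.Agent.H12Comod.coact_T_coact (k := k) (C := A) ψ m
  have h1' : HopfRep.Comod.coact (k := k) (A := A) (op ψ m) =
      (Groth.Agent.H12Comod.S ψ).lTensor M (HopfRep.Comod.coact (k := k) (A := A) m) := h1
  rw [op_apply, h1', T_lTensor]
  rfl

lemma S_mem (D : Submodule k A) (hD : IsSubcoalg k A D) (ψ : A →ₗ[k] k) (d : A) (hd : d ∈ D) :
    Groth.Agent.H12Comod.S ψ d ∈ D := by
  obtain ⟨y, hy⟩ := hD d hd
  show Groth.Agent.H12Comod.T A ψ (CoalgebraStruct.comul (R := k) d) ∈ D
  rw [← hy]
  clear hy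
  induction y using TensorProduct.induction_on with
  | zero => simp
  | tmul a b =>
    rw [TensorProduct.map_tmul, Groth.Agent.H12Comod.T_tmul]
    exact D.smul_mem _ a.2
  | add a b ha hb => rw [map_add, map_add]; exact D.add_mem ha hb

/-- the isotypic component of a subcoalgebra is a subcomodule -/
theorem isSubcomod_isoComp (D : Submodule k A) (hD : IsSubcoalg k A D) :
    HopfRep.IsSubcomod (k := k) (A := A) (isoComp M D) := by
  rw [isSubcomod_iff]
  intro ψ m hm
  rw [mem_isoComp_iff] at hm ⊢
  intro φ hφ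
  rw [op_op]
  apply hm
  intro d hd
  rw [LinearMap.comp_apply]
  exact hφ _ (S_mem D hD ψ d hd)

theorem isSubcomod_top : HopfRep.IsSubcomod (k := k) (A := A) (⊤ : Submodule k M) := by
  rw [isSubcomod_iff]
  intro φ x _
  trivial

theorem isSubcomod_inf (X Y : Submodule k M) (hX : HopfRep.IsSubcomod (k := k) (A := A) X)
    (hY : HopfRep.IsSubcomod (k := k) (A := A) Y) :
    HopfRep.IsSubcomod (k := k) (A := A) (X ⊓ Y) := by
  rw [isSubcomod_iff] at hX hY ⊢
  intro φ x hx
  exact ⟨hX φ x hx.1, hY φ x hx.2⟩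

/-- a nonzero subcomodule of a semisimple comodule which is the sum of its isotypic components
meets one of them -/
theorem exists_inf_isoComp_ne_bot (hss : HopfRep.IsSemisimpleComod k A M)
    (hsup : (⨆ D : SimpSub k A, isoComp M D.1) = ⊤) (N : Submodule k M)
    (hN : HopfRep.IsSubcomod (k := k) (A := A) N) (hne : N ≠ ⊥) :
    ∃ D : SimpSub k A, N ⊓ isoComp M D.1 ≠ ⊥ := by
  obtain ⟨N', hN', hc⟩ := hss N hN
  by_contra hall
  push Not at hall
  rw [isSubcomod_iff] at hN hN'
  have hle : ∀ D : SimpSub k A, isoComp M D.1 ≤ N' := by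
    intro D m hm
    have hmem : m ∈ N ⊔ N' := by rw [hc.sup_eq_top]; trivial
    obtain ⟨n, hn, n', hn', rfl⟩ := Submodule.mem_sup.mp hmem
    have hnD : n ∈ isoComp M D.1 := by
      rw [mem_isoComp_iff] at hm ⊢
      intro φ hφ
      have h0 := hm φ hφ
      rw [map_add] at h0
      have h1 : op φ n ∈ N := hN φ n hn
      have h2 : op φ n ∈ N' := by
        have : op φ n = -op φ n' := eq_neg_of_add_eq_zero_left h0
        rw [this]
        exact N'.neg_mem (hN' φ n' hn')
      have : op φ n ∈ N ⊓ N' := ⟨h1, h2⟩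
      rw [hc.inf_eq_bot, Submodule.mem_bot] at this
      exact this
    have : n ∈ N ⊓ isoComp M D.1 := ⟨hn, hnD⟩
    rw [hall D, Submodule.mem_bot] at this
    rw [this, zero_add]
    exact hn'
  have htop : N' = ⊤ := by
    rw [eq_top_iff, ← hsup]
    exact iSup_le hle
  apply hne
  rw [← inf_top_eq N, ← htop]
  exact hc.inf_eq_bot

end Iso

section HopfMod

variable {k : Type u} [Field k] {A : Type v} [CommRing A] [Bialgebra k A]
variable {R : Type w} [CommRing R] [Algebra k R] [HopfRep.Comod k A R]
variable {M : Type x} [AddCommGroup M] [Module k M] [Module R M] [IsScalarTower k R M]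
  [HopfRep.Comod k A M] [TameAct.IsHopfMod k A R M]

lemma hmSMul_mem_range (P : Submodule R M) (t : R ⊗[k] A) (u : M ⊗[k] A)
    (hu : u ∈ LinearMap.range ((P.restrictScalars k).subtype.rTensor A)) :
    TameAct.hmSMul k A R M t u ∈ LinearMap.range ((P.restrictScalars k).subtype.rTensor A) := by
  obtain ⟨u', rfl⟩ := hu
  induction t using TensorProduct.induction_on with
  | zero => simp
  | tmul a α =>
    induction u' using TensorProduct.induction_on with
    | zero => simp
    | tmul j β =>
      refine ⟨(⟨a • j.1, P.smul_mem a j.2⟩ : P.restrictScalars k) ⊗ₜ[k] (α * β), ?_⟩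
      simp
    | add y z hy hz => rw [map_add, map_add]; exact Submodule.add_mem _ hy hz
  | add y z hy hz => rw [map_add, LinearMap.add_apply]; exact Submodule.add_mem _ hy hz

theorem isSubcomod_span (X : Set M)
    (hX : ∀ y ∈ X, HopfRep.Comod.coact (k := k) (A := A) y ∈
      LinearMap.range (((Submodule.span R X).restrictScalars k).subtype.rTensor A)) :
    HopfRep.IsSubcomod (k := k) (A := A) ((Submodule.span R X).restrictScalars k) := by
  intro c hc
  have hc' : c ∈ Submodule.span R X := hc
  induction hc' using Submodule.span_induction with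
  | mem y hy => exact hX y hy
  | zero => rw [map_zero]; exact Submodule.zero_mem _
  | add y z _ _ hy hz => rw [map_add]; exact Submodule.add_mem _ (hy ‹_›) (hz ‹_›)
  | smul a y hy' hy =>
    rw [TameAct.IsHopfMod.coact_smul (k := k) (A := A)]
    exact hmSMul_mem_range _ _ _ (hy hy')

theorem isSubcomod_genIn (S : Set (SimpSub k A)) (N : Submodule R M)
    (hN : HopfRep.IsSubcomod (k := k) (A := A) (N.restrictScalars k)) :
    HopfRep.IsSubcomod (k := k) (A := A) ((genIn k A R M S N).restrictScalars k) := by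
  unfold genIn
  apply isSubcomod_span
  intro y hy
  simp only [Set.mem_iUnion] at hy
  obtain ⟨D, hDS, hyD⟩ := hy
  have hW : HopfRep.IsSubcomod (k := k) (A := A) (N.restrictScalars k ⊓ isoComp M D.1) :=
    isSubcomod_inf _ _ hN (isSubcomod_isoComp D.1 D.2.2.1)
  have h1 := hW y hyD
  rw [mem_range_rTensor_iff] at h1 ⊢
  intro φ
  have h2 := h1 φ
  apply Submodule.subset_span
  simp only [Set.mem_iUnion]
  exact ⟨D, hDS, h2⟩

theorem genIn_le (S : Set (SimpSub k A)) (N : Submodule R M) : genIn k A R M S N ≤ N := by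
  unfold genIn
  rw [Submodule.span_le]
  intro y hy
  simp only [Set.mem_iUnion] at hy
  obtain ⟨D, _, hyD⟩ := hy
  exact hyD.1

theorem inf_isoComp_le_genIn (S : Set (SimpSub k A)) (N : Submodule R M) (D : SimpSub k A)
    (hD : D ∈ S) :
    N.restrictScalars k ⊓ isoComp M D.1 ≤ (genIn k A R M S N).restrictScalars k := by
  intro y hy
  apply Submodule.subset_span
  simp only [Set.mem_iUnion]
  exact ⟨D, hD, hy⟩

theorem genIn_inf_isoComp (S : Set (SimpSub k A)) (N : Submodule R M) (D : SimpSub k A)
    (hD : D ∈ S) :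
    (genIn k A R M S N).restrictScalars k ⊓ isoComp M D.1 =
      N.restrictScalars k ⊓ isoComp M D.1 := by
  apply le_antisymm
  · exact inf_le_inf_right _ (genIn_le S N)
  · exact le_inf (inf_isoComp_le_genIn S N D hD) inf_le_right

theorem genIn_genIn (S : Set (SimpSub k A)) (N : Submodule R M) :
    genIn k A R M S (genIn k A R M S N) = genIn k A R M S N := by
  have : (⋃ D ∈ S, (((genIn k A R M S N).restrictScalars k ⊓ isoComp M D.1 : Submodule k M) : Set M)) =
      ⋃ D ∈ S, ((N.restrictScalars k ⊓ isoComp M D.1 : Submodule k M) : Set M) := by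
    apply Set.iUnion_congr
    intro D
    apply Set.iUnion_congr
    intro hD
    rw [genIn_inf_isoComp S N D hD]
  show Submodule.span R (⋃ D ∈ S, (((genIn k A R M S N).restrictScalars k ⊓ isoComp M D.1 :
    Submodule k M) : Set M)) = _
  rw [this]
  rfl

end HopfMod

section Numeric

variable {k : Type u} [Field k] {A : Type v} [AddCommGroup A] [Module k A] [Coalgebra k A]
variable {R : Type w} [CommRing R] [Algebra k R]
variable {M : Type x} [AddCommGroup M] [Module k M] [Module R M] [IsScalarTower k R M]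
  [HopfRep.Comod k A M]
variable {h : SimpSub k A → ℕ} {θ : SimpSub k A → ℚ}

lemma hilbAt_le (hM : IsConstellation k A R M h) (N : Submodule k M) (D : SimpSub k A) :
    hilbAt M N D ≤ h D := by
  haveI := (hM.2.2 D).1
  rw [← (hM.2.2 D).2]
  exact Submodule.finrank_mono inf_le_right

lemma hilbAt_top (hM : IsConstellation k A R M h) (D : SimpSub k A) :
    hilbAt M (⊤ : Submodule k M) D = h D := by
  unfold hilbAt
  rw [top_inf_eq]
  exact (hM.2.2 D).2

lemma hilbAt_mono (hM : IsConstellation k A R M h) {N N' : Submodule k M} (hle : N ≤ N')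
    (D : SimpSub k A) : hilbAt M N D ≤ hilbAt M N' D := by
  haveI := (hM.2.2 D).1
  haveI : FiniteDimensional k ↥(N' ⊓ isoComp M D.1) :=
    Submodule.finiteDimensional_of_le inf_le_right
  exact Submodule.finrank_mono (inf_le_inf_right _ hle)

lemma hilbAt_eq_zero {N : Submodule k M} {D : SimpSub k A} (h0 : N ⊓ isoComp M D.1 = ⊥) :
    hilbAt M N D = 0 := by
  unfold hilbAt
  rw [h0]
  exact finrank_bot k M

lemma hilbAt_pos (hM : IsConstellation k A R M h) {N : Submodule k M} {D : SimpSub k A}
    (h0 : N ⊓ isoComp M D.1 ≠ ⊥) : 0 < hilbAt M N D := by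
  haveI := (hM.2.2 D).1
  haveI : FiniteDimensional k ↥(N ⊓ isoComp M D.1) :=
    Submodule.finiteDimensional_of_le inf_le_right
  haveI : Nontrivial ↥(N ⊓ isoComp M D.1) := Submodule.nontrivial_iff_ne_bot.mpr h0
  exact Module.finrank_pos

lemma summable_theta (hM : IsConstellation k A R M h)
    (hsum : Summable (fun D => (θ D : ℝ) * (h D : ℝ))) (N : Submodule k M) :
    Summable (fun D => (θ D : ℝ) * (hilbAt M N D : ℝ)) := by
  refine Summable.of_norm_bounded hsum.abs ?_
  intro D
  rw [Real.norm_eq_abs, abs_mul, abs_mul]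
  apply mul_le_mul_of_nonneg_left _ (abs_nonneg _)
  rw [abs_of_nonneg (Nat.cast_nonneg _), abs_of_nonneg (Nat.cast_nonneg _)]
  exact_mod_cast hilbAt_le hM N D

lemma theta_top (hM : IsConstellation k A R M h)
    (hsum : HasSum (fun D => (θ D : ℝ) * (h D : ℝ)) 0) : theta M θ (⊤ : Submodule k M) = 0 := by
  unfold theta
  have : (fun D : SimpSub k A => (θ D : ℝ) * (hilbAt M (⊤ : Submodule k M) D : ℝ)) =
      fun D => (θ D : ℝ) * (h D : ℝ) := by
    funext D
    rw [hilbAt_top hM D]
  rw [this]
  exact hsum.tsum_eq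

lemma theta_le_of (hM : IsConstellation k A R M h)
    (hsum : Summable (fun D => (θ D : ℝ) * (h D : ℝ))) {N N' : Submodule k M} (hle : N ≤ N')
    (hneg : ∀ D, θ D < 0 → N ⊓ isoComp M D.1 = N' ⊓ isoComp M D.1) :
    theta M θ N ≤ theta M θ N' := by
  unfold theta
  refine Summable.tsum_le_tsum ?_ (summable_theta hM hsum N) (summable_theta hM hsum N')
  intro D
  by_cases hD : θ D < 0
  · have : hilbAt M N D = hilbAt M N' D := by
      unfold hilbAt
      rw [hneg D hD]
    rw [this]
  · push Not at hD
    apply mul_le_mul_of_nonneg_left _ (by exact_mod_cast hD)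
    exact_mod_cast hilbAt_mono hM hle D

lemma theta_pos_of (hM : IsConstellation k A R M h)
    (hsum : Summable (fun D => (θ D : ℝ) * (h D : ℝ))) {N : Submodule k M}
    (hneg : ∀ D, θ D < 0 → N ⊓ isoComp M D.1 = ⊥) (D₁ : SimpSub k A)
    (hD₁ : N ⊓ isoComp M D₁.1 ≠ ⊥) (hθ : 0 < θ D₁) : 0 < theta M θ N := by
  unfold theta
  refine Summable.tsum_pos (summable_theta hM hsum N) ?_ D₁ ?_
  · intro D
    by_cases hD : θ D < 0
    · rw [hilbAt_eq_zero (hneg D hD)]
      simp
    · push Not at hD
      exact mul_nonneg (by exact_mod_cast hD) (Nat.cast_nonneg _)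
  · apply mul_pos (by exact_mod_cast hθ)
    exact_mod_cast hilbAt_pos hM hD₁

lemma theta_bot : theta M θ (⊥ : Submodule k M) = 0 := by
  unfold theta
  have : (fun D : SimpSub k A => (θ D : ℝ) * (hilbAt M (⊥ : Submodule k M) D : ℝ)) = fun _ => 0 := by
    funext D
    rw [hilbAt_eq_zero (bot_inf_eq _)]
    simp
  rw [this]
  exact tsum_zero

/-- if the weight of `N` equals the total weight `0` and `N` contains the negative parts, then all
isotypic dimensions of `N` with non-zero weight agree with those of `M`. -/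
lemma mul_hilbAt_eq_of_theta_eq (hM : IsConstellation k A R M h)
    (hsum : HasSum (fun D => (θ D : ℝ) * (h D : ℝ)) 0) {N : Submodule k M}
    (hneg : ∀ D, θ D < 0 → N ⊓ isoComp M D.1 = isoComp M D.1)
    (h0 : theta M θ N = 0) (D : SimpSub k A) :
    (θ D : ℝ) * (hilbAt M N D : ℝ) = (θ D : ℝ) * (h D : ℝ) := by
  have ha := (summable_theta hM hsum.summable N).hasSum
  have ha' : HasSum (fun D => (θ D : ℝ) * (hilbAt M N D : ℝ)) 0 := by
    have : theta M θ N = ∑' D, (θ D : ℝ) * (hilbAt M N D : ℝ) := rfl
    rw [← this, h0] at ha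
    exact ha
  have hd := hsum.sub ha'
  rw [sub_zero] at hd
  have hnn : ∀ D, 0 ≤ (θ D : ℝ) * (h D : ℝ) - (θ D : ℝ) * (hilbAt M N D : ℝ) := by
    intro D
    rw [sub_nonneg]
    by_cases hD : θ D < 0
    · have : hilbAt M N D = h D := by
        unfold hilbAt
        rw [hneg D hD]
        exact (hM.2.2 D).2
      rw [this]
    · push Not at hD
      apply mul_le_mul_of_nonneg_left _ (by exact_mod_cast hD)
      exact_mod_cast hilbAt_le hM N D
  have hz := (hasSum_zero_iff_of_nonneg hnn).mp hd
  have := congr_fun hz D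
  simp only [Pi.zero_apply] at this
  linarith

end Numeric

section LinRed

variable {k : Type u} [Field k] {A : Type v} [CommRing A] [HopfAlgebra k A]

theorem semisimple_of_linRed (hred : HopfRep.IsLinearlyReductive k A)
    (M : Type x) [AddCommGroup M] [Module k M] [HopfRep.Comod k A M] :
    HopfRep.IsSemisimpleComod k A M := by
  obtain ⟨α, hα, h1⟩ := Groth.Agent.Lib.helper28.LinRed.hasTotInt_of_isLinearlyReductive hred
  exact Groth.Agent.S18812.result k A α hα h1 M

end LinRed

end Groth.Agent.Lib.helper29.Theta
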