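import Mathlib

set_option autoImplicit false
universe u
namespace Groth.Agent.H29.TrLen

/-- Trace additivity for an endomorphism preserving a subspace. -/
theorem trace_eq_restrict_add_mapQ {k V : Type*} [Field k] [AddCommGroup V] [Module k V]
    [FiniteDimensional k V] (N : Submodule k V) (f : V →ₗ[k] V) (hN : N ≤ N.comap f) :
    LinearMap.trace k V f =
      LinearMap.trace k N (f.restrict hN) + LinearMap.trace k (V ⧸ N) (N.mapQ N f hN) := by
  obtain ⟨N', hc⟩ := N.exists_isCompl
  let π : V →ₗ[k] N := N.projectionOnto N' hc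
  let σ : (V ⧸ N) ≃ₗ[k] N' := Submodule.quotientEquivOfIsCompl N N' hc
  let s : (V ⧸ N) →ₗ[k] V := N'.subtype ∘ₗ σ.toLinearMap
  have hs : ∀ x, N.mkQ (s x) = x := fun x => Submodule.mk_quotientEquivOfIsCompl_apply hc x
  have hid : (LinearMap.id : V →ₗ[k] V) = N.subtype ∘ₗ π + s ∘ₗ N.mkQ := by
    ext v
    simp only [LinearMap.id_coe, id_eq, LinearMap.add_apply, LinearMap.coe_comp, Function.comp_apply,
      Submodule.coe_subtype]
    have h1 : v - s (N.mkQ v) ∈ N := by
      have h0 : N.mkQ (v - s (N.mkQ v)) = 0 := by rw [map_sub, hs, sub_self]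
      exact (Submodule.Quotient.mk_eq_zero N).mp h0
    have h2 : s (N.mkQ v) ∈ N' := (σ (N.mkQ v)).2
    have h3 : π (v - s (N.mkQ v)) = ⟨v - s (N.mkQ v), h1⟩ :=
      Submodule.projectionOnto_apply_left hc ⟨_, h1⟩
    have h4 : π (s (N.mkQ v)) = 0 :=
      (Submodule.projectionOnto_apply_eq_zero_iff hc).mpr h2
    have h5 : π v = ⟨v - s (N.mkQ v), h1⟩ := by
      have : v = (v - s (N.mkQ v)) + s (N.mkQ v) := by abel
      conv_lhs => rw [this]
      rw [map_add, h3, h4, add_zero]
    rw [h5]
    exact (sub_add_cancel v _).symm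
  have e1 : LinearMap.trace k V f = LinearMap.trace k V (f ∘ₗ (N.subtype ∘ₗ π)) +
      LinearMap.trace k V (f ∘ₗ (s ∘ₗ N.mkQ)) := by
    rw [← map_add, ← LinearMap.comp_add, ← hid, LinearMap.comp_id]
  have e2 : LinearMap.trace k V (f ∘ₗ (N.subtype ∘ₗ π)) = LinearMap.trace k N (f.restrict hN) := by
    rw [← LinearMap.comp_assoc, LinearMap.trace_comp_comm']
    congr 1
    ext x
    simp only [LinearMap.coe_comp, Function.comp_apply, Submodule.coe_subtype,
      LinearMap.coe_restrict_apply]
    have : π (f x) = ⟨f x, hN x.2⟩ := Submodule.projectionOnto_apply_left hc ⟨_, hN x.2⟩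
    rw [this]
  have e3 : LinearMap.trace k V (f ∘ₗ (s ∘ₗ N.mkQ)) =
      LinearMap.trace k (V ⧸ N) (N.mapQ N f hN) := by
    rw [← LinearMap.comp_assoc, LinearMap.trace_comp_comm']
    congr 1
    refine LinearMap.ext fun x => ?_
    simp only [LinearMap.coe_comp, Function.comp_apply]
    have h6 : N.mkQ (f (s x)) = N.mapQ N f hN (N.mkQ (s x)) := rfl
    rw [h6, hs]
  rw [e1, e2, e3]

/-- Trace of scalar multiplication is invariant under `A`-linear isomorphisms. -/
theorem trace_lsmul_congr {k A M M' : Type*} [Field k] [CommRing A] [Algebra k A]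
    [AddCommGroup M] [Module A M] [Module k M] [IsScalarTower k A M]
    [AddCommGroup M'] [Module A M'] [Module k M'] [IsScalarTower k A M']
    (e : M ≃ₗ[A] M') (a : A) :
    LinearMap.trace k M ((LinearMap.lsmul A M a).restrictScalars k) =
      LinearMap.trace k M' ((LinearMap.lsmul A M' a).restrictScalars k) := by
  rw [← LinearMap.trace_conj' ((LinearMap.lsmul A M a).restrictScalars k) (e.restrictScalars k)]
  congr 1
  refine LinearMap.ext fun x => ?_
  rw [LinearEquiv.conj_apply]
  simp only [LinearMap.coe_comp, LinearEquiv.coe_coe, Function.comp_apply,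
    LinearMap.coe_restrictScalars, LinearMap.lsmul_apply, LinearEquiv.restrictScalars_apply,
    LinearEquiv.restrictScalars_symm_apply, map_smul, LinearEquiv.apply_symm_apply]

/-- The `k`-linear identification of `N.restrictScalars k` with `N`. -/
def rsEquiv (k : Type*) {A M : Type*} [Field k] [CommRing A] [Algebra k A]
    [AddCommGroup M] [Module A M] [Module k M] [IsScalarTower k A M] (N : Submodule A M) :
    ↥(N.restrictScalars k) ≃ₗ[k] ↥N where
  toFun x := ⟨x.1, x.2⟩
  invFun x := ⟨x.1, x.2⟩
  map_add' _ _ := rfl
  map_smul' _ _ := rfl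
  left_inv _ := rfl
  right_inv _ := rfl

theorem trace_lsmul_eq (k : Type u) [Field k] (A : Type u) [CommRing A] [Algebra k A]
    [IsLocalRing A] :
    ∀ (n : ℕ) (M : Type u) [AddCommGroup M] [Module A M] [Module k M] [IsScalarTower k A M]
      [Module.Finite k M], (Module.length A M).toNat = n → ∀ a : A,
      LinearMap.trace k M ((LinearMap.lsmul A M a).restrictScalars k) =
        (n : k) * Algebra.trace k (IsLocalRing.ResidueField A) (IsLocalRing.residue A a) := by
  intro n
  induction n with
  | zero =>
    intro M _ _ _ _ _ hlen a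
    haveI : IsNoetherian A M := isNoetherian_of_tower k inferInstance
    haveI : IsArtinian A M := isArtinian_of_tower k inferInstance
    have hfin : Module.length A M ≠ ⊤ := Module.length_ne_top
    have h0 : Module.length A M = 0 := by
      rcases (ENat.toNat_eq_zero).mp hlen with h | h
      · exact h
      · exact absurd h hfin
    haveI : Subsingleton M := Module.length_eq_zero_iff.mp h0
    have : (LinearMap.lsmul A M a).restrictScalars k = 0 :=
      LinearMap.ext fun x => Subsingleton.elim _ _
    rw [this, map_zero, Nat.cast_zero, zero_mul]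
  | succ n ih =>
    intro M _ _ _ _ _ hlen a
    haveI : IsNoetherian A M := isNoetherian_of_tower k inferInstance
    haveI : IsArtinian A M := isArtinian_of_tower k inferInstance
    have hfin : Module.length A M ≠ ⊤ := Module.length_ne_top
    haveI : Nontrivial M := by
      by_contra h
      rw [not_nontrivial_iff_subsingleton] at h
      have h0 : Module.length A M = 0 := Module.length_eq_zero_iff.mpr h
      rw [h0] at hlen
      simp at hlen
    obtain ⟨N, hN⟩ := IsAtomic.exists_atom (Submodule A M)
    haveI hsimple : IsSimpleModule A N := isSimpleModule_iff_isAtom.mpr hN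
    obtain ⟨I, hI, ⟨e⟩⟩ := isSimpleModule_iff_quot_maximal.mp hsimple
    have hIm : I = IsLocalRing.maximalIdeal A := IsLocalRing.eq_maximalIdeal hI
    subst hIm
    have hadd : Module.length A M = Module.length A N + Module.length A (M ⧸ N) :=
      Module.length_eq_add_of_exact N.subtype N.mkQ N.injective_subtype N.mkQ_surjective
        (LinearMap.exact_subtype_mkQ N)
    rw [Module.length_eq_one A N] at hadd
    have hQfin : Module.length A (M ⧸ N) ≠ ⊤ := Module.length_ne_top
    have hlenQ : (Module.length A (M ⧸ N)).toNat = n := by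
      have := congrArg ENat.toNat hadd
      rw [hlen, ENat.toNat_add (by simp) hQfin] at this
      simp at this
      omega
    haveI : Module.Finite k (M ⧸ N) :=
      Module.Finite.of_surjective (N.mkQ.restrictScalars k) N.mkQ_surjective
    set f : M →ₗ[k] M := (LinearMap.lsmul A M a).restrictScalars k with hf
    have hNf : N.restrictScalars k ≤ (N.restrictScalars k).comap f := by
      intro x hx
      exact N.smul_mem a hx
    rw [trace_eq_restrict_add_mapQ (N.restrictScalars k) f hNf]
    have t1 : LinearMap.trace k _ (f.restrict hNf) =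
        Algebra.trace k (IsLocalRing.ResidueField A) (IsLocalRing.residue A a) := by
      rw [← LinearMap.trace_conj' (f.restrict hNf) (rsEquiv k N)]
      have h1 : (rsEquiv k N).conj (f.restrict hNf) = (LinearMap.lsmul A N a).restrictScalars k :=
        LinearMap.ext fun x => rfl
      rw [h1, trace_lsmul_congr (k := k) e a, Algebra.trace_apply]
      congr 1
    have t2 : LinearMap.trace k _ ((N.restrictScalars k).mapQ (N.restrictScalars k) f hNf) =
        LinearMap.trace k (M ⧸ N) ((LinearMap.lsmul A (M ⧸ N) a).restrictScalars k) := by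
      rw [← LinearMap.trace_conj' _ (Submodule.Quotient.restrictScalarsEquiv k N)]
      congr 1
      refine LinearMap.ext fun x => ?_
      obtain ⟨y, rfl⟩ := Submodule.Quotient.mk_surjective _ x
      rfl
    rw [t1, t2, ih (M ⧸ N) hlenQ a]
    push_cast
    ring

/-- `Tr_{C/k}(a) = length(C) · Tr_{κ/k}(ā)` for a finite local `k`-algebra `C`. -/
theorem algebra_trace_eq (k : Type u) [Field k] (C : Type u) [CommRing C] [Algebra k C]
    [IsLocalRing C] [Module.Finite k C] (a : C) :
    Algebra.trace k C a = ((Module.length C C).toNat : k) *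
      Algebra.trace k (IsLocalRing.ResidueField C) (IsLocalRing.residue C a) := by
  rw [Algebra.trace_apply]
  have h : Algebra.lmul k C a = (LinearMap.lsmul C C a).restrictScalars k :=
    LinearMap.ext fun x => rfl
  rw [h]
  exact trace_lsmul_eq k C _ C rfl a

instance finite_residueField (k : Type u) [Field k] (C : Type u) [CommRing C] [Algebra k C]
    [IsLocalRing C] [Module.Finite k C] : Module.Finite k (IsLocalRing.ResidueField C) :=
  Module.Finite.of_surjective
    ((IsScalarTower.toAlgHom k C (IsLocalRing.ResidueField C)).toLinearMap)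
    IsLocalRing.residue_surjective

theorem trace_surjective_iff (k : Type u) [Field k] (C : Type u) [CommRing C] [Algebra k C]
    [IsLocalRing C] [Module.Finite k C] :
    Function.Surjective (Algebra.trace k C) ↔
      (Algebra.IsSeparable k (IsLocalRing.ResidueField C) ∧
        ((Module.length C C).toNat : k) ≠ 0) := by
  have key := fun a => algebra_trace_eq k C a
  constructor
  · intro hsurj
    obtain ⟨a, ha⟩ := hsurj 1
    rw [key] at ha
    constructor
    · by_contra hsep
      rw [Algebra.trace_eq_zero_of_not_isSeparable hsep] at ha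
      simp at ha
    · intro h0
      rw [h0, zero_mul] at ha
      exact zero_ne_one ha
  · rintro ⟨hsep, hl⟩ c
    obtain ⟨x, hx⟩ := Algebra.trace_surjective k (IsLocalRing.ResidueField C)
      (c / ((Module.length C C).toNat : k))
    obtain ⟨a, rfl⟩ := IsLocalRing.residue_surjective x
    exact ⟨a, by rw [key, hx, mul_div_cancel₀ _ hl]⟩

theorem length_pos (C : Type u) [CommRing C] [Nontrivial C] [IsArtinianRing C] :
    0 < (Module.length C C).toNat := by
  have hfin : Module.length C C ≠ ⊤ := Module.length_ne_top
  have h0 : Module.length C C ≠ 0 := by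
    rw [Ne, Module.length_eq_zero_iff]
    exact not_subsingleton C
  rw [Nat.pos_iff_ne_zero, Ne, ENat.toNat_eq_zero]
  tauto

theorem cast_ne_zero_iff (k : Type u) [Field k] (l : ℕ) (hl : 0 < l) :
    ((l : k) ≠ 0) ↔ ∀ p : ℕ, p.Prime → CharP k p → ¬ p ∣ l := by
  constructor
  · intro h p _ hcp hdvd
    exact h ((CharP.cast_eq_zero_iff k p l).mpr hdvd)
  · intro h h0
    obtain ⟨p, hp⟩ := CharP.exists k
    rcases CharP.char_is_prime_or_zero k p with hpp | hp0
    · exact h p hpp hp ((CharP.cast_eq_zero_iff k p l).mp h0)
    · subst hp0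
      haveI : CharZero k := CharP.charP_to_charZero k
      rw [Nat.cast_eq_zero] at h0
      omega

theorem ne_zero_iff_surjective {k V : Type*} [Field k] [AddCommGroup V] [Module k V]
    (φ : V →ₗ[k] k) : φ ≠ 0 ↔ Function.Surjective φ := by
  constructor
  · intro h c
    obtain ⟨v, hv⟩ : ∃ v, φ v ≠ 0 := by
      by_contra hcon
      push_neg at hcon
      exact h (LinearMap.ext hcon)
    exact ⟨(c / φ v) • v, by rw [map_smul, smul_eq_mul, div_mul_cancel₀ _ hv]⟩
  · intro h h0
    obtain ⟨v, hv⟩ := h 1
    rw [h0] at hv
    exact zero_ne_one hv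

end Groth.Agent.H29.TrLen
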